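import Cfsg.Agent.OddHalf.D6.QThree.NIB.Hyp
import Cfsg.Agent.SmallSimple.Parity

/-!
# ODD half, D6, `K = L₄(3)`, `T < S`, NI, case (alpha), part (C) (helper253; text: helper76 #17200)

`N` perfect, `z` a central involution, `t` an involution, `A = C_N(t)` elementary abelian of order at most eight:
some `n ∈ N` maps `t` to `t z` and commutes with some `b ∈ A - ⟨t, z⟩`.
-/

set_option autoImplicit false

namespace Cfsg.Agent.OddHalf.D6.QThree.L43.AlphaC

open Subgroup
open Cfsg.Agent.OddHalf.D6.QThree.NIB (T4)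

section Count

variable {N : Type*} [Group N]

/-- the subgroup `{1, u, v, u v}` -/
def V4 {u v : N} (uu : u * u = 1) (vv : v * v = 1) (uv : u * v = v * u) : Subgroup N where
  carrier := {x | x = 1 ∨ x = u ∨ x = v ∨ x = u * v}
  one_mem' := Or.inl rfl
  mul_mem' := by
    have h1 : u * (u * v) = v := by rw [← mul_assoc, uu, one_mul]
    have h2 : v * (u * v) = u := by rw [uv, ← mul_assoc, vv, one_mul]
    have h3 : u * v * u = v := by rw [uv, mul_assoc, uu, mul_one]
    have h4 : u * v * v = u := by rw [mul_assoc, vv, mul_one]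
    have h5 : u * v * (u * v) = 1 := by rw [mul_assoc, h2, uu]
    rintro x y (rfl | rfl | rfl | rfl) (rfl | rfl | rfl | rfl) <;>
      simp only [Set.mem_ofPred_eq, one_mul, mul_one, true_or, or_true, uu, vv, h1, h2, h3, h4, h5, ← uv]
  inv_mem' := by
    have hu : u⁻¹ = u := inv_eq_of_mul_eq_one_right uu
    have hv : v⁻¹ = v := inv_eq_of_mul_eq_one_right vv
    rintro x (rfl | rfl | rfl | rfl)
    · left; exact inv_one
    · right; left; exact hu
    · right; right; left; exact hv
    · right; right; right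
      rw [mul_inv_rev, hu, hv, uv]

theorem mem_V4 {u v : N} {uu : u * u = 1} {vv : v * v = 1} {uv : u * v = v * u} {x : N} :
    x ∈ V4 uu vv uv ↔ x = 1 ∨ x = u ∨ x = v ∨ x = u * v := Iff.rfl

theorem card_V4 {u v : N} (uu : u * u = 1) (vv : v * v = 1) (uv : u * v = v * u) (u1 : u ≠ 1) (v1 : v ≠ 1)
    (huv : u ≠ v) : Nat.card (V4 uu vv uv) = 4 := by
  classical
  have h1 : ((V4 uu vv uv : Subgroup N) : Set N) = (({1, u, v, u * v} : Finset N) : Set N) := by
    ext x
    simp only [SetLike.mem_coe, mem_V4, Finset.coe_insert, Finset.coe_singleton, Set.mem_insert_iff,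
      Set.mem_singleton_iff]
  have h2 : Nat.card (V4 uu vv uv) = ((V4 uu vv uv : Subgroup N) : Set N).ncard := rfl
  rw [h2, h1, Set.ncard_coe_finset]
  have e1 : (1 : N) ≠ u * v := fun e => huv (by
    have : u⁻¹ = v := inv_eq_of_mul_eq_one_right e.symm
    rw [← this, inv_eq_of_mul_eq_one_right uu])
  have e2 : u ≠ u * v := fun e => v1 (mul_eq_left.1 e.symm)
  have e3 : v ≠ u * v := fun e => u1 (mul_eq_right.1 e.symm)
  rw [Finset.card_insert_of_notMem, Finset.card_insert_of_notMem, Finset.card_insert_of_notMem,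
    Finset.card_singleton]
  · simpa using e3
  · simp only [Finset.mem_insert, Finset.mem_singleton, not_or]
    exact ⟨huv, e2⟩
  · simp only [Finset.mem_insert, Finset.mem_singleton, not_or]
    exact ⟨u1.symm, v1.symm, e1⟩

/-- parity of the fixed points of an involution of a perfect group -/
theorem parity [Finite N] (hp : commutator N = ⊤) (H : Subgroup N) {g : N} (gg : g * g = 1) :
    ∃ k, Nat.card (N ⧸ H) = Nat.card {x : N ⧸ H // g • x = x} + 4 * k := by
  classical
  have : Fintype (N ⧸ H) := Fintype.ofFinite _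
  have h1 : (MulAction.toPermHom N (N ⧸ H) g) ^ 2 = 1 := by rw [← map_pow, pow_two, gg, map_one]
  have h2 : Equiv.Perm.sign (MulAction.toPermHom N (N ⧸ H) g) = 1 := by
    have h3 : commutator N ≤ (Equiv.Perm.sign.comp (MulAction.toPermHom N (N ⧸ H))).ker :=
      Abelianization.commutator_subset_ker _
    have h4 : g ∈ commutator N := by rw [hp]; exact mem_top g
    exact h3 h4
  exact Cfsg.Agent.SmallSimple.Parity.card_modEq_four_of_sign _ h1 h2

theorem smul_eq_iff {H : Subgroup N} {g x : N} : g • (x : N ⧸ H) = x ↔ x⁻¹ * g * x ∈ H := by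
  rw [MulAction.Quotient.smul_mk, smul_eq_mul, QuotientGroup.eq]
  have e : (g * x)⁻¹ * x = (x⁻¹ * g * x)⁻¹ := by group
  rw [e, inv_mem_iff]

/-- two fixed points -/
theorem card_two {H : Subgroup N} {g u : N} (hg : g ∈ H) (hu : u⁻¹ * g * u ∈ H) (huH : u ∉ H)
    (h : ∀ x, x⁻¹ * g * x ∈ H → x ∈ H ∨ u⁻¹ * x ∈ H) : Nat.card {x : N ⧸ H // g • x = x} = 2 := by
  rw [Nat.card_eq_two_iff]
  refine ⟨⟨((1 : N) : N ⧸ H), smul_eq_iff.2 (by simpa using hg)⟩, ⟨(u : N ⧸ H), smul_eq_iff.2 hu⟩, ?_, ?_⟩
  · intro e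
    have e1 : ((1 : N) : N ⧸ H) = u := congrArg Subtype.val e
    rw [QuotientGroup.eq] at e1
    exact huH (by simpa using e1)
  · ext ⟨x, hx⟩
    obtain ⟨x, rfl⟩ := QuotientGroup.mk_surjective x
    simp only [Set.mem_insert_iff, Set.mem_singleton_iff, Set.mem_univ, iff_true, Subtype.mk.injEq]
    rcases h x (smul_eq_iff.1 hx) with h1 | h1
    · left
      rw [QuotientGroup.eq, mul_one]
      exact H.inv_mem h1
    · right
      rw [eq_comm, QuotientGroup.eq]
      exact h1

/-- no fixed point -/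
theorem card_zero {H : Subgroup N} {g : N} (h : ∀ x, x⁻¹ * g * x ∉ H) :
    Nat.card {x : N ⧸ H // g • x = x} = 0 := by
  have : IsEmpty {x : N ⧸ H // g • x = x} := ⟨fun ⟨x, hx⟩ => by
    obtain ⟨x, rfl⟩ := QuotientGroup.mk_surjective x
    exact h x (smul_eq_iff.1 hx)⟩
  exact Nat.card_of_isEmpty

end Count

section Main

variable {N : Type*} [Group N] [Finite N] {t z : N}

/-- `t` is conjugate to `t z` -/
theorem exists_conj (hp : commutator N = ⊤) (tt : t * t = 1) (t1 : t ≠ 1) (zz : z * z = 1) (z1 : z ≠ 1) (tz : t ≠ z)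
    (zc : ∀ x, x * z = z * x)
    (hA : ∀ a b, a * t = t * a → b * t = t * b → ¬ T4 z t a → ¬ T4 z t b → T4 z t (a * b))
    (hsq : ∀ a, a * t = t * a → a * a = 1) :
    ∃ n : N, n * t * n⁻¹ = t * z ∧ ∃ b, b * t = t * b ∧ ¬ T4 z t b := by
  have htz : z * t = t * z := (zc t).symm
  have hconjz : ∀ x : N, x⁻¹ * z * x = z := fun x => by rw [mul_assoc, ← zc x, inv_mul_cancel_left]
  have hind : ∀ H : Subgroup N, Nat.card (N ⧸ H) = H.index := fun H => rfl
  -- conjugates of `t`
  have hconj : ∀ x : N, x⁻¹ * t * x ≠ 1 ∧ x⁻¹ * t * x ≠ z := by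
    intro x
    refine ⟨fun e => t1 ?_, fun e => tz ?_⟩
    · calc t = x * (x⁻¹ * t * x) * x⁻¹ := by group
        _ = 1 := by rw [e]; group
    · calc t = x * (x⁻¹ * t * x) * x⁻¹ := by group
        _ = x * z * x⁻¹ := by rw [e]
        _ = z := by rw [zc x, mul_inv_cancel_right]
  have hcomm : ∀ x : N, x⁻¹ * t * x = t → x * t = t * x := by
    intro x e
    calc x * t = x * (x⁻¹ * t * x) := by rw [e]
      _ = t * x := by group
  by_cases hb : ∃ b, b * t = t * b ∧ ¬ T4 z t b
  swap
  · -- `C(t) = ⟨t, z⟩`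
    exfalso
    push Not at hb
    have tpow : ∀ x, x ∈ zpowers t ↔ x = 1 ∨ x = t := by
      intro x
      constructor
      · intro hx
        obtain ⟨i, rfl⟩ := mem_zpowers_iff.1 hx
        have t2 : t ^ (2 : ℤ) = 1 := by rw [show (2 : ℤ) = 1 + 1 by norm_num, zpow_add, zpow_one, tt]
        rcases Int.even_or_odd' i with ⟨k, hk | hk⟩
        · left; rw [hk, zpow_mul, t2, one_zpow]
        · right; rw [hk, zpow_add, zpow_mul, t2, one_zpow, one_mul, zpow_one]
      · rintro (rfl | rfl)
        · exact one_mem _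
        · exact mem_zpowers _
    obtain ⟨k₁, h1⟩ := parity hp (zpowers t) tt
    obtain ⟨k₂, h2⟩ := parity hp (zpowers t) zz
    rw [card_zero (fun x hx => by
      rw [hconjz, tpow] at hx
      rcases hx with e | e
      · exact z1 e
      · exact tz e.symm)] at h2
    rw [card_two (u := z) (mem_zpowers t) (by
      rw [mul_assoc, zc t, inv_mul_cancel_left]; exact mem_zpowers t) (by
      rw [tpow]
      rintro (e | e)
      · exact z1 e
      · exact tz e.symm) (by
      intro x hx
      rw [tpow] at hx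
      rcases hx with e | e
      · exact absurd e (hconj x).1
      · rcases hb x (hcomm x e) with h3 | h3 | h3 | h3
        · left; rw [h3]; exact one_mem _
        · right; rw [h3, inv_mul_cancel]; exact one_mem _
        · left; rw [h3]; exact mem_zpowers t
        · right
          rw [h3, ← htz, inv_mul_cancel_left]
          exact mem_zpowers t)] at h1
    omega
  obtain ⟨b, hbt, hbT⟩ := hb
  suffices hn : ∃ n : N, n * t * n⁻¹ = t * z by
    obtain ⟨n, hn⟩ := hn
    exact ⟨n, hn, b, hbt, hbT⟩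
  by_contra hcon
  push Not at hcon
  have hbb := hsq b hbt
  have b1 : b ≠ 1 := fun e => hbT (Or.inl e)
  have hbtne : t ≠ b := fun e => hbT (Or.inr (Or.inr (Or.inl e.symm)))
  have hzH : z ∉ V4 tt hbb hbt.symm := by
    rw [mem_V4]
    rintro (e | e | e | e)
    · exact z1 e
    · exact tz e.symm
    · exact hbT (Or.inr (Or.inl e.symm))
    · apply hbT
      right; right; right
      rw [e, ← mul_assoc, tt, one_mul]
  obtain ⟨k₁, h1⟩ := parity hp (V4 tt zz htz.symm) tt
  obtain ⟨k₂, h2⟩ := parity hp (V4 tt hbb hbt.symm) zz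
  rw [card_zero (fun x hx => by rw [hconjz] at hx; exact hzH hx)] at h2
  have hcard : Nat.card (N ⧸ V4 tt zz htz.symm) = Nat.card (N ⧸ V4 tt hbb hbt.symm) := by
    have e1 := (V4 tt zz htz.symm).card_mul_index
    have e2 := (V4 tt hbb hbt.symm).card_mul_index
    rw [card_V4 tt zz htz.symm t1 z1 tz] at e1
    rw [card_V4 tt hbb hbt.symm t1 b1 hbtne] at e2
    rw [hind, hind]
    omega
  rw [card_two (u := b) (mem_V4.2 (Or.inr (Or.inl rfl))) (by
    rw [mul_assoc, ← hbt, inv_mul_cancel_left]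
    exact mem_V4.2 (Or.inr (Or.inl rfl))) (by
    rw [mem_V4]
    rintro (e | e | e | e)
    · exact hbT (Or.inl e)
    · exact hbT (Or.inr (Or.inr (Or.inl e)))
    · exact hbT (Or.inr (Or.inl e))
    · exact hbT (Or.inr (Or.inr (Or.inr e)))) (by
    intro x hx
    rw [mem_V4] at hx
    have hmem : ∀ y : N, T4 z t y → y ∈ V4 tt zz htz.symm := by
      intro y hy
      rw [mem_V4]
      rcases hy with e | e | e | e
      · exact Or.inl e
      · exact Or.inr (Or.inr (Or.inl e))
      · exact Or.inr (Or.inl e)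
      · exact Or.inr (Or.inr (Or.inr e))
    rcases hx with e | e | e | e
    · exact absurd e (hconj x).1
    · have hxt := hcomm x e
      by_cases hxT : T4 z t x
      · exact Or.inl (hmem x hxT)
      · right
        rw [inv_eq_of_mul_eq_one_right hbb]
        exact hmem _ (hA b x hbt hxt hbT hxT)
    · exact absurd e (hconj x).2
    · exfalso
      apply hcon x⁻¹
      rw [inv_inv]; exact e)] at h1
  omega

/-- **(C)** -/
theorem exists_swap (hp : commutator N = ⊤) (tt : t * t = 1) (t1 : t ≠ 1) (zz : z * z = 1) (z1 : z ≠ 1) (tz : t ≠ z)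
    (zc : ∀ x, x * z = z * x)
    (hA : ∀ a b, a * t = t * a → b * t = t * b → ¬ T4 z t a → ¬ T4 z t b → T4 z t (a * b))
    (hsq : ∀ a, a * t = t * a → a * a = 1) :
    ∃ n b : N, n * t * n⁻¹ = t * z ∧ n * b = b * n ∧ b * t = t * b ∧ ¬ T4 z t b := by
  obtain ⟨n, hn, b, hbt, hbT⟩ := exists_conj hp tt t1 zz z1 tz zc hA hsq
  have htz : z * t = t * z := (zc t).symm
  have hbb := hsq b hbt
  -- `C(t)` is abelian
  have hab : ∀ a c, a * t = t * a → c * t = t * c → a * c = c * a := by
    intro a c ha hc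
    have c1 : Commute a t := ha
    have c2 : Commute c t := hc
    have e1 : a⁻¹ = a := inv_eq_of_mul_eq_one_right (hsq a ha)
    have e2 : c⁻¹ = c := inv_eq_of_mul_eq_one_right (hsq c hc)
    have e3 : (a * c)⁻¹ = a * c := inv_eq_of_mul_eq_one_right (hsq _ (c1.mul_left c2).eq)
    rw [← e3, mul_inv_rev, e1, e2]
  -- `n` normalises `C(t)`
  have hni : n⁻¹ * t * n = t * z := by
    have e : t = n⁻¹ * (t * z) * n := by rw [← hn]; group
    have e1 : n⁻¹ * (t * z) * n = n⁻¹ * t * n * z := by
      calc n⁻¹ * (t * z) * n = n⁻¹ * t * (z * n) := by group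
        _ = n⁻¹ * t * n * z := by rw [← zc n]; group
    rw [e1] at e
    calc n⁻¹ * t * n = n⁻¹ * t * n * z * z := by rw [mul_assoc (n⁻¹ * t * n), zz, mul_one]
      _ = t * z := by rw [← e]
  have hnor : ∀ a, a * t = t * a → n * a * n⁻¹ * t = t * (n * a * n⁻¹) := by
    intro a ha
    have c1 : Commute a (t * z) := (show Commute a t from ha).mul_right (zc a)
    calc n * a * n⁻¹ * t = n * (a * (n⁻¹ * t * n)) * n⁻¹ := by group
      _ = n * (a * (t * z)) * n⁻¹ := by rw [hni]
      _ = n * (t * z * a) * n⁻¹ := by rw [c1.eq]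
      _ = n * (n⁻¹ * t * n * a) * n⁻¹ := by rw [hni]
      _ = t * (n * a * n⁻¹) := by group
  have hnnt : n * n * t = t * (n * n) := by
    have e1 : n * n * t * (n * n)⁻¹ = t := by
      calc n * n * t * (n * n)⁻¹ = n * (n * t * n⁻¹) * n⁻¹ := by group
        _ = n * t * (z * n⁻¹) := by rw [hn]; group
        _ = n * t * n⁻¹ * z := by rw [← zc n⁻¹]; group
        _ = t := by rw [hn, mul_assoc, zz, mul_one]
    rwa [mul_inv_eq_iff_eq_mul] at e1
  have hnn : ∀ a, a * t = t * a → n * (n * a * n⁻¹) * n⁻¹ = a := by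
    intro a ha
    have e := hab _ _ hnnt ha
    calc n * (n * a * n⁻¹) * n⁻¹ = n * n * a * (n * n)⁻¹ := by group
      _ = a := by rw [e, mul_inv_cancel_right]
  have hzn : n * z * n⁻¹ = z := by rw [zc n, mul_inv_cancel_right]
  -- `b^n b⁻¹ ∈ ⟨t, z⟩`
  obtain ⟨c, hc⟩ : ∃ c, c = n * b * n⁻¹ := ⟨_, rfl⟩
  have hct : c * t = t * c := by rw [hc]; exact hnor b hbt
  have hT4 : ∀ x, T4 z t x → T4 z t (n * x * n⁻¹) := by
    rintro x (rfl | rfl | rfl | rfl)
    · left; group
    · right; left; exact hzn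
    · right; right; right; exact hn
    · right; right; left
      calc n * (t * z) * n⁻¹ = (n * t * n⁻¹) * (n * z * n⁻¹) := by group
        _ = t := by rw [hn, hzn, mul_assoc, zz, mul_one]
  have hcT : ¬ T4 z t c := by
    intro h1
    apply hbT
    have h2 := hT4 _ h1
    rwa [hc, hnn b hbt] at h2
  have hcb := hA c b hct hbt hcT hbT
  have hc' : ∀ x, c * b = x → c = x * b := by
    rintro x rfl
    rw [mul_assoc, hbb, mul_one]
  have hbn : ∀ x, n * x * n⁻¹ = x → n * x = x * n := fun x e => mul_inv_eq_iff_eq_mul.1 e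
  rcases hcb with e | e | e | e
  · refine ⟨n, b, hn, hbn b ?_, hbt, hbT⟩
    rw [← hc, hc' _ e, one_mul]
  · -- `b^n = b z`
    refine ⟨n, t * b, hn, hbn _ ?_, ?_, ?_⟩
    · calc n * (t * b) * n⁻¹ = (n * t * n⁻¹) * (n * b * n⁻¹) := by group
        _ = t * z * (z * b) := by rw [hn, ← hc, hc' _ e]
        _ = t * (z * z) * b := by group
        _ = t * b := by rw [zz, mul_one]
    · exact ((Commute.refl t).mul_left hbt).eq
    · intro h1
      apply hbT
      have e2 : b = t * (t * b) := by rw [← mul_assoc, tt, one_mul]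
      rcases h1 with h1 | h1 | h1 | h1 <;> rw [h1] at e2
      · right; right; left; rw [e2, mul_one]
      · right; right; right; exact e2
      · left; rw [e2, tt]
      · right; left; rw [e2, ← mul_assoc, tt, one_mul]
  · -- `b^n = t b`
    exfalso
    have h1 := hnn b hbt
    rw [← hc, hc' _ e] at h1
    have h2 : n * (t * b) * n⁻¹ = z * b := by
      calc n * (t * b) * n⁻¹ = (n * t * n⁻¹) * (n * b * n⁻¹) := by group
        _ = t * z * (t * b) := by rw [hn, ← hc, hc' _ e]
        _ = t * (z * t) * b := by group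
        _ = t * (t * z) * b := by rw [htz]
        _ = z * b := by rw [← mul_assoc, tt, one_mul]
    rw [h2] at h1
    exact z1 (mul_eq_right.1 h1)
  · exfalso
    have h1 := hnn b hbt
    rw [← hc, hc' _ e] at h1
    have h2 : n * (t * z * b) * n⁻¹ = z * b := by
      calc n * (t * z * b) * n⁻¹ = (n * t * n⁻¹) * (n * z * n⁻¹) * (n * b * n⁻¹) := by group
        _ = t * z * z * (t * z * b) := by rw [hn, hzn, ← hc, hc' _ e]
        _ = t * (z * z) * t * z * b := by group
        _ = z * b := by rw [zz, mul_one, tt, one_mul]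
    rw [h2] at h1
    exact z1 (mul_eq_right.1 h1)

end Main

end Cfsg.Agent.OddHalf.D6.QThree.L43.AlphaC
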