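import Cfsg.Agent.OddHalf.D6.QThree.NIB.End
import Cfsg.Agent.OddHalf.D6.QThree.NIB.Pre

/-!
# ODD half, D6, `K = L₄(3)`, `T < S`, NI: `R` centralises the components (helper146; text: helper76 #17200 (alpha),
(A) and (B))

`X = C_G(z)` as a type; `P : NIB.Pre`, `elem` = (W). `B = C_X(t) ∩ C(Q₁ Q₂)` is elementary abelian (`hel`), a
reflection centralises no component (`hR'`, `ReflAll.refl_X`), `Q₁` and `Q₂` centralise every component (`hall`).

* `eq_z`, `not_central`: as in `NIB.HypB`, from `Pre` and `elem` (the field `nF` is not used);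
* `unique`: (A), there is only one component; `normal`;
* `t_mem`: (B), `t ∈ M ⊔ C(M)` implies `t ∈ M`;
* `Out`, `out`: the output, in `G`.
-/

set_option autoImplicit false

namespace Cfsg.Agent.OddHalf.D6.QThree.L43.AlphaM

open Subgroup Cfsg
open Cfsg.Agent.SignalizersComponents.Components
open Cfsg.Agent.Cit (cj mem_cj conj_mem_cj)
open Cfsg.Agent.OddHalf.D6.QThree.NISide
open Cfsg.Agent.OddHalf.D6.QThree.NIB

universe u

section X

variable {X : Type u} [Group X] {z t a₁ a₂ : X} {Q₁ Q₂ : Subgroup X}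

/-- `Q₁` and `Q₂` centralise every component -/
def All (Q₁ Q₂ : Subgroup X) : Prop :=
  ∀ M : Subgroup X, IsComponent M → (∀ x ∈ Q₁, ∀ m ∈ M, x * m = m * x) ∧ ∀ x ∈ Q₂, ∀ m ∈ M, x * m = m * x

/-- the involutions of the center of a component -/
theorem eq_z (elem : ∀ W : Subgroup X, W.Normal → (∀ w ∈ W, w * w = 1) → ∀ w ∈ W, w = 1 ∨ w = z)
    {M : Subgroup X} (hM : IsComponent M) {s : X} (hs : s ∈ M)
    (hc : ∀ y ∈ M, s * y = y * s) (hss : s * s = 1) : s = 1 ∨ s = z := by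
  have hn : (layer X).Normal := layer_normal X
  let W : Subgroup X :=
    { carrier := {w | w ∈ layer X ∧ (∀ y ∈ layer X, w * y = y * w) ∧ w * w = 1}
      one_mem' := ⟨(layer X).one_mem, fun y _ => by simp, by simp⟩
      mul_mem' := by
        rintro a b ⟨ha, ha', haa⟩ ⟨hb, hb', hbb⟩
        refine ⟨(layer X).mul_mem ha hb, fun y hy =>
          ((show Commute a y from ha' y hy).mul_left (show Commute b y from hb' y hy)).eq, ?_⟩
        calc a * b * (a * b) = a * (b * a) * b := by group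
          _ = a * (a * b) * b := by rw [hb' a ha]
          _ = (a * a) * (b * b) := by group
          _ = 1 := by rw [haa, hbb, one_mul]
      inv_mem' := by
        rintro a ⟨ha, ha', haa⟩
        refine ⟨(layer X).inv_mem ha, fun y hy => (show Commute a y from ha' y hy).inv_left.eq, ?_⟩
        rw [← mul_inv_rev, haa, inv_one] }
  have hW : W.Normal := by
    refine ⟨fun w hw g => ?_⟩
    obtain ⟨h1, h2, h3⟩ := hw
    refine ⟨hn.conj_mem w h1 g, fun y hy => ?_, ?_⟩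
    · have h4 := h2 _ (hn.conj_mem y hy g⁻¹)
      rw [inv_inv] at h4
      calc g * w * g⁻¹ * y = g * (w * (g⁻¹ * y * g)) * g⁻¹ := by group
        _ = g * ((g⁻¹ * y * g) * w) * g⁻¹ := by rw [h4]
        _ = y * (g * w * g⁻¹) := by group
    · calc g * w * g⁻¹ * (g * w * g⁻¹) = g * (w * w) * g⁻¹ := by group
        _ = 1 := by rw [h3]; group
  exact elem W hW (fun w hw => hw.2.2) s ⟨component_le_layer hM hs, comm_layer hM hs hc, hss⟩

/-- `C_M(t)` is not in the center of the component `M` -/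
theorem not_central [Finite X] (h : Pre z t a₁ a₂ Q₁ Q₂)
    (elem : ∀ W : Subgroup X, W.Normal → (∀ w ∈ W, w * w = 1) → ∀ w ∈ W, w = 1 ∨ w = z)
    {M : Subgroup X} (hM : IsComponent M)
    (hc : ∀ m ∈ M, m * t = t * m → ∀ x ∈ M, m * x = x * m) : False := by
  have htm : ∀ x ∈ M, t * x * t⁻¹ ∈ M := fun x hx => by
    have := conj_mem_cj (g := t) hx
    rwa [h.cj_t hM] at this
  set N : Subgroup M := (centralizer ({t} : Set X)).subgroupOf M with hN
  have hmem : ∀ m : M, m ∈ N ↔ (m : X) * t = t * m := fun m => by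
    rw [hN, mem_subgroupOf, mem_centralizer_singleton_iff]
  have hNc : N ≤ center M := by
    intro m hm
    rw [mem_center_iff]
    intro g
    exact Subtype.ext (hc m m.2 ((hmem m).1 hm) g g.2).symm
  have hNn : N.Normal := by
    refine ⟨fun n hn g => ?_⟩
    have := mem_center_iff.1 (hNc hn) g
    rwa [this, mul_inv_cancel_right]
  let σ : M →* M :=
    { toFun := fun m => ⟨t * m * t⁻¹, htm m m.2⟩
      map_one' := by apply Subtype.ext; simp
      map_mul' := by intro x y; apply Subtype.ext; simp }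
  have hσ : ∀ m : M, ((σ m : M) : X) = t * m * t⁻¹ := fun m => rfl
  have hσσ : ∀ m : M, σ (σ m) = m := by
    intro m
    apply Subtype.ext
    rw [hσ, hσ]
    calc t * (t * (m : X) * t⁻¹) * t⁻¹ = (t * t) * m * (t * t)⁻¹ := by group
      _ = m := by rw [h.tt]; group
  have hNσ : N ≤ N.comap σ := by
    intro m hm
    rw [mem_comap, hmem, hσ]
    have h1 := (hmem m).1 hm
    rw [← h1, mul_inv_cancel_right]
    exact h1
  let τ : M ⧸ N →* M ⧸ N := QuotientGroup.map N N σ hNσ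
  have hτ : ∀ m : M, τ (m : M ⧸ N) = ((σ m : M) : M ⧸ N) := fun m => rfl
  have hττ : ∀ x, τ (τ x) = x := by
    intro x
    induction x using QuotientGroup.induction_on with
    | H m => rw [hτ, hτ, hσσ]
  have hnt : Nontrivial (M ⧸ N) := by
    rw [← not_subsingleton_iff_nontrivial]
    intro hs
    rw [QuotientGroup.subsingleton_iff] at hs
    apply h.not_le hM.2
    intro x hx
    have : (⟨x, hx⟩ : M) ∈ N := by rw [hs]; exact mem_top _
    exact (hmem _).1 this
  have hq : IsQuasisimple (M ⧸ N) :=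
    Cfsg.Agent.SignalizersComponents.ComponentImage.isQuasisimple_of_surjective hM.2 (QuotientGroup.mk' N)
      (QuotientGroup.mk'_surjective N) hnt
  have hfix : ∀ m : M, τ (m : M ⧸ N) = m → m ∈ N ∨ t * (m : X) * t⁻¹ = m * z := by
    intro m hm
    rw [hτ] at hm
    have h1 : m⁻¹ * σ m ∈ N := QuotientGroup.eq.1 hm.symm
    set s : X := (m : X)⁻¹ * (t * m * t⁻¹) with hs
    have hs' : ((m⁻¹ * σ m : M) : X) = s := rfl
    have hst : s * t = t * s := by
      have := (hmem _).1 h1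
      rwa [hs'] at this
    have hsM : s ∈ M := by rw [← hs']; exact (m⁻¹ * σ m).2
    have hss : s * s = 1 := by
      have h2 : s = t * s * t⁻¹ := by rw [← hst, mul_inv_cancel_right]
      have h3 : t * s * t⁻¹ = s⁻¹ := by
        rw [hs]
        calc t * ((m : X)⁻¹ * (t * m * t⁻¹)) * t⁻¹ = (t * m * t⁻¹)⁻¹ * ((t * t) * m * (t * t)⁻¹) := by group
          _ = (t * m * t⁻¹)⁻¹ * m := by rw [h.tt]; group
          _ = ((m : X)⁻¹ * (t * m * t⁻¹))⁻¹ := by group
      rw [h3] at h2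
      rw [mul_eq_one_iff_eq_inv]
      exact h2
    rcases eq_z elem hM hsM (hc s hsM hst) hss with h2 | h2
    · left
      rw [hmem]
      rw [hs, inv_mul_eq_one] at h2
      rw [eq_mul_inv_iff_mul_eq] at h2
      exact h2
    · right
      rw [hs, inv_mul_eq_iff_eq_mul] at h2
      exact h2
  obtain ⟨b, hb⟩ : ∃ b : M ⧸ N, ∀ m : M, t * (m : X) * t⁻¹ = m * z → (m : M ⧸ N) = b := by
    by_cases hv : ∃ v : M, t * (v : X) * t⁻¹ = v * z
    · obtain ⟨v, hv⟩ := hv
      refine ⟨(v : M ⧸ N), fun m hm => ?_⟩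
      symm
      rw [QuotientGroup.eq, hmem]
      show ((v : X)⁻¹ * m) * t = t * ((v : X)⁻¹ * m)
      have h1 : t * ((v : X)⁻¹ * m) * t⁻¹ = (v : X)⁻¹ * m := by
        calc t * ((v : X)⁻¹ * m) * t⁻¹ = (t * v * t⁻¹)⁻¹ * (t * m * t⁻¹) := by group
          _ = (v * z)⁻¹ * (m * z) := by rw [hv, hm]
          _ = z⁻¹ * (((v : X)⁻¹ * m) * z) := by group
          _ = (v : X)⁻¹ * m := by rw [h.zc]; group
      rw [mul_inv_eq_iff_eq_mul] at h1
      exact h1.symm
    · exact ⟨1, fun m hm => absurd ⟨m, hm⟩ hv⟩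
  obtain ⟨x, hx, hx1, hxb⟩ := Cfsg.Agent.OddHalf.D6.QThree.TwoFix.exists_fix hq τ hττ b
  induction x using QuotientGroup.induction_on with
  | H m =>
    rcases hfix m hx with h1 | h1
    · exact hx1 ((QuotientGroup.eq_one_iff m).2 h1)
    · exact hxb (hb m h1)

/-! ### (A) -/

/-- `C_M(t) ≤ B` -/
theorem bt_of (hall : All Q₁ Q₂) {M : Subgroup X} (hM : IsComponent M) {m : X} (hm : m ∈ M)
    (hmt : m * t = t * m) : Bt t Q₁ Q₂ m :=
  ⟨hmt, fun q hq => ((hall M hM).1 q hq m hm).symm, fun q hq => ((hall M hM).2 q hq m hm).symm⟩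

/-- an element of `⟨t, z⟩` in `M` which is not in `⟨z⟩`: `t ∈ M` -/
theorem t_mem_of_four (h : Pre z t a₁ a₂ Q₁ Q₂) {M : Subgroup X} (hzM : z ∈ M) {m : X} (hm : m ∈ M)
    (h4 : T4 z t m) : (m = 1 ∨ m = z) ∨ t ∈ M := by
  rcases h4 with e | e | e | e
  · exact Or.inl (Or.inl e)
  · exact Or.inl (Or.inr e)
  · exact Or.inr (e ▸ hm)
  · right
    have h1 : t = m * z := by rw [e, mul_assoc, h.zz, mul_one]
    rw [h1]
    exact M.mul_mem hm hzM

/-- an element of `C_X(t)` centralising the component `M` and lying in `B`: it is `1` or `z` -/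
theorem eq_of_cent [Finite X] (h : Pre z t a₁ a₂ Q₁ Q₂) (hel : ∀ b, Bt t Q₁ Q₂ b → b * b = 1)
    (hR' : ∀ c, Refl z t Q₁ Q₂ c → ∀ M : Subgroup X, IsComponent M → z ∈ M → ¬ ∀ m ∈ M, c * m = m * c)
    {M : Subgroup X} (hM : IsComponent M) {c : X} (hc : Bt t Q₁ Q₂ c) (hcM : ∀ m ∈ M, c * m = m * c) :
    c = 1 ∨ c = z := by
  by_cases h4 : T4 z t c
  · rcases h4 with e | e | e | e
    · exact Or.inl e
    · exact Or.inr e
    · exfalso
      refine h.not_le hM.2 fun x hx => ?_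
      rw [← e]
      exact (hcM x hx).symm
    · exfalso
      refine h.not_le hM.2 fun x hx => ?_
      have h1 : t = c * z := by rw [e, mul_assoc, h.zz, mul_one]
      have c1 : Commute x c := (hcM x hx).symm
      have c2 : Commute x z := h.zc x
      rw [h1]
      exact (c1.mul_right c2).eq
  · exact absurd hcM (hR' c ⟨hc, hel c hc, h4⟩ M hM (h.zM hM))

/-- **(A)**: there is only one component -/
theorem unique [Finite X] (h : Pre z t a₁ a₂ Q₁ Q₂)
    (elem : ∀ W : Subgroup X, W.Normal → (∀ w ∈ W, w * w = 1) → ∀ w ∈ W, w = 1 ∨ w = z)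
    (hall : All Q₁ Q₂) (hel : ∀ b, Bt t Q₁ Q₂ b → b * b = 1)
    (hR' : ∀ c, Refl z t Q₁ Q₂ c → ∀ M : Subgroup X, IsComponent M → z ∈ M → ¬ ∀ m ∈ M, c * m = m * c)
    {M L : Subgroup X} (hM : IsComponent M) (hL : IsComponent L) : L = M := by
  by_contra hne
  refine not_central h elem hM fun m hm hmt x hx => ?_
  have hmL : ∀ y ∈ L, m * y = y * m := fun y hy =>
    Cfsg.Agent.Cit.Comp.comm_of_ne hM hL (fun e => hne e.symm) hm hy
  rcases eq_of_cent h hel hR' hL (bt_of hall hM hm hmt) hmL with e | e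
  · rw [e, one_mul, mul_one]
  · rw [e]; exact (h.zc x).symm

/-- the component is normal -/
theorem normal [Finite X] (h : Pre z t a₁ a₂ Q₁ Q₂)
    (elem : ∀ W : Subgroup X, W.Normal → (∀ w ∈ W, w * w = 1) → ∀ w ∈ W, w = 1 ∨ w = z)
    (hall : All Q₁ Q₂) (hel : ∀ b, Bt t Q₁ Q₂ b → b * b = 1)
    (hR' : ∀ c, Refl z t Q₁ Q₂ c → ∀ M : Subgroup X, IsComponent M → z ∈ M → ¬ ∀ m ∈ M, c * m = m * c)
    {M : Subgroup X} (hM : IsComponent M) : M.Normal := by
  refine ⟨fun m hm g => ?_⟩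
  have h3 := unique h elem hall hel hR' hM (Cfsg.Agent.Cit.Comp.isComponent_cj hM g)
  have h4 := conj_mem_cj (g := g) hm
  rwa [h3] at h4

/-! ### (B) -/

/-- **(B)**: `t ∈ M C(M)` implies `t ∈ M` -/
theorem t_mem [Finite X] (h : Pre z t a₁ a₂ Q₁ Q₂) (hall : All Q₁ Q₂) (hel : ∀ b, Bt t Q₁ Q₂ b → b * b = 1)
    (hR' : ∀ c, Refl z t Q₁ Q₂ c → ∀ M : Subgroup X, IsComponent M → z ∈ M → ¬ ∀ m ∈ M, c * m = m * c)
    {M : Subgroup X} (hM : IsComponent M) (htM : t ∈ M ⊔ centralizer (M : Set X)) : t ∈ M := by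
  have hMY : ∀ x ∈ M, ∀ y ∈ centralizer (M : Set X), x * y = y * x := fun x hx y hy =>
    mem_centralizer_iff.1 hy x hx
  obtain ⟨m, hm, c, hc, hmc⟩ := Cfsg.Agent.Cit.Comp.mem_sup_comm hMY htM
  have mc : Commute m c := hMY m hm c hc
  have hmt : m * t = t * m := by rw [← hmc, mul_assoc, mc.eq]
  have hmB := bt_of hall hM hm hmt
  have hcB : Bt t Q₁ Q₂ c := by
    have h1 : c = m⁻¹ * t := by rw [← hmc, inv_mul_cancel_left]
    rw [h1]
    exact hmB.inv.mul ⟨rfl, fun q hq => (h.s₁.ct q hq).symm, fun q hq => (h.s₂.ct q hq).symm⟩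
  rcases eq_of_cent h hel hR' hM hcB (fun y hy => (hMY y hy c hc).symm) with e | e
  · rw [← hmc, e, mul_one]; exact hm
  · rw [← hmc, e]; exact M.mul_mem hm (h.zM hM)

/-- **the output of (A) and (B)**: `M` is the only component, `z, t ∈ M`, `C_M(t) ≤ B`, `Q₁ Q₂` centralises `M` -/
structure Out (z t : X) (Q₁ Q₂ M : Subgroup X) : Prop where
  comp : IsComponent M
  nor : M.Normal
  uniq : ∀ L : Subgroup X, IsComponent L → L = M
  zM : z ∈ M
  tM : t ∈ M
  B : ∀ m ∈ M, m * t = t * m → Bt t Q₁ Q₂ m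
  q₁ : ∀ m ∈ M, ∀ x ∈ Q₁, m * x = x * m
  q₂ : ∀ m ∈ M, ∀ x ∈ Q₂, m * x = x * m
  /-- `C_M(t)` is not central -/
  nc : ¬ ∀ m ∈ M, m * t = t * m → ∀ x ∈ M, m * x = x * m

/-- **(A), (B)**, from `t ∈ M C(M)` for the normal components -/
theorem out_of [Finite X] (h : Pre z t a₁ a₂ Q₁ Q₂)
    (elem : ∀ W : Subgroup X, W.Normal → (∀ w ∈ W, w * w = 1) → ∀ w ∈ W, w = 1 ∨ w = z)
    (hall : All Q₁ Q₂) (hel : ∀ b, Bt t Q₁ Q₂ b → b * b = 1)
    (hR' : ∀ c, Refl z t Q₁ Q₂ c → ∀ M : Subgroup X, IsComponent M → z ∈ M → ¬ ∀ m ∈ M, c * m = m * c)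
    {M : Subgroup X} (hM : IsComponent M) (htM : M.Normal → t ∈ M ⊔ centralizer (M : Set X)) : Out z t Q₁ Q₂ M where
  comp := hM
  nor := normal h elem hall hel hR' hM
  uniq := fun _ hL => unique h elem hall hel hR' hM hL
  zM := h.zM hM
  tM := t_mem h hall hel hR' hM (htM (normal h elem hall hel hR' hM))
  B := fun _ hm hmt => bt_of hall hM hm hmt
  q₁ := fun m hm x hx => ((hall M hM).1 x hx m hm).symm
  q₂ := fun m hm x hx => ((hall M hM).2 x hx m hm).symm
  nc := fun hc => not_central h elem hM hc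

end X

/-! ### in `G` -/

section G

open Cfsg.Agent.OddHalf Cfsg.Agent.OddHalf.Iface

variable {G : Type u} [Group G]

/-- **(A), (B) in `G`** -/
theorem out (hGW : SylowSp4.Hyps.GW.{u}) (hS : CaseM.IntrSign.{u}) (C : Ctx G)
    {z : G} (hz : orderOf z = 2) {z' t' a₁ a₂ : ↥(centralizer ({z} : Set G))} (hz' : (z' : G) = z)
    {Q₁ Q₂ : Subgroup ↥(centralizer ({z} : Set G))} (h : Pre z' t' a₁ a₂ Q₁ Q₂)
    (elem : ∀ W : Subgroup ↥(centralizer ({z} : Set G)), W.Normal → (∀ w ∈ W, w * w = 1) →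
      ∀ w ∈ W, w = 1 ∨ w = z')
    (hcom : t' ∈ commutator ↥(centralizer ({z} : Set G)))
    (hall : All Q₁ Q₂) (hel : ∀ b, Bt t' Q₁ Q₂ b → b * b = 1)
    (hR' : ∀ c, Refl z' t' Q₁ Q₂ c → ∀ M : Subgroup ↥(centralizer ({z} : Set G)), IsComponent M → z' ∈ M →
      ¬ ∀ m ∈ M, c * m = m * c)
    {M : Subgroup ↥(centralizer ({z} : Set G))} (hM : IsComponent M) : Out z' t' Q₁ Q₂ M := by
  have hfin := C.fin
  refine out_of h elem hall hel hR' hM fun hMn => ?_
  by_contra htM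
  have hzM' : (⟨z, mem_centralizer_singleton_iff.2 rfl⟩ : ↥(centralizer ({z} : Set G))) ∈ M := by
    have e : (⟨z, mem_centralizer_singleton_iff.2 rfl⟩ : ↥(centralizer ({z} : Set G))) = z' := Subtype.ext hz'.symm
    rw [e]
    exact h.zM hM
  refine CaseC.EndComp.false_of_out_sign C hGW hS hz hM hMn hzM' h.tt (fun lam hl => ?_) htM
  have h1 : commutator ↥(centralizer ({z} : Set G)) ≤ lam.ker := Abelianization.commutator_subset_ker lam
  have h2 : lam t' = 1 := h1 hcom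
  rw [h2] at hl
  exact absurd hl (by decide)

end G

end Cfsg.Agent.OddHalf.D6.QThree.L43.AlphaM
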