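import Cfsg.Agent.OddHalf.D6.QThree.NIB.DiagOf
import Cfsg.Agent.OddHalf.D6.QThree.L43.AlphaM

/-!
# ODD half, D6, `K = L₄(3)`, `T < S`, NI, case (alpha), part (D), the diagonal case (helper890; text: helper76, helper253)

`t ∈ M` normal in `C(z)`, `M` centralises `Q₁`: no reflection `b` with `DiagAt t z b D M_b L`.
-/

set_option autoImplicit false

namespace Cfsg.Agent.OddHalf.D6.QThree.L43.AlphaDg

open Subgroup
open Cfsg.Agent.OddHalf.D6.QThree.NISide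
open Cfsg.Agent.OddHalf.D6.QThree.Diag (DiagAt)

universe u

variable {G : Type u} [Group G] {t z b : G} {D P L : Subgroup G}

/-- the halves of the elements of `D ∩ C(z)` -/
theorem exists_half (A : DiagAt t z b D P L) (hz : z ∈ D) {d : G} (hd : d ∈ D) (hdz : d * z = z * d) :
    ∃ x ∈ P, x * (t * x * t⁻¹) = d ∧ x * z = z * x := by
  obtain ⟨z₁, hz₁, e⟩ := A.LM z (A.DL hz)
  obtain ⟨x, hx, hxd⟩ := A.LM d (A.DL hd)
  exact ⟨x, hx, hxd, (NIB.DiagOf.comm_z A hx hz₁ e (by rw [hxd]; exact hdz)).2⟩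

/-- the commutators of the elements of `D ∩ C(z)` are in every normal subgroup of `C(z)` containing `t` -/
theorem comm_mem (A : DiagAt t z b D P L) (hz : z ∈ D) {t' : ↥(centralizer ({z} : Set G))} (ht' : (t' : G) = t)
    {M : Subgroup ↥(centralizer ({z} : Set G))} (hM : M.Normal) (ht : t' ∈ M)
    {d e : ↥(centralizer ({z} : Set G))} (hd : (d : G) ∈ D) (he : (e : G) ∈ D) : d * e * d⁻¹ * e⁻¹ ∈ M := by
  obtain ⟨x, hx, hxd, hxz⟩ := exists_half A hz hd (mem_centralizer_singleton_iff.1 d.2)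
  obtain ⟨y, hy, hye, hyz⟩ := exists_half A hz he (mem_centralizer_singleton_iff.1 e.2)
  obtain ⟨x', hx'⟩ : ∃ x' : ↥(centralizer ({z} : Set G)), (x' : G) = x := ⟨⟨x, mem_centralizer_singleton_iff.2 hxz⟩, rfl⟩
  obtain ⟨y', hy'⟩ : ∃ y' : ↥(centralizer ({z} : Set G)), (y' : G) = y := ⟨⟨y, mem_centralizer_singleton_iff.2 hyz⟩, rfl⟩
  have h1 : d = x' * (t' * x' * t'⁻¹) := Subtype.ext (by
    show (d : G) = x' * (t' * x' * (t' : G)⁻¹)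
    rw [hx', ht', hxd])
  have h2 : e = y' * (t' * y' * t'⁻¹) := Subtype.ext (by
    show (e : G) = y' * (t' * y' * (t' : G)⁻¹)
    rw [hy', ht', hye])
  have com : ∀ v w : ↥(centralizer ({z} : Set G)), (v : G) ∈ P → (w : G) ∈ P → Commute v (t' * w * t'⁻¹) := by
    intro v w hv hw
    apply Subtype.ext
    show (v : G) * (t' * w * (t' : G)⁻¹) = (t' * w * (t' : G)⁻¹) * v
    rw [ht']
    exact A.com v hv w hw
  have hxP : (x' : G) ∈ P := by rw [hx']; exact hx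
  have hyP : (y' : G) ∈ P := by rw [hy']; exact hy
  -- `x (x⁻¹)^t ∈ M`
  have hu : x' * (t' * x'⁻¹ * t'⁻¹) ∈ M := by
    have e1 : x' * (t' * x'⁻¹ * t'⁻¹) = (x' * t' * x'⁻¹) * t'⁻¹ := by group
    rw [e1]
    exact M.mul_mem (hM.conj_mem _ ht _) (M.inv_mem ht)
  -- `[x, y] ∈ M`
  have hc : x' * y' * x'⁻¹ * y'⁻¹ ∈ M := by
    have c1 : Commute y' (t' * x' * t'⁻¹) := com y' x' hyP hxP
    have e1 : x' * y' * x'⁻¹ * y'⁻¹ =
        (x' * (t' * x'⁻¹ * t'⁻¹)) * (y' * (x' * (t' * x'⁻¹ * t'⁻¹))⁻¹ * y'⁻¹) := by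
      have e2 : (x' * (t' * x'⁻¹ * t'⁻¹)) * (y' * (x' * (t' * x'⁻¹ * t'⁻¹))⁻¹ * y'⁻¹) =
          x' * ((t' * x' * t'⁻¹)⁻¹ * (y' * (t' * x' * t'⁻¹))) * x'⁻¹ * y'⁻¹ := by group
      rw [e2, c1.eq]
      group
    rw [e1]
    exact M.mul_mem hu (hM.conj_mem _ (M.inv_mem hu) _)
  have hct : t' * (x' * y' * x'⁻¹ * y'⁻¹) * t'⁻¹ ∈ M := hM.conj_mem _ hc _
  have key : d * e * d⁻¹ * e⁻¹ = (x' * y' * x'⁻¹ * y'⁻¹) * (t' * (x' * y' * x'⁻¹ * y'⁻¹) * t'⁻¹) := by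
    have c1 : Commute y' (t' * x' * t'⁻¹) := com y' x' hyP hxP
    have c2 : Commute x' (t' * x' * t'⁻¹) := com x' x' hxP hxP
    have c3 : Commute x' (t' * y' * t'⁻¹) := com x' y' hxP hyP
    have c4 : Commute y' (t' * y' * t'⁻¹) := com y' y' hyP hyP
    obtain ⟨p, hp⟩ : ∃ p, p = t' * x' * t'⁻¹ := ⟨_, rfl⟩
    obtain ⟨q, hq⟩ : ∃ q, q = t' * y' * t'⁻¹ := ⟨_, rfl⟩
    have e1 : t' * (x' * y' * x'⁻¹ * y'⁻¹) * t'⁻¹ = p * q * p⁻¹ * q⁻¹ := by rw [hp, hq]; group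
    rw [e1, h1, h2, ← hp, ← hq]
    rw [← hp] at c1 c2
    rw [← hq] at c3 c4
    calc x' * p * (y' * q) * (x' * p)⁻¹ * (y' * q)⁻¹
        = x' * (p * y') * q * (x' * p)⁻¹ * (y' * q)⁻¹ := by group
      _ = x' * (y' * p) * q * (p * x')⁻¹ * (q * y')⁻¹ := by rw [c1.eq, c2.eq, c4.eq]
      _ = x' * y' * (p * q) * x'⁻¹ * (p⁻¹ * y'⁻¹) * q⁻¹ := by group
      _ = x' * y' * ((p * q) * x'⁻¹) * (y'⁻¹ * p⁻¹) * q⁻¹ := by rw [(c1.inv_inv).eq]; group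
      _ = x' * y' * (x'⁻¹ * (p * q)) * (y'⁻¹ * p⁻¹) * q⁻¹ := by rw [((c2.mul_right c3).inv_left).eq]
      _ = x' * y' * x'⁻¹ * ((p * q) * y'⁻¹) * p⁻¹ * q⁻¹ := by group
      _ = x' * y' * x'⁻¹ * (y'⁻¹ * (p * q)) * p⁻¹ * q⁻¹ := by rw [((c1.mul_right c4).inv_left).eq]
      _ = (x' * y' * x'⁻¹ * y'⁻¹) * (p * q * p⁻¹ * q⁻¹) := by group
  rw [key]
  exact M.mul_mem hc hct

/-- **(D), the diagonal case** -/
theorem false_of (A : DiagAt t z b D P L) {z' t' a : ↥(centralizer ({z} : Set G))}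
    {Q E : Subgroup ↥(centralizer ({z} : Set G))} (hz' : (z' : G) = z) (ht' : (t' : G) = t) (s : Side z' t' a Q E)
    (hQD : ∀ q ∈ Q, (q : G) ∈ D) (haD : (a : G) ∈ D) {M : Subgroup ↥(centralizer ({z} : Set G))} (hM : M.Normal)
    (ht : t' ∈ M) (hc : ∀ m ∈ M, ∀ x ∈ Q, m * x = x * m) : False := by
  have hzD : z ∈ D := by
    rw [← hz']; exact hQD z' s.zQ
  obtain ⟨q, hq, q1, qz⟩ := NIB.DiagOf.exists_ne s
  have h1 := comm_mem A hzD ht' hM ht haD (hQD q hq)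
  -- `[a, q] = (a q a⁻¹) q⁻¹` commutes with `q`
  have c1 : Commute (a * q * a⁻¹ * q⁻¹) q := hc _ h1 q hq
  have c2 : Commute (a * q * a⁻¹) q := by
    have h2 : a * q * a⁻¹ = (a * q * a⁻¹ * q⁻¹) * q := by group
    rw [h2]
    exact c1.mul_left (Commute.refl q)
  exact s.act q hq q1 qz c2.symm.eq

/-- the same, from `AlphaM.Out` -/
theorem false_of_out (A : DiagAt t z b D P L) {z' t' a : ↥(centralizer ({z} : Set G))}
    {Q₁ Q₂ : Subgroup ↥(centralizer ({z} : Set G))} (hz' : (z' : G) = z) (ht' : (t' : G) = t)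
    (s : Side z' t' a Q₁ Q₂) (hQD : ∀ q ∈ Q₁, (q : G) ∈ D) (haD : (a : G) ∈ D)
    {M : Subgroup ↥(centralizer ({z} : Set G))} (O : AlphaM.Out z' t' Q₁ Q₂ M) : False :=
  false_of A hz' ht' s hQD haD O.nor O.tM O.q₁

end Cfsg.Agent.OddHalf.D6.QThree.L43.AlphaDg
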