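import Cfsg.Agent.OddHalf.D6.QThree.RefTri
import Cfsg.Agent.OddHalf.D6.QThree.NIB.SpOf
import Cfsg.Agent.OddHalf.D6.QThree.L43AutD
import Cfsg.Agent.OddHalf.D6.QThree.L43Full

/-!
# ODD half, D6, `K = L₄(3)`: a component `M ≅ L₄(3)` of `C(b)` over `L ≅ PSp₄(3)` (helper253; text: helper76 #17200)

`aut_comm`: the automorphisms of `M` trivial on `R` commute; `noV`: no `v ∈ C(b) ∩ C(R)` with `[v, t] = z`.
-/

set_option autoImplicit false

namespace Cfsg.Agent.OddHalf.D6.QThree.L43.AlphaK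

open Subgroup Cfsg Cfsg.Agent.OddHalf.Iface Cfsg.Agent.OddHalf.D3
open Cfsg.Agent.OddHalf.D6.QThree.Pump (SpOrd)
open Cfsg.Agent.OddHalf.D6.QThree.RefOf (Data)
open Cfsg.Agent.OddHalf.D6.QThree.FactsOut (OD)

/-- an element `≠ 1` centralising a Sylow 2-subgroup is conjugate to `z` -/
theorem conj_of_central {Y : Type*} [Group Y] [Finite Y] {z : Y} {R : Subgroup Y} (b : Facts.Base z R) {w : Y}
    (w1 : w ≠ 1) (S : Sylow 2 Y) (hS : ∀ s ∈ (S : Subgroup Y), s * w = w * s) : ∃ k, k * z * k⁻¹ = w := by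
  have : Fact (Nat.Prime 2) := ⟨Nat.prime_two⟩
  have hodd : ¬ 2 ∣ Nat.card (Y ⧸ centralizer ({z} : Set Y)) := by
    intro h
    have h1 := b.odd
    rw [Nat.odd_iff] at h1
    have h2 : Nat.card (Y ⧸ centralizer ({z} : Set Y)) = (centralizer ({z} : Set Y)).index := rfl
    rw [h2] at h
    omega
  obtain ⟨q, hq⟩ := S.isPGroup'.nonempty_fixed_point_of_prime_not_dvd_card _ hodd
  obtain ⟨g, rfl⟩ := QuotientGroup.mk_surjective q
  have hg : ∀ s ∈ (S : Subgroup Y), g⁻¹ * s * g * z = z * (g⁻¹ * s * g) := by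
    intro s hs
    have h1 : s • (g : Y ⧸ centralizer ({z} : Set Y)) = g := hq ⟨s, hs⟩
    rw [MulAction.Quotient.smul_mk, smul_eq_mul, QuotientGroup.eq] at h1
    have h2 := (centralizer ({z} : Set Y)).inv_mem h1
    have e : ((s * g)⁻¹ * g)⁻¹ = g⁻¹ * s * g := by group
    rw [e] at h2
    exact mem_centralizer_singleton_iff.1 h2
  obtain ⟨R', hR'⟩ : ∃ R' : Subgroup Y, R' = R.map (MulAut.conj g).toMonoidHom := ⟨_, rfl⟩
  have hmem : ∀ x, x ∈ R' ↔ g⁻¹ * x * g ∈ R := by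
    intro x
    rw [hR']
    constructor
    · rintro ⟨y, hy, rfl⟩
      have e : g⁻¹ * (g * y * g⁻¹) * g = y := by group
      show g⁻¹ * (g * y * g⁻¹) * g ∈ R
      rw [e]; exact hy
    · intro hx
      refine ⟨_, hx, ?_⟩
      show g * (g⁻¹ * x * g) * g⁻¹ = x
      group
  have hp : IsPGroup 2 ((S : Subgroup Y) ⊔ R' : Subgroup Y) := by
    apply IsPGroup.to_sup_of_normal_right' S.isPGroup' (by rw [hR']; exact b.pR.map _)
    intro s hs
    rw [mem_normalizer_iff]
    intro x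
    rw [hmem, hmem]
    have h1 := hg s hs
    have h2 := hg s⁻¹ ((S : Subgroup Y).inv_mem hs)
    constructor
    · intro hx
      have h3 := b.nR _ h1 _ hx
      have e : g⁻¹ * s * g * (g⁻¹ * x * g) * (g⁻¹ * s * g)⁻¹ = g⁻¹ * (s * x * s⁻¹) * g := by group
      rwa [e] at h3
    · intro hx
      have h3 := b.nR _ h2 _ hx
      have e : g⁻¹ * s⁻¹ * g * (g⁻¹ * (s * x * s⁻¹) * g) * (g⁻¹ * s⁻¹ * g)⁻¹ = g⁻¹ * x * g := by group
      rwa [e] at h3
  have hle : R' ≤ S := by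
    have h1 := S.is_maximal' hp le_sup_left
    rw [← h1]
    exact le_sup_right
  have hcomm : ∀ r ∈ R, (g⁻¹ * w * g) * r = r * (g⁻¹ * w * g) := by
    intro r hr
    have h1 : g * r * g⁻¹ ∈ R' := by
      rw [hmem]
      have e : g⁻¹ * (g * r * g⁻¹) * g = r := by group
      rwa [e]
    have h2 := hS _ (hle h1)
    calc g⁻¹ * w * g * r = g⁻¹ * (w * (g * r * g⁻¹)) * g := by group
      _ = g⁻¹ * (g * r * g⁻¹ * w) * g := by rw [h2]
      _ = r * (g⁻¹ * w * g) := by group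
  refine ⟨g, ?_⟩
  rcases b.cR _ (hcomm z b.zR) hcomm with h1 | h1
  · exfalso
    apply w1
    calc w = g * (g⁻¹ * w * g) * g⁻¹ := by group
      _ = 1 := by rw [h1]; group
  · rw [← h1]; group

universe u

variable {G : Type u} [Group G] {t z b : G} {D R L : Subgroup G} {F : Type} [Field F] [Fintype F]

/-- `z` is 2-central in `M`, `|M| = 2⁷ · odd` -/
theorem central (h : Data t z b D R L F) [Finite G] {M : Subgroup G} (hLM : L ≤ M) (hM : Nat.card M = 6065280) :
    ∃ S : Sylow 2 M, ∀ s ∈ (S : Subgroup M), s * ⟨z, hLM h.zL⟩ = ⟨z, hLM h.zL⟩ * s := by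
  have : Fact (Nat.Prime 2) := ⟨Nat.prime_two⟩
  have hRL : R ≤ L := h.RD.trans h.DL
  have hpR : IsPGroup 2 (R.subgroupOf L) := h.pR.of_equiv (subgroupOfEquivOfLe hRL).symm
  obtain ⟨T, hT⟩ := hpR.exists_le_sylow
  -- the centre of `T`
  have hZT : ∀ c : L, c ∈ (T : Subgroup L) → (∀ s ∈ (T : Subgroup L), c * s = s * c) → (c : G) = 1 ∨ (c : G) = z := by
    intro c _ hc
    exact h.cR c.2 fun r hr => congrArg Subtype.val (hc ⟨r, hRL hr⟩ (hT hr))
  have hzT : ∀ s ∈ (T : Subgroup L), (⟨z, h.zL⟩ : L) * s = s * ⟨z, h.zL⟩ := by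
    have hnt : Nontrivial (T : Subgroup L) := by
      refine ⟨⟨⟨⟨z, h.zL⟩, hT h.zR⟩, 1, fun e => h.z1 ?_⟩⟩
      exact congrArg (fun x : (T : Subgroup L) => ((x : L) : G)) e
    have h1 : Nontrivial (center (T : Subgroup L)) := T.isPGroup'.center_nontrivial
    obtain ⟨⟨c, hc⟩, hc1⟩ := exists_ne (1 : center (T : Subgroup L))
    have hcs : ∀ s ∈ (T : Subgroup L), (c : L) * s = s * c := fun s hs =>
      congrArg Subtype.val (mem_center_iff.1 hc ⟨s, hs⟩).symm
    have h2 : (c : L) = ⟨z, h.zL⟩ := by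
      rcases hZT c c.2 hcs with e | e
      · exfalso
        apply hc1
        exact Subtype.ext (Subtype.ext (Subtype.ext e))
      · exact Subtype.ext e
    rw [← h2]; exact hcs
  -- the Sylow subgroup of `M`
  obtain ⟨P, hP⟩ : ∃ P : Subgroup M, P = (T : Subgroup L).map (inclusion hLM) := ⟨_, rfl⟩
  have hPp : IsPGroup 2 P := by rw [hP]; exact T.isPGroup'.map _
  obtain ⟨S, hS⟩ := hPp.exists_le_sylow
  have cP : Nat.card P = 64 := by
    rw [hP, Nat.card_congr ((T : Subgroup L).equivMapOfInjective _ (inclusion_injective hLM)).toEquiv.symm,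
      T.card_eq_multiplicity, h.card_L]
    have : (25920 : ℕ).factorization 2 = 6 := by
      rw [show (25920 : ℕ) = 2 ^ 6 * 405 by norm_num, Nat.factorization_mul (by norm_num) (by norm_num),
        Nat.factorization_pow]
      simp [Nat.factorization_eq_zero_of_not_dvd (show ¬ 2 ∣ 405 by norm_num), Nat.Prime.factorization Nat.prime_two]
    rw [this]; norm_num
  have cS : Nat.card (S : Subgroup M) = 128 := by
    rw [S.card_eq_multiplicity, hM]
    have : (6065280 : ℕ).factorization 2 = 7 := by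
      rw [show (6065280 : ℕ) = 2 ^ 7 * 47385 by norm_num, Nat.factorization_mul (by norm_num) (by norm_num),
        Nat.factorization_pow]
      simp [Nat.factorization_eq_zero_of_not_dvd (show ¬ 2 ∣ 47385 by norm_num), Nat.Prime.factorization Nat.prime_two]
    rw [this]; norm_num
  have hn : (P.subgroupOf (S : Subgroup M)).Normal := by
    apply normal_of_index_eq_two
    have h1 := (P.subgroupOf (S : Subgroup M)).card_mul_index
    rw [cS, Nat.card_congr (subgroupOfEquivOfLe hS).toEquiv, cP] at h1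
    omega
  have hzP : (⟨z, hLM h.zL⟩ : M) ∈ P := by
    rw [hP]
    exact ⟨⟨z, h.zL⟩, hT h.zR, rfl⟩
  have hPc : ∀ p ∈ P, p * (⟨z, hLM h.zL⟩ : M) = ⟨z, hLM h.zL⟩ * p := by
    intro p hp
    rw [hP] at hp
    obtain ⟨x, hx, rfl⟩ := hp
    have h1 := hzT x hx
    exact Subtype.ext (congrArg Subtype.val h1).symm
  refine ⟨S, fun s hs => ?_⟩
  have h1 : s * ⟨z, hLM h.zL⟩ * s⁻¹ ∈ P := hn.conj_mem ⟨_, hS hzP⟩ hzP ⟨s, hs⟩
  have h2 : ∀ p ∈ P, s * ⟨z, hLM h.zL⟩ * s⁻¹ * p = p * (s * ⟨z, hLM h.zL⟩ * s⁻¹) := by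
    intro p hp
    have h3 : s⁻¹ * p * s ∈ P := by
      have h4 := hn.conj_mem ⟨_, hS hp⟩ hp ⟨s⁻¹, (S : Subgroup M).inv_mem hs⟩
      have h5 : s⁻¹ * p * s⁻¹⁻¹ ∈ P := h4
      rwa [inv_inv] at h5
    have h4 := hPc _ h3
    calc s * ⟨z, hLM h.zL⟩ * s⁻¹ * p = s * (⟨z, hLM h.zL⟩ * (s⁻¹ * p * s)) * s⁻¹ := by group
      _ = s * (s⁻¹ * p * s * ⟨z, hLM h.zL⟩) * s⁻¹ := by rw [h4]
      _ = p * (s * ⟨z, hLM h.zL⟩ * s⁻¹) := by group
  have hmemL : ((s * ⟨z, hLM h.zL⟩ * s⁻¹ : M) : G) ∈ L := by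
    rw [hP] at h1
    obtain ⟨x, -, hx⟩ := h1
    rw [← hx]
    exact x.2
  rcases h.cR hmemL (fun r hr => by
    have h3 : (⟨r, hLM (hRL hr)⟩ : M) ∈ P := by
      rw [hP]
      exact ⟨⟨r, hRL hr⟩, hT hr, rfl⟩
    exact congrArg Subtype.val (h2 _ h3)) with e | e
  · exfalso
    apply h.z1
    have e1 : s * ⟨z, hLM h.zL⟩ * s⁻¹ = 1 := Subtype.ext e
    exact congrArg Subtype.val (conj_eq_one_iff.1 e1)
  · have e1 : s * ⟨z, hLM h.zL⟩ * s⁻¹ = ⟨z, hLM h.zL⟩ := Subtype.ext e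
    exact mul_inv_eq_iff_eq_mul.1 e1

/-- the automorphisms of `L₄(3)` trivial on `i`, `j`, `k`, `l` commute -/
theorem model_comm {α β : MulAut KFacts.LFourThree.L}
    (ai : α KFacts.LFourThree.i = KFacts.LFourThree.i) (aj : α KFacts.LFourThree.j = KFacts.LFourThree.j)
    (ak : α KFacts.LFourThree.k = KFacts.LFourThree.k) (al : α KFacts.LFourThree.l = KFacts.LFourThree.l)
    (bi : β KFacts.LFourThree.i = KFacts.LFourThree.i) (bj : β KFacts.LFourThree.j = KFacts.LFourThree.j)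
    (bk : β KFacts.LFourThree.k = KFacts.LFourThree.k) (bl : β KFacts.LFourThree.l = KFacts.LFourThree.l) :
    α * β = β * α := by
  have hrz : Commute L43Aut.r (MulAut.conj KFacts.LFourThree.z) := L43Aut.r_comm_z
  have key : ∀ γ : MulAut KFacts.LFourThree.L, (γ = 1 ∨ γ = MulAut.conj KFacts.LFourThree.z ∨ γ = L43Aut.r ∨
      γ = MulAut.conj KFacts.LFourThree.z * L43Aut.r) →
      Commute γ L43Aut.r ∧ Commute γ (MulAut.conj KFacts.LFourThree.z) := by
    rintro γ (rfl | rfl | rfl | rfl)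
    · exact ⟨Commute.one_left _, Commute.one_left _⟩
    · exact ⟨hrz.symm, Commute.refl _⟩
    · exact ⟨Commute.refl _, hrz⟩
    · exact ⟨hrz.symm.mul_left (Commute.refl _), (Commute.refl _).mul_left hrz⟩
  obtain ⟨h1, h2⟩ := key α (L43Aut.main ai aj ak al)
  rcases L43Aut.main bi bj bk bl with rfl | rfl | rfl | rfl
  · rw [mul_one, one_mul]
  · exact h2.eq
  · exact h1.eq
  · exact (h2.mul_right h1).eq

/-- **the automorphisms of `M ≅ L₄(3)` trivial on `R` commute** -/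
theorem aut_comm (h : Data t z b D R L F) [Finite G] {M : Subgroup G} (hLM : L ≤ M)
    (hod : ∀ x ∈ M, x * z = z * x → Odd (orderOf x) → x ∈ D)
    {E : Type} [Field E] [Fintype E] (hE : Fintype.card E = 3)
    (e : M ≃* Matrix.ProjectiveSpecialLinearGroup (Fin 4) E) (α β : MulAut M)
    (hα : ∀ r : M, (r : G) ∈ R → α r = r) (hβ : ∀ r : M, (r : G) ∈ R → β r = r) : α * β = β * α := by
  obtain ⟨e2⟩ := LargeExtra.W2.LFour.PslFacts.psl_congr E hE
  let f : M ≃* KFacts.LFourThree.L := e.trans e2.symm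
  have hM : Nat.card M = 6065280 := by
    rw [Nat.card_congr f.toEquiv, LargeExtra.W2.LFour.PslFacts.card_psl]
  have hfin : Finite KFacts.LFourThree.L := Finite.of_equiv _ f.toEquiv
  obtain ⟨S, hS⟩ := central h hLM hM
  -- `f z` is conjugate to the standard `z`
  obtain ⟨k, hk⟩ : ∃ k, k * KFacts.LFourThree.z * k⁻¹ = f ⟨z, hLM h.zL⟩ := by
    refine conj_of_central KFacts.LFourThree.Facts.one_L.toBase ?_ (S.mapSurjective (f := f.toMonoidHom) f.surjective) ?_
    · intro e1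
      apply h.z1
      rw [map_eq_one_iff f f.injective] at e1
      exact congrArg Subtype.val e1
    · rintro _ ⟨s, hs, rfl⟩
      show f s * f _ = f _ * f s
      rw [← map_mul, hS s hs, map_mul]
  let f' : KFacts.LFourThree.L ≃* M := (MulAut.conj k).trans f.symm
  have hz' : f' KFacts.LFourThree.z = ⟨z, hLM h.zL⟩ := by
    show f.symm (k * KFacts.LFourThree.z * k⁻¹) = _
    rw [hk, f.symm_apply_apply]
  -- `OD z` is mapped into `D`
  have hOD : ∀ x ∈ OD KFacts.LFourThree.z, ((f' x : M) : G) ∈ D := by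
    intro x hx
    have h1 : OD KFacts.LFourThree.z ≤ (D.comap M.subtype).comap f'.toMonoidHom := by
      refine (closure_le _).2 ?_
      rintro y ⟨hy, ho⟩
      refine hod _ (f' y).2 ?_ ?_
      · have h2 := congrArg (fun w => ((f' w : M) : G)) hy
        have h3 : ((f' (y * KFacts.LFourThree.z) : M) : G) = (f' (KFacts.LFourThree.z * y) : M) := h2
        rw [map_mul, map_mul, hz'] at h3
        exact h3
      · show Odd (orderOf ((f' y : M) : G))
        rw [Subgroup.orderOf_coe, MulEquiv.orderOf_eq]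
        exact ho
    exact h1 hx
  have hQ : ∀ x ∈ KFacts.LFourThree.Q, x ^ 2 ^ 2 = 1 → ((f' x : M) : G) ∈ R := by
    intro x hx h4
    refine h.mem_R (hOD x (L43Aut.Q_le_OD hx)) (n := 2) ?_
    have h5 : (f' x) ^ 2 ^ 2 = 1 := by rw [← map_pow, h4, map_one]
    exact congrArg Subtype.val h5
  have hgen : ∀ x ∈ ({KFacts.LFourThree.i, KFacts.LFourThree.j, KFacts.LFourThree.k, KFacts.LFourThree.l} :
      Set KFacts.LFourThree.L), ((f' x : M) : G) ∈ R := by
    intro x hx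
    refine hQ x (subset_closure hx) ?_
    have hE4 : ∀ A : KFacts.LFourThree.SL4, A ^ 4 = 1 → (KFacts.LFourThree.pr A) ^ 2 ^ 2 = 1 := by
      intro A hA
      rw [← map_pow]
      show KFacts.LFourThree.pr (A ^ 4) = 1
      rw [hA, map_one]
    simp only [Set.mem_insert_iff, Set.mem_singleton_iff] at hx
    rcases hx with rfl | rfl | rfl | rfl
    · exact hE4 _ (by decide +kernel)
    · exact hE4 _ (by decide +kernel)
    · exact hE4 _ (by decide +kernel)
    · exact hE4 _ (by decide +kernel)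
  -- transport
  let c : MulAut M → MulAut KFacts.LFourThree.L := fun γ => (f'.trans γ).trans f'.symm
  have hc : ∀ γ : MulAut M, (∀ r : M, (r : G) ∈ R → γ r = r) →
      ∀ x ∈ ({KFacts.LFourThree.i, KFacts.LFourThree.j, KFacts.LFourThree.k, KFacts.LFourThree.l} :
      Set KFacts.LFourThree.L), c γ x = x := by
    intro γ hγ x hx
    show f'.symm (γ (f' x)) = x
    rw [hγ _ (hgen x hx), f'.symm_apply_apply]
  have hcomm := model_comm (α := c α) (β := c β) (hc α hα _ (by simp)) (hc α hα _ (by simp)) (hc α hα _ (by simp))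
    (hc α hα _ (by simp)) (hc β hβ _ (by simp)) (hc β hβ _ (by simp)) (hc β hβ _ (by simp)) (hc β hβ _ (by simp))
  apply MulEquiv.ext
  intro x
  obtain ⟨y, rfl⟩ := f'.surjective x
  have h1 := DFunLike.congr_fun hcomm y
  have h2 : f'.symm (α (f' (f'.symm (β (f' y))))) = f'.symm (β (f' (f'.symm (α (f' y))))) := h1
  rw [f'.apply_symm_apply, f'.apply_symm_apply] at h2
  exact f'.symm.injective h2

/-- **no `v ∈ C(b) ∩ C(R)` with `[v, t] = z`, if the component is `L₄(3)`** -/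
theorem noV (h : Data t z b D R L F) (C : Ctx G) (hS : SpOrd.{u}) {K : Subgroup G} (S : Std G K)
    (hK : Nat.card K ≤ 6531840) {M : Subgroup G} (hM : Comp b M) (hLM : L ≤ M) (ht : cj t M = M)
    {E : Type} [Field E] [Fintype E] (hE : Fintype.card E = 3)
    (e : M ≃* Matrix.ProjectiveSpecialLinearGroup (Fin 4) E)
    {v : G} (hvb : v * b = b * v) (hvR : ∀ r ∈ R, v * r = r * v) : t * v * t⁻¹ ≠ v * z := by
  have := C.fin
  exact h.noV_of_comm hM hLM ht (aut_comm h hLM (fun x hx hxz ho => h.odd_mem C hS S hK hM hLM ht hx hxz ho) hE e)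
    hvb hvR

end Cfsg.Agent.OddHalf.D6.QThree.L43.AlphaK
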