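import Cfsg.Agent.OddHalf.D6.QThree.L43.AlphaM
import Cfsg.Agent.OddHalf.D6.QThree.RefTri
import Cfsg.Agent.OddHalf.D6.QThree.U43Facts

/-!
# ODD half, D6, `K = L₄(3)`, (NI)(alpha)(D): the component of `C(b)` is `U₄(3)` (helper253; text: helper76 #17200)

`M` the only component of `C(z)`, centralised by `w = z^k`, `w ≠ z`: L-balance in `C(w)` gives `M = M^k`, so
`⟨z, w⟩ ≤ Z(M)`.
-/

set_option autoImplicit false

namespace Cfsg.Agent.OddHalf.D6.QThree.L43.AlphaV

open Subgroup Cfsg Cfsg.Agent.OddHalf Cfsg.Agent.OddHalf.Iface Cfsg.Agent.OddHalf.D3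

universe u

variable {G : Type u} [Group G]

/-- **the L-balance argument** -/
theorem false_of_conj (C : Ctx G) {z k w : G} (hz : orderOf z = 2) {z' : ↥(centralizer ({z} : Set G))}
    (hz' : (z' : G) = z) {M : Subgroup ↥(centralizer ({z} : Set G))} (hM : IsComponent M) (nor : M.Normal)
    (uniq : ∀ L : Subgroup ↥(centralizer ({z} : Set G)), IsComponent L → L = M) (zM : z' ∈ M)
    (elem : ∀ W : Subgroup ↥(centralizer ({z} : Set G)), W.Normal → (∀ w ∈ W, w * w = 1) → ∀ w ∈ W, w = 1 ∨ w = z')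
    (hk : k * z * k⁻¹ = w) (hwz : w * z = z * w) (hne : w ≠ z)
    (hw : ∀ m ∈ M, (m : G) * w = w * m) : False := by
  have hfin := C.fin
  have zz : z * z = 1 := by rw [← pow_two, ← hz, pow_orderOf_eq_one]
  have z1 : z ≠ 1 := by
    intro e
    rw [e, orderOf_one] at hz
    exact absurd hz (by norm_num)
  have hwo : orderOf w = 2 := by rw [← hk, orderOf_conj, hz]
  have w1 : w ≠ 1 := by
    intro e
    rw [e, orderOf_one] at hwo
    exact absurd hwo (by norm_num)
  have ww : w * w = 1 := by rw [← pow_two, ← hwo, pow_orderOf_eq_one]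
  obtain ⟨J, hJ⟩ : ∃ J : Subgroup G, J = M.map (centralizer ({z} : Set G)).subtype := ⟨_, rfl⟩
  have hmemJ : ∀ x : G, x ∈ J ↔ ∃ h : x ∈ centralizer ({z} : Set G), (⟨x, h⟩ : ↥(centralizer ({z} : Set G))) ∈ M := by
    intro x
    rw [hJ]
    constructor
    · rintro ⟨y, hy, rfl⟩
      exact ⟨y.2, hy⟩
    · rintro ⟨h1, h2⟩
      exact ⟨_, h2, rfl⟩
  have hJz : J ≤ centralizer ({z} : Set G) := fun x hx => ((hmemJ x).1 hx).1
  have hJw : J ≤ centralizer ({w} : Set G) := by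
    intro x hx
    obtain ⟨h1, h2⟩ := (hmemJ x).1 hx
    exact mem_centralizer_singleton_iff.2 (hw _ h2)
  have hJM : J.subgroupOf (centralizer ({z} : Set G)) = M := by
    ext x
    rw [mem_subgroupOf, hmemJ]
    exact ⟨fun ⟨_, h⟩ => h, fun h => ⟨x.2, h⟩⟩
  have hcomp : Comp z J := ⟨hJz, by rw [hJM]; exact hM⟩
  have hzJ : z ∈ J := by
    rw [hJ]
    exact ⟨z', zM, hz'⟩
  have heven : 2 ∣ Nat.card J := by
    rw [← hz, ← Subgroup.orderOf_mk z hzJ]
    exact orderOf_dvd_natCard _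
  have hsub : (J.subgroupOf (centralizer ({w} : Set G) ⊓ centralizer ({z} : Set G))).IsSubnormal := by
    let ι : (centralizer ({w} : Set G) ⊓ centralizer ({z} : Set G) : Subgroup G) →* ↥(centralizer ({z} : Set G)) :=
      inclusion inf_le_right
    have h1 := hM.1.comap ι
    have e : M.comap ι = J.subgroupOf (centralizer ({w} : Set G) ⊓ centralizer ({z} : Set G)) := by
      ext x
      rw [mem_subgroupOf, hmemJ, mem_comap]
      exact ⟨fun h => ⟨x.2.2, h⟩, fun ⟨_, h⟩ => h⟩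
    rwa [e] at h1
  have hkz : k⁻¹ * w * k⁻¹⁻¹ = z := by rw [← hk]; group
  -- the components of `C(w)`
  have huniq : ∀ D' : Subgroup G, Comp w D' → D' = cj k J := by
    intro D' hD'
    have h1 := hD'.conj k⁻¹
    rw [hkz] at h1
    have h2 := uniq _ h1.comp
    have h3 : cj k⁻¹ D' = J := by
      rw [hJ, ← h2, subgroupOf_map_subtype, inf_eq_left.2 h1.le]
    ext x
    rw [mem_cj, ← h3, mem_cj]
    have e : k⁻¹⁻¹ * (k⁻¹ * x * k) * k⁻¹ = x := by group
    rw [e]
  obtain ⟨D', hD', h⟩ := D8.PumpX.pump (C.bal w hwo) zz hwz hJw hJz hcomp.quasi heven hsub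
  have hD'k := huniq D' hD'
  have hJk : J = cj k J := by
    rcases h with h | ⟨h, -⟩ | ⟨h, -, -⟩
    · rw [← hD'k]; exact h
    · exfalso
      have h1 : Nat.card D' = Nat.card J := by rw [hD'k]; exact card_cj k J
      exact h.ne (Subgroup.eq_of_le_of_card_ge h.le h1.le)
    · exfalso
      apply h
      rw [hD'k]
      rw [← hD'k]
      have h1 := hD'.conj z
      have e : z * w * z⁻¹ = w := by rw [← hwz, mul_inv_cancel_right]
      rw [e] at h1
      rw [huniq _ h1, hD'k]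
  have hwJ : w ∈ J := by
    rw [hJk, mem_cj, ← hk]
    have e : k⁻¹ * (k * z * k⁻¹) * k = z := by group
    rw [e]
    exact hzJ
  let W : Subgroup ↥(centralizer ({z} : Set G)) :=
    { carrier := {x | (∀ m ∈ M, x * m = m * x) ∧ x ∈ M ∧ x * x = 1}
      one_mem' := ⟨fun m _ => by rw [one_mul, mul_one], M.one_mem, one_mul 1⟩
      mul_mem' := by
        rintro x y ⟨hx, hxM, hx2⟩ ⟨hy, hyM, hy2⟩
        refine ⟨fun m hm => ?_, M.mul_mem hxM hyM, ?_⟩
        · rw [mul_assoc, hy m hm, ← mul_assoc, hx m hm, mul_assoc]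
        · calc x * y * (x * y) = x * (y * x) * y := by group
            _ = x * (x * y) * y := by rw [hy x hxM]
            _ = (x * x) * (y * y) := by group
            _ = 1 := by rw [hx2, hy2, one_mul]
      inv_mem' := by
        rintro x ⟨hx, hxM, hx2⟩
        have e : x⁻¹ = x := inv_eq_of_mul_eq_one_right hx2
        rw [e]
        exact ⟨hx, hxM, hx2⟩ }
  have hW : W.Normal := ⟨by
    rintro x ⟨hx, hxM, hx2⟩ g
    refine ⟨fun m hm => ?_, nor.conj_mem x hxM g, ?_⟩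
    · have h1 := nor.conj_mem m hm g⁻¹
      rw [inv_inv] at h1
      have h2 := hx _ h1
      calc g * x * g⁻¹ * m = g * (x * (g⁻¹ * m * g)) * g⁻¹ := by group
        _ = g * (g⁻¹ * m * g * x) * g⁻¹ := by rw [h2]
        _ = m * (g * x * g⁻¹) := by group
    · calc g * x * g⁻¹ * (g * x * g⁻¹) = g * (x * x) * g⁻¹ := by group
        _ = 1 := by rw [hx2]; group⟩
  obtain ⟨hwC, hwM⟩ := (hmemJ w).1 hwJ
  rcases elem W hW (fun x hx => hx.2.2) ⟨w, hwC⟩ ⟨fun m hm => Subtype.ext (hw m hm).symm, hwM, Subtype.ext ww⟩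
    with e | e
  · exact w1 (congrArg Subtype.val e)
  · have e1 : w = (z' : G) := congrArg Subtype.val e
    rw [hz'] at e1
    exact hne e1

/-- **`M_b ≅ U₄(3)`** -/
theorem false_of_U (C : Ctx G) {z : G} (hz : orderOf z = 2) {z' : ↥(centralizer ({z} : Set G))}
    (hz' : (z' : G) = z) {M : Subgroup ↥(centralizer ({z} : Set G))} (hM : IsComponent M) (nor : M.Normal)
    (uniq : ∀ L : Subgroup ↥(centralizer ({z} : Set G)), IsComponent L → L = M) (zM : z' ∈ M)
    (elem : ∀ W : Subgroup ↥(centralizer ({z} : Set G)), W.Normal → (∀ w ∈ W, w * w = 1) → ∀ w ∈ W, w = 1 ∨ w = z')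
    {N : Subgroup G} {E : Type} [Field E] [Fintype E] (hE : Fintype.card E = 9) (e : N ≃* PSU 4 E 3)
    (hzN : z ∈ N) {w : G} (hwN : w ∈ N) (ww : w * w = 1) (w1 : w ≠ 1) (hwz : w * z = z * w) (hne : w ≠ z)
    (hw : ∀ m ∈ M, (m : G) * w = w * m) : False := by
  have zz : z * z = 1 := by rw [← pow_two, ← hz, pow_orderOf_eq_one]
  have z1 : z ≠ 1 := by
    intro e
    rw [e, orderOf_one] at hz
    exact absurd hz (by norm_num)
  obtain ⟨z₀, R₀, hT⟩ := U43Facts.exists_two hE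
  have hone : ∀ x : G, ∀ hx : x ∈ N, x * x = 1 → x ≠ 1 → ∃ k, k * z₀ * k⁻¹ = e ⟨x, hx⟩ := by
    intro x hx hxx hx1
    refine hT.one _ ?_ ?_
    · rw [← map_mul]
      have : (⟨x, hx⟩ : N) * ⟨x, hx⟩ = 1 := Subtype.ext hxx
      rw [this, map_one]
    · intro h1
      apply hx1
      have := (map_eq_one_iff e e.injective).1 h1
      exact congrArg Subtype.val this
  obtain ⟨k₁, h1⟩ := hone z hzN zz z1
  obtain ⟨k₂, h2⟩ := hone w hwN ww w1
  refine false_of_conj C (k := (e.symm (k₂ * k₁⁻¹) : G)) hz hz' hM nor uniq zM elem ?_ hwz hne hw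
  have h3 : e.symm (k₂ * k₁⁻¹) * ⟨z, hzN⟩ * (e.symm (k₂ * k₁⁻¹))⁻¹ = ⟨w, hwN⟩ := by
    apply e.injective
    rw [map_mul, map_mul, map_inv, e.apply_symm_apply, ← h1, ← h2]
    group
  exact congrArg Subtype.val h3

end Cfsg.Agent.OddHalf.D6.QThree.L43.AlphaV
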