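import Cfsg.Agent.OddHalf.D6.QThree.L43.Front
import Cfsg.Agent.OddHalf.D6.QThree.L43.KFront

/-!
# ODD half, D6, `K = L₄(3)`, any outer part: the front end of the case `T < S`, `G`-level (helper76, bb #17200 (F))

`Out0 K t z`: `FrontB.Out` without `t ∈ C(z)'`. `main`: from `FB`, `FK` and "`T` is not a Sylow subgroup of `G`".
-/

set_option autoImplicit false

namespace Cfsg.Agent.OddHalf.D6.QThree.L43.Front

open Subgroup MulAction Cfsg Cfsg.Agent.OddHalf.Front.FE Cfsg.Agent.OddHalf.Front Cfsg.Agent.OddHalf.D8.GlueE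
open Cfsg.Agent.OddHalf.Front.Cyclic (mem_M KQ conjK conjK' conjQ inv_comm mul_comm' M_unique)
open Cfsg.Agent.OddHalf.D6.QThree.FrontB
open Cfsg.Agent.OddHalf.D6.QThree.L43.KFront

universe u

/-- `FrontB.Out` without `tH` -/
structure Out0 {G : Type*} [Group G] (K : Subgroup G) (t z : G) : Prop where
  tt : t * t = 1
  t1 : t ≠ 1
  Kt : ∀ x ∈ K, x * t = t * x
  nK : ∀ g, g * t = t * g → g ∈ normalizer (K : Set G)
  /-- `C(K) ∩ C(t) = ⟨t⟩` -/
  cK : ∀ c, c * t = t * c → (∀ x ∈ K, x * c = c * x) → c = 1 ∨ c = t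
  tK : t ∉ K
  zK : z ∈ K
  nc : ∀ g, g * t * g⁻¹ ≠ z
  sw : ∃ s, s * t * s⁻¹ = t * z ∧ s * z * s⁻¹ = z

theorem Out0.out {G : Type*} [Group G] {K : Subgroup G} {t z : G} (h : Out0 K t z)
    (tH : (⟨t, mem_centralizer_singleton_iff.2 (h.Kt z h.zK).symm⟩ : centralizer ({z} : Set G)) ∈
      _root_.commutator (centralizer ({z} : Set G))) : Out K t z where
  tt := h.tt
  t1 := h.t1
  Kt := h.Kt
  nK := h.nK
  cK := h.cK
  tK := h.tK
  zK := h.zK
  nc := h.nc
  sw := h.sw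
  tH := tH

variable {G : Type u} [Group G] {K : Subgroup G} {t q : G} {T : Subgroup G}

/-- a 2-subgroup of `C` is conjugate in `C` to a subgroup of the Sylow subgroup `S ≤ C` of `K` -/
theorem exists_conj_le {K : Type*} [Group K] [Finite K] (S : Sylow 2 K) {C P : Subgroup K} (hSC : (S : Subgroup K) ≤ C)
    (hP : IsPGroup 2 P) (hPC : P ≤ C) : ∃ g ∈ C, ∀ x ∈ P, g * x * g⁻¹ ∈ (S : Subgroup K) := by
  have hf : Fact (Nat.Prime 2) := ⟨Nat.prime_two⟩
  obtain ⟨P', hP'⟩ := (hP.comap_of_injective C.subtype C.subtype_injective).exists_le_sylow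
  have hS : IsPGroup 2 ↥((S : Subgroup K).subgroupOf C) := S.isPGroup'.comap_of_injective C.subtype C.subtype_injective
  obtain ⟨S', hS'⟩ := hS.exists_le_sylow
  have hS'S : (S' : Subgroup C).map C.subtype ≤ (S : Subgroup K) := by
    have h1 := S.is_maximal' (S'.isPGroup'.map C.subtype) (by
      intro x hx
      exact ⟨⟨x, hSC hx⟩, hS' (mem_subgroupOf.2 hx), rfl⟩)
    rw [h1]
  obtain ⟨c, hc⟩ := exists_smul_eq C P' S'
  refine ⟨c, c.2, fun x hx => ?_⟩
  have h2 : (⟨x, hPC hx⟩ : C) ∈ (P' : Subgroup C) := hP' (mem_subgroupOf.2 hx)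
  have h3 : c * ⟨x, hPC hx⟩ * c⁻¹ ∈ (S' : Subgroup C) := by
    rw [← hc]
    exact Subgroup.smul_mem_pointwise_smul _ (MulAut.conj c) _ h2
  exact hS'S ⟨_, h3, rfl⟩

/-- commutators of elements of `C(t)` lie in `Q K` -/
theorem comm_mem {z : K} {R : Subgroup K} (st : Start K t q) (h : FK z R) {x y : G} (hx : x * t = t * x)
    (hy : y * t = t * y) : x * y * x⁻¹ * y⁻¹ ∈ zpowers q ⊔ K := by
  have hxi : x⁻¹ * t = t * x⁻¹ := inv_comm hx
  have hyi : y⁻¹ * t = t * y⁻¹ := inv_comm hy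
  have h1 : x * y * x⁻¹ * y⁻¹ * t = t * (x * y * x⁻¹ * y⁻¹) :=
    mul_comm' (mul_comm' (mul_comm' hx hy) hxi) hyi
  apply OfSheet.mem_of_inn st h1
  have e : K.normalizerMonoidHom ⟨x * y * x⁻¹ * y⁻¹, st.nK _ h1⟩ =
      (K.normalizerMonoidHom ⟨x, st.nK x hx⟩) * (K.normalizerMonoidHom ⟨y, st.nK y hy⟩) *
        (K.normalizerMonoidHom ⟨x, st.nK x hx⟩)⁻¹ * (K.normalizerMonoidHom ⟨y, st.nK y hy⟩)⁻¹ := by
    rw [← map_inv, ← map_inv, ← map_mul, ← map_mul, ← map_mul]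
    rfl
  rw [e]
  exact h.inn _ _

/-- commutators of elements of `Q K` lie in `K` -/
theorem comm_mem_K (st : Start K t q) {x y : G} (hx : x ∈ zpowers q ⊔ K) (hy : y ∈ zpowers q ⊔ K) :
    x * y * x⁻¹ * y⁻¹ ∈ K := by
  obtain ⟨a, ha, k, hk, rfl⟩ := (mem_M st.toStart0).1 hx
  obtain ⟨b, hb, l, hl, rfl⟩ := (mem_M st.toStart0).1 hy
  have c1 : Commute a k := (st.QK a ha k hk).symm
  have c2 : Commute a l := (st.QK a ha l hl).symm
  have c3 : Commute b k := (st.QK b hb k hk).symm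
  have c4 : Commute b l := (st.QK b hb l hl).symm
  have c5 : Commute a b := by
    obtain ⟨m, rfl⟩ := mem_zpowers_iff.1 ha
    obtain ⟨n, rfl⟩ := mem_zpowers_iff.1 hb
    exact (Commute.refl q).zpow_zpow m n
  have e : a * k * (b * l) * (a * k)⁻¹ * (b * l)⁻¹ = k * l * k⁻¹ * l⁻¹ := by
    rw [mul_inv_rev, mul_inv_rev]
    calc a * k * (b * l) * (k⁻¹ * a⁻¹) * (l⁻¹ * b⁻¹) = a * (k * b) * l * k⁻¹ * (a⁻¹ * l⁻¹) * b⁻¹ := by group
      _ = a * (b * k) * l * k⁻¹ * (l⁻¹ * a⁻¹) * b⁻¹ := by rw [c3.symm.eq, c2.inv_inv.eq]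
      _ = a * b * (k * l * k⁻¹ * l⁻¹) * (a⁻¹ * b⁻¹) := by group
      _ = (k * l * k⁻¹ * l⁻¹) * (a * b) * (a⁻¹ * b⁻¹) := by
          have c6 : Commute (a * b) (k * l * k⁻¹ * l⁻¹) := by
            have c7 : Commute (a * b) k := c1.mul_left c3
            have c8 : Commute (a * b) l := c2.mul_left c4
            exact ((c7.mul_right c8).mul_right c7.inv_right).mul_right c8.inv_right
          rw [c6.eq]
      _ = (k * l * k⁻¹ * l⁻¹) * (a * b) * (b⁻¹ * a⁻¹) := by rw [c5.inv_inv.eq]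
      _ = k * l * k⁻¹ * l⁻¹ := by group
  rw [e]
  exact K.mul_mem (K.mul_mem (K.mul_mem hk hl) (K.inv_mem hk)) (K.inv_mem hl)

/-- **(F1)**: `N(T)` fixes `z` -/
theorem zN [Finite G] {z : K} {R : Subgroup K} (F : FB K t q (z : G) T) (h : FK z R) (S : Sylow 2 K)
    (hSz : ∀ x ∈ S, x * z = z * x) (hTS : ∀ x : K, (x : G) ∈ T ↔ x ∈ S) :
    ∀ n ∈ normalizer (T : Set G), n * (z : G) * n⁻¹ = z := by
  intro n hn
  obtain ⟨P, hP, hPz, a, ha, b, hb, c, hc, d, hd, hz⟩ := h.dc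
  have hPC : P ≤ centralizer ({z} : Set K) := fun x hx => mem_centralizer_singleton_iff.2 (hPz x hx)
  have hSC : (S : Subgroup K) ≤ centralizer ({z} : Set K) := fun x hx => mem_centralizer_singleton_iff.2 (hSz x hx)
  obtain ⟨g, hg, hgP⟩ := exists_conj_le S hSC hP hPC
  have hgz : g * z * g⁻¹ = z := by
    rw [mem_centralizer_singleton_iff.1 hg, mul_inv_cancel_right]
  -- the four elements in `T`, conjugated by `n`
  have hT : ∀ x ∈ P, n * ((g * x * g⁻¹ : K) : G) * n⁻¹ ∈ T := fun x hx =>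
    (mem_normalizer_iff.1 hn _).1 ((hTS _).2 (hgP x hx))
  set A := n * ((g * a * g⁻¹ : K) : G) * n⁻¹ with hA
  set B := n * ((g * b * g⁻¹ : K) : G) * n⁻¹ with hB
  set C := n * ((g * c * g⁻¹ : K) : G) * n⁻¹ with hC
  set D := n * ((g * d * g⁻¹ : K) : G) * n⁻¹ with hD
  have e : n * (z : G) * n⁻¹ = (A * B * A⁻¹ * B⁻¹) * (C * D * C⁻¹ * D⁻¹) * (A * B * A⁻¹ * B⁻¹)⁻¹ *
      (C * D * C⁻¹ * D⁻¹)⁻¹ := by
    have h1 : g * ((a * b * a⁻¹ * b⁻¹) * (c * d * c⁻¹ * d⁻¹) * (a * b * a⁻¹ * b⁻¹)⁻¹ * (c * d * c⁻¹ * d⁻¹)⁻¹) * g⁻¹ = z := by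
      rw [hz, hgz]
    have h2 := congrArg (fun x : K => n * (x : G) * n⁻¹) h1
    have h3 : n * ((g * ((a * b * a⁻¹ * b⁻¹) * (c * d * c⁻¹ * d⁻¹) * (a * b * a⁻¹ * b⁻¹)⁻¹ *
        (c * d * c⁻¹ * d⁻¹)⁻¹) * g⁻¹ : K) : G) * n⁻¹ = n * (z : G) * n⁻¹ := h2
    rw [← h3, hA, hB, hC, hD]
    push_cast
    group
  have hAB := comm_mem F.toStart h (F.tc A (hT a ha)) (F.tc B (hT b hb))
  have hCD := comm_mem F.toStart h (F.tc C (hT c hc)) (F.tc D (hT d hd))
  have hzK : n * (z : G) * n⁻¹ ∈ K := by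
    rw [e]; exact comm_mem_K F.toStart hAB hCD
  have hzT : n * (z : G) * n⁻¹ ∈ T := (mem_normalizer_iff.1 hn _).1 F.zT
  have hni : n⁻¹ ∈ normalizer (T : Set G) := inv_mem hn
  have hcen : ∀ x ∈ T, x * (n * (z : G) * n⁻¹) = n * (z : G) * n⁻¹ * x := by
    intro x hx
    have h1 := (mem_normalizer_iff.1 hni x).1 hx
    rw [inv_inv] at h1
    have h2 := F.zc _ h1
    calc x * (n * (z : G) * n⁻¹) = n * (n⁻¹ * x * n * z) * n⁻¹ := by group
      _ = n * (z * (n⁻¹ * x * n)) * n⁻¹ := by rw [h2]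
      _ = n * (z : G) * n⁻¹ * x := by group
  rcases F.P1 _ hzT hzK (fun x hx _ => hcen x hx) with h1 | h1
  · exfalso
    apply F.z1
    calc (z : G) = n⁻¹ * (n * (z : G) * n⁻¹) * n := by group
      _ = 1 := by rw [h1]; group
  · exact h1

/-- the action of `C(t)` on `K` -/
noncomputable def ac (st : Start K t q) : centralizer ({t} : Set G) →* MulAut K :=
  K.normalizerMonoidHom.comp (inclusion (fun g hg => st.nK g (mem_centralizer_singleton_iff.1 hg)))

theorem ac_apply (st : Start K t q) {y : G} (hy : y * t = t * y) (k : K) :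
    ((ac st ⟨y, mem_centralizer_singleton_iff.2 hy⟩ k : K) : G) = y * k * y⁻¹ := rfl

/-- an element of `T` which centralises `T ∩ K` and acts as an element of `⟨z⟩` -/
theorem mem_of_act [Finite G] {z : K} {y : G} (F : FB K t q (z : G) T) (hy : y ∈ T) (hyy : y * y = 1)
    (h : ac F.toStart ⟨y, mem_centralizer_singleton_iff.2 (F.tc y hy)⟩ = 1 ∨
      ac F.toStart ⟨y, mem_centralizer_singleton_iff.2 (F.tc y hy)⟩ = MulAut.conj z) :
    y = 1 ∨ y = t ∨ y = z ∨ y = t * z := by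
  have hyt := F.tc y hy
  have key : ∀ w : G, w * t = t * w → w * w = 1 → (∀ k ∈ K, w * k = k * w) → w = 1 ∨ w = t := by
    intro w hwt hww hwK
    have h1 := F.cK w hwt (fun x hx => (hwK x hx).symm)
    by_cases h : w = 1
    · exact Or.inl h
    · exact Or.inr (F.uniq h1 hww h)
  rcases h with h | h
  · have h1 : ∀ k ∈ K, y * k = k * y := by
      intro k hk
      have h2 := congrArg (fun f : MulAut K => ((f ⟨k, hk⟩ : K) : G)) h
      have h3 : y * k * y⁻¹ = k := h2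
      rwa [mul_inv_eq_iff_eq_mul] at h3
    rcases key y hyt hyy h1 with e | e
    · exact Or.inl e
    · exact Or.inr (Or.inl e)
  · have hyz : y * z = z * y := F.zc y hy
    have hww : (z : G) * y * (z * y) = 1 := by
      calc (z : G) * y * (z * y) = z * (y * z) * y := by group
        _ = z * (z * y) * y := by rw [hyz]
        _ = (z * z) * (y * y) := by group
        _ = 1 := by rw [F.zz, hyy, one_mul]
    have hzt := F.Kt z F.zK
    have hzi : (z : G)⁻¹ = z := inv_eq_of_mul_eq_one_right F.zz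
    have h1 : ∀ k ∈ K, z * y * k = k * (z * y) := by
      intro k hk
      have h2 := congrArg (fun f : MulAut K => ((f ⟨k, hk⟩ : K) : G)) h
      have h3 : y * k * y⁻¹ = z * k * (z : G)⁻¹ := h2
      rw [mul_inv_eq_iff_eq_mul] at h3
      calc z * y * k = z * (y * k) := by group
        _ = z * (z * k * (z : G)⁻¹ * y) := by rw [h3]
        _ = (z * z) * (k * ((z : G)⁻¹ * y)) := by group
        _ = k * (z * y) := by rw [F.zz, one_mul, hzi]
    have hyy' : y = z * (z * y) := by rw [← mul_assoc, F.zz, one_mul]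
    rcases key (z * y) (mul_comm' hzt hyt) hww h1 with e | e
    · rw [e, mul_one] at hyy'
      exact Or.inr (Or.inr (Or.inl hyy'))
    · rw [e, hzt] at hyy'
      exact Or.inr (Or.inr (Or.inr hyy'))

/-- the output of the front end -/
structure Res (K : Subgroup G) (t q : G) (z : K) (R : Subgroup K) (T : Subgroup G) : Prop where
  fb : FB K t q (z : G) T
  out : Out0 K t (z : G)
  /-- an element of `N(T)` maps `t` to `tz` -/
  xN : ∃ x ∈ normalizer (T : Set G), x * t * x⁻¹ = t * z ∧ x * (z : G) * x⁻¹ = z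
  /-- `R ≤ T` -/
  RT : ∀ r ∈ R, (r : G) ∈ T
  /-- a conjugate of `z` which centralises `T` is `z` or a reflection -/
  hu : ∀ g : G, (∀ x ∈ T, x * (g * z * g⁻¹) = g * z * g⁻¹ * x) → g * z * g⁻¹ = z ∨
    ∃ hy : (g * z * g⁻¹) * t = t * (g * z * g⁻¹),
      (¬ (ac fb.toStart ⟨g * z * g⁻¹, mem_centralizer_singleton_iff.2 hy⟩ = 1)) ∧
      ¬ ac fb.toStart ⟨g * z * g⁻¹, mem_centralizer_singleton_iff.2 hy⟩ = MulAut.conj z

/-- **the front end, `T < S`** -/
theorem main [Finite G] {z : K} {R : Subgroup K} (F : FB K t q (z : G) T) (h : FK z R) (S : Sylow 2 K) (hRS : R ≤ S)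
    (hSz : ∀ x ∈ S, x * z = z * x) (hTS : ∀ x : K, (x : G) ∈ T ↔ x ∈ S) (hG : ∀ H : Subgroup G, H.index ≠ 2)
    (hns : ∀ S : Sylow 2 G, (S : Subgroup G) ≠ T) : Res K t q z R T := by
  have hzN := zN F h S hSz hTS
  obtain ⟨γ, hγ1, hγ⟩ := h.sg
  have hfix : ∀ y (hy : y * t = t * y), (∀ x ∈ T, x * y = y * x) → ∀ r ∈ R,
      ac F.toStart ⟨y, mem_centralizer_singleton_iff.2 hy⟩ r = r := by
    intro y hy hc r hr
    apply Subtype.ext
    rw [ac_apply F.toStart hy, ← hc r ((hTS r).2 (hRS hr)), mul_inv_cancel_right]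
  have hν : ∀ y (hy : y * t = t * y), y ∈ T → y * y = 1 → (∀ x ∈ T, x * y = y * x) →
      (γ.comp (ac F.toStart)) ⟨y, mem_centralizer_singleton_iff.2 hy⟩ = 1 → y = 1 ∨ y = t ∨ y = z ∨ y = t * z := by
    intro y hy hyT hyy hc h1
    exact mem_of_act F hyT hyy (hγ _ (hfix y hy hc) h1)
  have hνt : (γ.comp (ac F.toStart)) ⟨t, mem_centralizer_singleton_iff.2 rfl⟩ = 1 := by
    have h1 : ac F.toStart ⟨t, mem_centralizer_singleton_iff.2 rfl⟩ = 1 := by
      ext k
      rw [ac_apply F.toStart rfl, ← F.Kt k k.2, mul_inv_cancel_right]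
      rfl
    show γ (ac F.toStart _) = 1
    rw [h1, map_one]
  obtain ⟨x, hxN, hxt⟩ := exists_swap F hG hzN (γ.comp (ac F.toStart)) hνt hν hns
  have hxz := hzN x hxN
  have hnc : ∀ g, g * t * g⁻¹ ≠ (z : G) := by
    intro g hg
    obtain ⟨c, hct, hn⟩ := exists_norm F.pT F.tc F.max (g := g) (by
      intro y hy
      have h1 := F.zc y hy
      rw [← hg] at h1
      calc g⁻¹ * y * g * t = g⁻¹ * (y * (g * t * g⁻¹)) * g := by group
        _ = g⁻¹ * (g * t * g⁻¹ * y) * g := by rw [h1]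
        _ = t * (g⁻¹ * y * g) := by group)
    have h1 := hzN _ hn
    have h2 : g * c * t * (g * c)⁻¹ = z := by
      calc g * c * t * (g * c)⁻¹ = g * (c * t) * c⁻¹ * g⁻¹ := by group
        _ = g * (t * c) * c⁻¹ * g⁻¹ := by rw [hct]
        _ = g * t * g⁻¹ := by group
        _ = z := hg
    apply F.z_ne_t
    exact mul_left_cancel (mul_right_cancel (h1.trans h2.symm))
  have hnc2 : ∀ g, g * (t * z) * g⁻¹ ≠ (z : G) := by
    intro g hg
    apply hnc (g * x)
    calc g * x * t * (g * x)⁻¹ = g * (x * t * x⁻¹) * g⁻¹ := by group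
      _ = z := by rw [hxt]; exact hg
  refine
    { fb := F
      out :=
        { tt := F.tt
          t1 := F.t1
          Kt := F.Kt
          nK := F.nK
          cK := fun c hct hcK => F.Q_two hxN hxt c (F.cK c hct hcK)
          tK := F.tK
          zK := F.zK
          nc := hnc
          sw := ⟨x, hxt, hxz⟩ }
      xN := ⟨x, hxN, hxt, hxz⟩
      RT := fun r hr => (hTS r).2 (hRS hr)
      hu := ?_ }
  intro g hg
  set y := g * (z : G) * g⁻¹ with hy
  have hyt : y * t = t * y := (hg t F.tT).symm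
  have hyy : y * y = 1 := by
    calc y * y = g * (z * z) * g⁻¹ := by rw [hy]; group
      _ = 1 := by rw [F.zz]; group
  have hyT : y ∈ T := by
    have h1 : IsPGroup 2 ↥(zpowers y ⊔ T : Subgroup G) := by
      apply (pgroup_zp hyy).to_sup_of_normal_right' F.pT
      rw [zpowers_le, mem_normalizer_iff]
      intro x
      have hyi : y⁻¹ = y := inv_eq_of_mul_eq_one_right hyy
      constructor
      · intro hx
        rw [← hg x hx, mul_inv_cancel_right]; exact hx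
      · intro hx
        have h2 := hg _ hx
        have h3 : x = y⁻¹ * (y * x * y⁻¹) * y := by group
        rw [h3, mul_assoc, h2, ← mul_assoc, inv_mul_cancel, one_mul]
        exact hx
    have h2 := F.max _ h1 le_sup_right (by
      have h3 : zpowers y ⊔ T ≤ centralizer ({t} : Set G) := by
        rw [sup_le_iff, zpowers_le]
        exact ⟨mem_centralizer_singleton_iff.2 hyt, fun x hx => mem_centralizer_singleton_iff.2 (F.tc x hx)⟩
      exact fun x hx => mem_centralizer_singleton_iff.1 (h3 hx))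
    exact h2 ((le_sup_left : zpowers y ≤ _) (mem_zpowers y))
  by_cases hyz : y = z
  · exact Or.inl hyz
  right
  have hno : ¬ (y = 1 ∨ y = t ∨ y = z ∨ y = t * z) := by
    rintro (h1 | h1 | h1 | h1)
    · apply F.z1
      calc (z : G) = g⁻¹ * y * g := by rw [hy]; group
        _ = 1 := by rw [h1]; group
    · apply hnc g⁻¹
      rw [← h1, hy]; group
    · exact hyz h1
    · apply hnc2 g⁻¹
      rw [← h1, hy]; group
  refine ⟨hyt, fun h1 => hno ?_, fun h1 => hno ?_⟩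
  · exact mem_of_act F hyT hyy (Or.inl h1)
  · exact mem_of_act F hyT hyy (Or.inr h1)

end Cfsg.Agent.OddHalf.D6.QThree.L43.Front
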