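import Cfsg.Agent.OddHalf.D6.QThree.L43.RefSw
import Cfsg.Agent.OddHalf.D6.QThree.L43.FrontG
import Cfsg.Agent.OddHalf.D6.QThree.FrontInstB
import Cfsg.Agent.OddHalf.D6.QThree.FrontLocOf
import Cfsg.Agent.OddHalf.D6.QThree.RefData

/-!
# ODD half, D6, `K = L₄(3)`, `T < S`: (R0), a reflection is not conjugate to `z` (helper948; text: helper76, bb #17200)

Every component of `C(z)` contains `z` (`NIB.Pre.zM`), a component of `C(b)` over `L_b ≅ PSp₄(3)` does not contain `b`.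
`main`: (R0). `out`: the output of the front end.
-/

set_option autoImplicit false

namespace Cfsg.Agent.OddHalf.D6.QThree.L43.RZero

open Subgroup Cfsg Cfsg.Agent.OddHalf Cfsg.Agent.OddHalf.Iface Cfsg.Agent.OddHalf.D3
open Cfsg.Agent.OddHalf.D6.QThree.FrontB (BA Z2 FrontK Out)
open Cfsg.Agent.OddHalf.D6.QThree.FrontLoc (Loc Loc0 OutC Bt T4 up az bz)
open Cfsg.Agent.OddHalf.D6.QThree.RefData (KH DD Rf)

universe u

variable {G : Type u} [Group G]

/-- some component of `C(b)` does not contain `b` -/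
theorem exists_comp {t z b : G} {D R L : Subgroup G} {F : Type} [Field F] [Fintype F]
    (h : RefOf.Data t z b D R L F) (C : Ctx G) (hS : Pump.SpOrd.{u}) {K : Subgroup G} (S : Std G K)
    (hK : Nat.card K < 6531840) (hN : ∀ K : Subgroup G, CompOf b K → ¬ NI3.HasY ↥K) :
    ∃ M : Subgroup G, Comp b M ∧ b ∉ M := by
  rcases RefSw.tri' h C hS S hK hN with h1 | ⟨M, h1, -, h2⟩ | ⟨M, h1, h2, A⟩
  · refine ⟨L, h1, fun hb => h.b1 (h.eq_one_L hb fun l hl => (h.Lb l hl).symm)⟩
  · refine ⟨M, h1, fun hb => h.b1 ?_⟩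
    have h3 : (⟨b, hb⟩ : M) ∈ center M := by
      rw [mem_center_iff]
      intro m
      exact Subtype.ext (mem_centralizer_singleton_iff.1 (h1.le m.2))
    rw [h2, mem_bot] at h3
    exact congrArg Subtype.val h3
  · refine ⟨M, h1, fun hb => h.b1 (A.dis b hb ?_)⟩
    rw [← h.bt, mul_inv_cancel_right]
    exact hb

/-- `z` is in every component of `C(z)`, `c` is not in some component of `C(c)`: not conjugate -/
theorem ne_conj {z c : G} (hzM : ∀ M : Subgroup ↥(centralizer ({z} : Set G)), IsComponent M →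
      (⟨z, mem_centralizer_singleton_iff.2 rfl⟩ : ↥(centralizer ({z} : Set G))) ∈ M)
    (h : ∃ M : Subgroup G, Comp c M ∧ c ∉ M) (g : G) : g * z * g⁻¹ ≠ c := by
  intro e
  obtain ⟨M, hM, hc⟩ := h
  have h1 := hM.conj g⁻¹
  have e2 : g⁻¹ * c * g⁻¹⁻¹ = z := by rw [← e]; group
  rw [e2] at h1
  have h2 : z ∈ cj g⁻¹ M := hzM _ h1.comp
  rw [mem_cj] at h2
  apply hc
  have e3 : g⁻¹⁻¹ * z * g⁻¹ = c := by rw [← e]; group
  rwa [e3] at h2

variable {K : Subgroup G} {t : G} {z : K} {R : Subgroup K} {i j k l a b : K}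

/-- **(R0)** -/
theorem main (C : Ctx G) (hSp : Pump.SpOrd.{u}) (S : Std G K) (hK : Nat.card K < 6531840)
    (hN : ∀ b : G, orderOf b = 2 → ∀ L : Subgroup G, CompOf b L → ¬ NI3.HasY ↥L)
    (O : OutC K t (z : G)) (f : FrontK z R i j k l a b)
    (L : Loc0 t (z : G) (R.map K.subtype) (i : G) j k l a b) (rf : Rf z R) {c : G} (ct : c * t = t * c)
    (cR : ∀ r ∈ R, c * r = r * c) (hc1 : ¬ ∀ x ∈ K, c * x = x * c) (hcz : ¬ ∀ x ∈ K, (c * z) * x = x * (c * z))
    (g : G) : g * z * g⁻¹ ≠ c := by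
  intro e
  have hfin := C.fin
  have hz : orderOf (z : G) = 2 := orderOf_eq_prime (by rw [pow_two]; exact L.fr.zz) L.fr.z1
  have hO : pPrimeCore 2 ↥(centralizer ({(z : G)} : Set G)) = ⊥ := Soft.core_eq_bot (C.bal _ hz)
  have cc : c * c = 1 := by
    rw [← e]
    calc g * z * g⁻¹ * (g * z * g⁻¹) = g * (z * z) * g⁻¹ := by group
      _ = 1 := by rw [L.fr.zz]; group
  have kh : KH z R i j k l a b :=
    KH.of_K f (FrontLoc.Loc0.odd3 (Subtype.ext L.a3)) (FrontLoc.Loc0.odd3 (Subtype.ext L.b3))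
  obtain ⟨E, F, _, _, hD, -⟩ := RefData.data O.tt O.t1 O.Kt O.nK kh rf cc ct cR hc1 hcz
  have P := L.pre hO
  exact ne_conj (fun M hM => P.zM hM) (exists_comp hD C hSp S hK (hN c hD.b_ord)) g e

/-- **the output of the front end**, `T < S` -/
theorem out {q : G} {T : Subgroup G} (C : Ctx G) (hSp : Pump.SpOrd.{u}) (S : Std G K) (hK : Nat.card K < 6531840)
    (hN : ∀ b : G, orderOf b = 2 → ∀ L : Subgroup G, CompOf b L → ¬ NI3.HasY ↥L) (r : Front.Res K t q z R T)
    (f : FrontK z R i j k l a b) (rf : Rf z R) : Out K t (z : G) := by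
  have hfin := C.fin
  have O : OutC K t (z : G) :=
    ⟨r.out.tt, r.out.t1, r.out.Kt, r.out.nK, r.out.cK, r.out.tK, r.out.zK, r.out.sw⟩
  obtain ⟨a', b', f', L⟩ := FrontLoc.exists_loc0 O f
  obtain ⟨x, hxN, hxt, hxz⟩ := r.xN
  refine r.fb.out_of (Front.FE.commutator_eq_top C) hxN hxt hxz r.out.nc fun g hg => ?_
  rcases r.hu g hg with h | ⟨hy, h1, h2⟩
  · exact h
  exfalso
  set c : G := g * z * g⁻¹ with hc
  have hzz : (z : G) * z = 1 := L.fr.zz
  have hzi : (z : G)⁻¹ = z := inv_eq_of_mul_eq_one_right hzz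
  refine main C hSp S hK hN O f' L rf hy (fun r' hr' => (hg _ (r.RT r' hr')).symm) (fun h => h1 ?_) (fun h => h2 ?_)
    g rfl
  · ext y
    rw [Front.ac_apply r.fb.toStart hy, h y y.2, mul_inv_cancel_right]
    rfl
  · ext y
    rw [Front.ac_apply r.fb.toStart hy]
    show c * y * c⁻¹ = (z : G) * y * (z : G)⁻¹
    have h3 := h (z * y * z) (K.mul_mem (K.mul_mem z.2 y.2) z.2)
    have h4 : c * (z : G) * ((z : G) * y * z) = c * (y : G) * z := by
      calc c * (z : G) * ((z : G) * y * z) = c * ((z : G) * z) * y * z := by group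
        _ = c * (y : G) * z := by rw [hzz, mul_one]
    have hcz : c * (z : G) = z * c := (hg z (r.RT z f.zR)).symm
    have h5 : (z : G) * y * z * (c * z) = (z : G) * y * c := by
      calc (z : G) * y * z * (c * z) = (z : G) * y * (z * (z * c)) := by rw [hcz]; group
        _ = (z : G) * y * ((z * z) * c) := by group
        _ = (z : G) * y * c := by rw [hzz, one_mul]
    rw [h4, h5] at h3
    rw [mul_inv_eq_iff_eq_mul]
    calc c * (y : G) = c * (y : G) * z * (z : G)⁻¹ := by group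
      _ = (z : G) * y * c * (z : G)⁻¹ := by rw [h3]
      _ = (z : G) * y * (c * z) := by rw [hzi]; group
      _ = (z : G) * y * (z : G)⁻¹ * c := by rw [hcz, hzi]; group

end Cfsg.Agent.OddHalf.D6.QThree.L43.RZero
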