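import Cfsg.Agent.OddHalf.D6.QThree.L43.RowTS
import Cfsg.Agent.OddHalf.D6.QThree.L43.RZero
import Cfsg.Agent.OddHalf.D6.Cut

/-!
# ODD half, D6, `q = 3`: the row `L₄(3)` (helper890, coordinators helper76, helper296)

`row_of`: the field `l4` of `D6.Cut.Three`, from the case `T = S` and (alpha).
-/

set_option autoImplicit false

namespace Cfsg.Agent.OddHalf.D6.QThree.L43.Row

open Subgroup Cfsg Cfsg.Agent.OddHalf Cfsg.Agent.OddHalf.Iface
open Cfsg.Agent.OddHalf.D6.QThree.FrontB (BA Z2 FrontK Out FB exists_FB)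
open Cfsg.Agent.OddHalf.D6.QThree.FrontLoc
open Cfsg.Agent.OddHalf.D6.QThree.TS (FrontT)
open Cfsg.Agent.OddHalf.D6.QThree.L43.RowTS (KF)

universe u

/-- the facts on `K = L₄(3)` -/
structure KL {K : Type*} [Group K] (z : K) (R : Subgroup K) (i j k l a b : K) : Prop where
  f : FrontK z R i j k l a b
  ft : FrontT z R i j k l a b
  fk : KFront.FK z R
  rf : RefData.Rf z R

theorem exists_KL {K : Type*} [Group K] {F : Type*} [Field F] [Fintype F] (hF : Fintype.card F = 3)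
    (e : K ≃* Matrix.ProjectiveSpecialLinearGroup (Fin 4) F) :
    ∃ (z : K) (R : Subgroup K) (i j k l a b : K), KL z R i j k l a b := by
  obtain ⟨z, R, i, j, k, l, a, b, h1, h2, h3, h4⟩ := RfL.exists_all hF e
  exact ⟨z, R, i, j, k, l, a, b, h1, h2, h3, h4⟩

theorem card_K {K : Type*} [Group K] {F : Type*} [Field F] [Fintype F] (hF : Fintype.card F = 3)
    (e : K ≃* Matrix.ProjectiveSpecialLinearGroup (Fin 4) F) : Nat.card K = 6065280 := by
  obtain ⟨e2⟩ := Cfsg.Agent.LargeExtra.W2.LFour.PslFacts.psl_congr F hF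
  rw [Nat.card_congr e.toEquiv, Nat.card_congr e2.symm.toEquiv, Cfsg.Agent.LargeExtra.W2.LFour.PslFacts.card_psl]

/-- the case `T = S`: a Sylow 2-subgroup of `C(t)` is one of `G` -/
def TSide : Prop :=
  ∀ (G : Type u) [Group G], Ctx G → ∀ (K : Subgroup G), Std G K → Cyc K → center ↥K = ⊥ →
    (∃ (F : Type) (_ : Field F) (_ : Fintype F), Fintype.card F = 3 ∧
      Nonempty (↥K ≃* Matrix.ProjectiveSpecialLinearGroup (Fin 4) F)) →
    ∀ (z : K) (R : Subgroup K) (i j k l a b : K), KL z R i j k l a b → ∀ (t q : G) (T : Subgroup G),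
    FB K t q (z : G) T → (∀ r ∈ R, (r : G) ∈ T) → (∃ S : Sylow 2 G, (S : Subgroup G) = T) → False

/-- (R0), `T < S`: no conjugate of `z` is a reflection -/
def RZero : Prop :=
  ∀ (G : Type u) [Group G], Ctx G → ∀ (K : Subgroup G), Std G K → Nat.card K = 6065280 →
    ∀ (z : K) (R : Subgroup K) (i j k l a b : K), KL z R i j k l a b → ∀ (t q : G) (T : Subgroup G),
    Front.Res K t q z R T → ∀ g : G, (∀ x ∈ T, x * (g * z * g⁻¹) = g * z * g⁻¹ * x) → g * z * g⁻¹ = z

/-- (C), (D) of (alpha), `T < S` -/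
def Alpha : Prop :=
  ∀ (G : Type u) [Group G], Ctx G → ∀ (K : Subgroup G), Std G K → Nat.card K = 6065280 →
    ∀ (t : G) (z : K) (R : Subgroup K) (i j k l a b : K), Out K t (z : G) → KF z R i j k l a b →
    ∀ L : Loc t (z : G) (R.map K.subtype) (i : G) j k l a b, RowTS.Alpha L

/-- **the row `L₄(3)`**, from the two inputs -/
theorem row_of (hGW : SylowSp4.Hyps.GW.{u}) (I : Intr2.{u}) (hS : CaseM.IntrSign.{u})
    (hcy : ∀ (G : Type u) [Group G], Ctx G → ∀ K : Subgroup G, Std0 G K → PRankLE 2 1 ↥(centralizer (K : Set G)) →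
      Cyc K) (hSp : Pump.SpOrd.{u}) (hN : NI3.NoThree.{u}) (hTS : TSide.{u}) (hα : Alpha.{u}) :
    D6.Cut.Row.{u} (fun X _ => ∃ (F : Type) (_ : Field F) (_ : Fintype F), Fintype.card F = 3 ∧
      Nonempty (X ≃* Matrix.ProjectiveSpecialLinearGroup (Fin 4) F)) := by
  intro G _ C K S hC hcen hX
  have hfin := C.fin
  obtain ⟨F, _, _, hF, ⟨e⟩⟩ := id hX
  have hcard := card_K hF e
  obtain ⟨z, R, i, j, k, l, a, b, h⟩ := exists_KL hF e
  obtain ⟨t, q, st⟩ := Cfsg.Agent.OddHalf.Front.FE.exists_start C S hC hcen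
  obtain ⟨T, P, B, hRP, hPz, hTP⟩ := exists_FB st h.f.toBase h.f.out (fun P hRP _ α hα =>
    h.ft.sq α fun r hr => hα r (hRP hr))
  by_cases hsyl : ∃ S : Sylow 2 G, (S : Subgroup G) = T
  · exact hTS G C K S hC hcen hX z R i j k l a b h t q T B (fun r hr => (hTP r).2 (hRP hr)) hsyl
  push Not at hsyl
  have r := Front.main B h.fk P hRP hPz hTP (Cfsg.Agent.OddHalf.Front.FE.index_ne_two C) hsyl
  have O : Out K t (z : G) :=
    RZero.out C hSp S (by rw [hcard]; norm_num) (fun b hb M hM => hN G C b M hb hM) r h.f h.rf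
  obtain ⟨a', b', f', L⟩ := exists_loc O h.f
  have κ : KF z R i j k l a' b' := ⟨f', h.rf, h.ft.sq, h.ft.cc⟩
  refine RowTS.false_of L hGW I hS C (hcy G C) hSp S (by rw [hcard]; norm_num) (by rw [hcard]; norm_num) ?_ O κ
    (hα G C K S hcard t z R i j k l a' b' O κ L)
  intro c cc c1 M hM
  exact hN G C c M (orderOf_eq_prime (by rw [pow_two]; exact cc) c1) hM

end Cfsg.Agent.OddHalf.D6.QThree.L43.Row
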