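import Cfsg.Agent.OddHalf.D6.QThree.L43.Row
import Cfsg.Agent.OddHalf.D6.QThree.L43.Alpha
import Cfsg.Agent.OddHalf.D6.QThree.TS.Row

/-!
# ODD half, D6, `q = 3`: **the row `L₄(3)`** (helper890, helper76, helper253, helper296, helper948, helper577, …)

`row`: the field `l4` of `D6.Cut.Three`.
-/

set_option autoImplicit false

namespace Cfsg.Agent.OddHalf.D6.QThree.L43.RowFin

open Subgroup Cfsg Cfsg.Agent.OddHalf Cfsg.Agent.OddHalf.Iface

universe u

/-- (alpha) -/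
theorem alpha (hSp : Pump.SpOrd.{u}) (hN : NI3.NoThree.{u}) : Row.Alpha.{u} := by
  intro G _ C K S hcard t z R i j k l a b O κ L
  refine RowTS.alpha C hSp S (by rw [hcard]; norm_num) ?_ O κ L
  intro c cc c1 M hM
  exact hN G C c M (orderOf_eq_prime (by rw [pow_two]; exact cc) c1) hM

/-- **the row `L₄(3)`** -/
theorem row (hGW : SylowSp4.Hyps.GW.{u}) (I : Intr2.{u}) (hS : CaseM.IntrSign.{u})
    (hcy : ∀ (G : Type u) [Group G], Ctx G → ∀ K : Subgroup G, Std0 G K → PRankLE 2 1 ↥(centralizer (K : Set G)) →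
      Cyc K) (hSp : Pump.SpOrd.{u}) (hN : NI3.NoThree.{u}) :
    D6.Cut.Row.{u} (fun X _ => ∃ (F : Type) (_ : Field F) (_ : Fintype F), Fintype.card F = 3 ∧
      Nonempty (X ≃* Matrix.ProjectiveSpecialLinearGroup (Fin 4) F)) :=
  Row.row_of hGW I hS hcy hSp hN (TS.RowTside.tside hGW I hSp hN) (alpha hSp hN)

end Cfsg.Agent.OddHalf.D6.QThree.L43.RowFin
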