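import Cfsg.Agent.OddHalf.D6.QThree.EndSym
import Cfsg.Agent.OddHalf.D6.QThree.FrontLoc
import Cfsg.Agent.Transfer.Extraspecial

/-!
# ODD half, D6, `q = 3`, row `L₄(3)`, `T < S`, the end: `|O₂(C_G(z))| ∈ {2⁵, 2⁷, 2⁹}` (helper751, text: helper76 #17200)

`FrontLoc.Loc`, `|B| ≤ 8`, `F = F*(C(z))` extraspecial: `R ≤ F` (`R_le`), `F = R C_F(R)` (`decomp`),
`|C_F(R)| ≤ 32` (`card_F1_le`), `card_cases`.
-/

set_option autoImplicit false

namespace Cfsg.Agent.OddHalf.D6.QThree.L43.EndCard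

open Subgroup Cfsg
open Cfsg.Agent.Co2Type.Quad Cfsg.Agent.LargeExtra.Base Cfsg.Agent.LargeExtra.TwoCentral
  Cfsg.Agent.LargeExtra.Dickson

variable {G : Type*} [Group G]

/-! ### `|F| ≤ 2 |C_F(x)|²` -/

/-- `x` normalises the 2-group `F` with all squares in `⟨z⟩` -/
structure SF (z x : G) (F : Subgroup G) : Prop where
  leC : ∀ a ∈ F, a * z = z * a
  sq : ∀ a ∈ F, a * a = 1 ∨ a * a = z
  norm : ∀ a ∈ F, x * a * x⁻¹ ∈ F

namespace SF

variable {x z : G} {F : Subgroup G}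

/-- `{p ∈ F | [x, p] ∈ ⟨z⟩}` -/
def PP (h : SF z x F) (zz : z * z = 1) : Subgroup G where
  carrier := {p | p ∈ F ∧ (x * p * x⁻¹ = p ∨ x * p * x⁻¹ = z * p)}
  one_mem' := ⟨F.one_mem, Or.inl (by group)⟩
  mul_mem' := by
    rintro p q ⟨hp, ep⟩ ⟨hq, eq⟩
    refine ⟨F.mul_mem hp hq, ?_⟩
    have e : x * (p * q) * x⁻¹ = (x * p * x⁻¹) * (x * q * x⁻¹) := by group
    rw [e]
    rcases ep with ep | ep <;> rcases eq with eq | eq <;> rw [ep, eq]
    · left; rfl
    · right; rw [← mul_assoc, h.leC p hp, mul_assoc]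
    · right; rw [mul_assoc]
    · left
      calc z * p * (z * q) = z * (p * z) * q := by group
        _ = (z * z) * (p * q) := by rw [h.leC p hp]; group
        _ = p * q := by rw [zz, one_mul]
  inv_mem' := by
    rintro p ⟨hp, ep⟩
    refine ⟨F.inv_mem hp, ?_⟩
    have e : x * p⁻¹ * x⁻¹ = (x * p * x⁻¹)⁻¹ := by group
    have hz : z⁻¹ = z := inv_eq_of_mul_eq_one_left zz
    rcases ep with ep | ep
    · left; rw [e, ep]
    · right
      rw [e, ep, mul_inv_rev, hz]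
      exact h.leC p⁻¹ (F.inv_mem hp)

theorem mem_PP (h : SF z x F) (zz : z * z = 1) {p : G} :
    p ∈ h.PP zz ↔ p ∈ F ∧ (x * p * x⁻¹ = p ∨ x * p * x⁻¹ = z * p) := Iff.rfl

/-- `N = C_F(x)` -/
abbrev NN (F : Subgroup G) (x : G) : Subgroup G := F ⊓ centralizer ({x} : Set G)

theorem mem_NN {g : G} : g ∈ NN F x ↔ g ∈ F ∧ g * x = x * g := by
  rw [mem_inf, mem_centralizer_singleton_iff]

theorem card_PP_le [Finite G] (h : SF z x F) (zz : z * z = 1) :
    Nat.card ↥(h.PP zz) ≤ 2 * Nat.card ↥(NN F x) := by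
  classical
  by_cases hP : ∃ p0 ∈ h.PP zz, x * p0 * x⁻¹ = z * p0
  · obtain ⟨p0, hp0, e0⟩ := hP
    have key : ∀ p ∈ h.PP zz, ¬ p ∈ NN F x → p * p0⁻¹ ∈ NN F x := by
      intro p hp hn
      rw [mem_NN]
      refine ⟨F.mul_mem hp.1 (F.inv_mem hp0.1), ?_⟩
      have ep : x * p * x⁻¹ = z * p := by
        rcases hp.2 with e | e
        · exfalso
          apply hn
          rw [mem_NN]
          exact ⟨hp.1, (mul_inv_eq_iff_eq_mul.1 e).symm⟩
        · exact e
      have e1 : x * (p * p0⁻¹) * x⁻¹ = p * p0⁻¹ := by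
        calc x * (p * p0⁻¹) * x⁻¹ = (x * p * x⁻¹) * (x * p0 * x⁻¹)⁻¹ := by group
          _ = z * (p * p0⁻¹) * z⁻¹ := by rw [ep, e0]; group
          _ = (p * p0⁻¹) * z * z⁻¹ := by rw [h.leC _ (F.mul_mem hp.1 (F.inv_mem hp0.1))]
          _ = _ := by group
      exact (mul_inv_eq_iff_eq_mul.1 e1).symm
    let φ : ↥(h.PP zz) → ↥(NN F x) × Bool := fun p =>
      if hp : (p : G) ∈ NN F x then (⟨p, hp⟩, false) else (⟨p * p0⁻¹, key p p.2 hp⟩, true)
    have hφ : Function.Injective φ := by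
      intro p q e
      simp only [φ] at e
      split_ifs at e with h1 h2 h2
      · have := congrArg (fun t : ↥(NN F x) × Bool => (t.1 : G)) e
        exact Subtype.ext this
      · exact absurd (congrArg Prod.snd e) Bool.false_ne_true
      · exact absurd (congrArg Prod.snd e).symm Bool.false_ne_true
      · have := congrArg (fun t : ↥(NN F x) × Bool => (t.1 : G)) e
        exact Subtype.ext (mul_right_cancel this)
    have := Nat.card_le_card_of_injective φ hφ
    rw [Nat.card_prod, Nat.card_eq_fintype_card (α := Bool), Fintype.card_bool, mul_comm] at this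
    exact this
  · push Not at hP
    have hle : h.PP zz ≤ NN F x := by
      intro p hp
      rw [mem_NN]
      refine ⟨hp.1, ?_⟩
      rcases hp.2 with e | e
      · exact (mul_inv_eq_iff_eq_mul.1 e).symm
      · exact absurd e (hP p hp)
    have := Nat.card_le_card_of_injective _ (Subgroup.inclusion_injective hle)
    omega

theorem comm_mem_PP (h : SF z x F) (zz : z * z = 1) (xx : x * x = 1) {f : G} (hf : f ∈ F) :
    x * f * x⁻¹ * f⁻¹ ∈ h.PP zz := by
  have hxi : x⁻¹ = x := inv_eq_of_mul_eq_one_left xx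
  have hmem : x * f * x⁻¹ * f⁻¹ ∈ F := F.mul_mem (h.norm f hf) (F.inv_mem hf)
  refine ⟨hmem, ?_⟩
  set g := x * f * x⁻¹ * f⁻¹ with hg
  have e1 : x * g * x⁻¹ = g⁻¹ := by
    calc x * g * x⁻¹ = (x * x) * f * x⁻¹ * f⁻¹ * x⁻¹ := by rw [hg]; group
      _ = f * x⁻¹ * f⁻¹ * x⁻¹ := by rw [xx, one_mul]
      _ = f * x * f⁻¹ * x⁻¹ := by rw [hxi]
      _ = g⁻¹ := by rw [hg]; group
  rw [e1]
  rcases h.sq g hmem with e | e
  · left; exact inv_eq_of_mul_eq_one_left e
  · right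
    have e2 : g⁻¹ * (g * g) = g⁻¹ * z := by rw [e]
    rw [inv_mul_cancel_left] at e2
    have e3 : g⁻¹ * z = z * g⁻¹ := h.leC _ (F.inv_mem hmem)
    calc g⁻¹ = (z * z) * g⁻¹ := by rw [zz, one_mul]
      _ = z * (z * g⁻¹) := by group
      _ = z * (g⁻¹ * z) := by rw [e3]
      _ = z * g := by rw [← e2]

/-- the map `f ↦ [x, f]` on `F/N` -/
noncomputable def psi (h : SF z x F) (zz : z * z = 1) (xx : x * x = 1) :
    ↥F ⧸ (NN F x).subgroupOf F → ↥(h.PP zz) :=
  fun q => ⟨x * (q.out : ↥F) * x⁻¹ * ((q.out : ↥F) : G)⁻¹, h.comm_mem_PP zz xx (q.out : ↥F).2⟩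

theorem psi_inj (h : SF z x F) (zz : z * z = 1) (xx : x * x = 1) : Function.Injective (h.psi zz xx) := by
  intro p q e
  have e1 : x * ((p.out : ↥F) : G) * x⁻¹ * ((p.out : ↥F) : G)⁻¹ = x * ((q.out : ↥F) : G) * x⁻¹ * ((q.out : ↥F) : G)⁻¹ :=
    congrArg Subtype.val e
  rw [← QuotientGroup.out_eq' p, ← QuotientGroup.out_eq' q, QuotientGroup.eq, mem_subgroupOf, mem_NN]
  refine ⟨SetLike.coe_mem _, ?_⟩
  show (((p.out : ↥F) : G)⁻¹ * ((q.out : ↥F) : G)) * x = x * (((p.out : ↥F) : G)⁻¹ * ((q.out : ↥F) : G))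
  generalize ((p.out : ↥F) : G) = a at e1
  generalize ((q.out : ↥F) : G) = b at e1
  have e2 : a * x⁻¹ * a⁻¹ = b * x⁻¹ * b⁻¹ := by
    calc a * x⁻¹ * a⁻¹ = x⁻¹ * (x * a * x⁻¹ * a⁻¹) := by group
      _ = x⁻¹ * (x * b * x⁻¹ * b⁻¹) := by rw [e1]
      _ = b * x⁻¹ * b⁻¹ := by group
  have e3 : a * x * a⁻¹ = b * x * b⁻¹ := by
    have := congrArg (·⁻¹) e2
    simpa [mul_assoc] using this
  calc (a⁻¹ * b) * x = a⁻¹ * (b * x * b⁻¹) * b := by group
    _ = a⁻¹ * (a * x * a⁻¹) * b := by rw [e3]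
    _ = x * (a⁻¹ * b) := by group

theorem card_F_eq [Finite G] (F : Subgroup G) (x : G) :
    Nat.card ↥F = Nat.card (↥F ⧸ (NN F x).subgroupOf F) * Nat.card ↥(NN F x) := by
  rw [Subgroup.card_eq_card_quotient_mul_card_subgroup ((NN F x).subgroupOf F)]
  congr 1
  exact Nat.card_congr (subgroupOfEquivOfLe inf_le_left).toEquiv

/-- `|F| ≤ 2 |C_F(x)|²` -/
theorem card_le [Finite G] (h : SF z x F) (zz : z * z = 1) (xx : x * x = 1) :
    Nat.card ↥F ≤ 2 * Nat.card ↥(NN F x) * Nat.card ↥(NN F x) := by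
  rw [card_F_eq F x]
  exact Nat.mul_le_mul_right _
    ((Nat.card_le_card_of_injective _ (h.psi_inj zz xx)).trans (h.card_PP_le zz))

end SF

/-! ### `F = R C_F(R)` -/

section dec

variable {z t : G} {R F : Subgroup G}

theorem decomp [Finite G] (L : Large F z) (hRF : R ≤ F)
    (cR : ∀ r ∈ R, (∀ y ∈ R, r * y = y * r) → r = 1 ∨ r = z) {f : G} (hf : f ∈ F) :
    ∃ r ∈ R, ∃ s ∈ F, (∀ y ∈ R, s * y = y * s) ∧ f = r * s := by
  have := finiteDim L
  let U : Submodule (ZMod 2) L.V :=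
    { carrier := {v | ∃ (r : G) (hr : r ∈ R), v = L.pr ⟨r, hRF hr⟩}
      zero_mem' := ⟨1, R.one_mem, rfl⟩
      add_mem' := by
        rintro _ _ ⟨r, hr, rfl⟩ ⟨r', hr', rfl⟩
        exact ⟨r * r', R.mul_mem hr hr', rfl⟩
      smul_mem' := by
        rintro c _ ⟨r, hr, rfl⟩
        rcases zmod_two c with h1 | h1
        · rw [h1, zero_smul]
          exact ⟨1, R.one_mem, rfl⟩
        · rw [h1, one_smul]
          exact ⟨r, hr, rfl⟩ }
  have hrefl : L.b.IsRefl := fun v w hvw => by rw [L.b_comm]; exact hvw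
  have hort : ∀ v, v ∈ L.b.orthogonal U → ∀ (r : G) (hr : r ∈ R), L.b (L.pr ⟨r, hRF hr⟩) v = 0 :=
    fun v hv r hr => hv _ ⟨r, hr, rfl⟩
  have hdis : Disjoint U (L.b.orthogonal U) := by
    rw [Submodule.disjoint_def]
    rintro _ ⟨r, hr, rfl⟩ hv
    rw [L.pr_eq_zero]
    apply cR r hr
    intro y hy
    exact ((L.b_pr _ _).1 (hort _ hv y hy)).symm
  have hc := (LinearMap.BilinForm.isCompl_orthogonal_iff_disjoint hrefl).2 hdis
  have h1 : L.pr ⟨f, hf⟩ ∈ U ⊔ L.b.orthogonal U := by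
    rw [hc.sup_eq_top]; exact Submodule.mem_top
  obtain ⟨_, ⟨r, hr, rfl⟩, w, hw, e⟩ := Submodule.mem_sup.1 h1
  obtain ⟨⟨s, hs⟩, rfl⟩ := L.pr_surjective w
  have hsR : ∀ y ∈ R, s * y = y * s := fun y hy => ((L.b_pr _ _).1 (hort _ hw y hy)).symm
  rw [← L.pr_mul, L.pr_eq_pr] at e
  have zc : ∀ y ∈ R, z * y = y * z := fun y hy => (L.comm_z y (hRF hy)).symm
  rcases e with e | e
  · exact ⟨r, hr, s, hs, hsR, e.symm⟩
  · refine ⟨r, hr, s * z, F.mul_mem hs L.z_mem, ?_, ?_⟩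
    · intro y hy
      have c1 : Commute s y := hsR y hy
      have c2 : Commute z y := zc y hy
      exact (c1.mul_left c2).eq
    · have e' : r * s = f * z := e
      rw [← mul_assoc, e', mul_assoc, L.z_sq, mul_one]

/-- `2 |F| ≤ |R| |C_F(R)|` -/
theorem card_mul_le [Finite G] (L : Large F z) (hRF : R ≤ F) (zR : z ∈ R)
    (cR : ∀ r ∈ R, (∀ y ∈ R, r * y = y * r) → r = 1 ∨ r = z) :
    2 * Nat.card ↥F ≤ Nat.card ↥R * Nat.card ↥(F ⊓ centralizer (R : Set G) : Subgroup G) := by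
  classical
  set F₁ : Subgroup G := F ⊓ centralizer (R : Set G) with hF₁
  have hcomm : ∀ (r : ↥R) (s : ↥F₁), Commute (r : G) (s : G) := fun r s =>
    mem_centralizer_iff.1 s.2.2 r r.2
  have hz₁ : z ∈ F₁ := ⟨L.z_mem, mem_centralizer_iff.2 fun r hr => L.comm_z r (hRF hr)⟩
  let g : ↥F × Bool → ↥R × ↥F₁ := fun p =>
    let d := decomp L hRF cR p.1.2
    if p.2 then (⟨d.choose, d.choose_spec.1⟩, ⟨d.choose_spec.2.choose,
      d.choose_spec.2.choose_spec.1, mem_centralizer_iff.2 fun r hr =>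
        (d.choose_spec.2.choose_spec.2.1 r hr).symm⟩)
    else (⟨d.choose * z, R.mul_mem d.choose_spec.1 zR⟩, ⟨z * d.choose_spec.2.choose,
      F₁.mul_mem hz₁ ⟨d.choose_spec.2.choose_spec.1, mem_centralizer_iff.2 fun r hr =>
        (d.choose_spec.2.choose_spec.2.1 r hr).symm⟩⟩)
  have hg : ∀ p, ((g p).1 : G) * ((g p).2 : G) = p.1 := by
    rintro ⟨f, _ | _⟩
    · have h1 := (decomp L hRF cR f.2).choose_spec.2.choose_spec.2.2
      show (decomp L hRF cR f.2).choose * z * (z * (decomp L hRF cR f.2).choose_spec.2.choose) = f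
      calc _ = (decomp L hRF cR f.2).choose * (z * z) * (decomp L hRF cR f.2).choose_spec.2.choose := by
            group
        _ = f := by rw [L.z_sq, mul_one]; exact h1.symm
    · exact (decomp L hRF cR f.2).choose_spec.2.choose_spec.2.2.symm
  have hinj : Function.Injective g := by
    rintro ⟨f, c⟩ ⟨f', c'⟩ e
    have h1 : f = f' := by
      apply Subtype.ext
      rw [← hg (f, c), ← hg (f', c'), e]
    subst h1
    have h2 : ∀ c, ((g (f, c)).1 : G) = (decomp L hRF cR f.2).choose * (if c then 1 else z) := by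
      rintro (_ | _)
      · rfl
      · exact (mul_one _).symm
    have h3 : ((g (f, c)).1 : G) = ((g (f, c')).1 : G) := by rw [e]
    rw [h2, h2] at h3
    have h4 := mul_left_cancel h3
    rcases c with _ | _ <;> rcases c' with _ | _
    · rfl
    · exact absurd (by simpa using h4) L.z_ne
    · exact absurd (by simpa using h4.symm) L.z_ne
    · rfl
  have h5 := Nat.card_le_card_of_injective g hinj
  rw [Nat.card_prod, Nat.card_prod, Nat.card_eq_fintype_card (α := Bool), Fintype.card_bool, mul_comm] at h5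
  exact h5

end dec

/-! ### the local situation -/

open Cfsg.Agent.LargeExtra.Model
open Cfsg.Agent.LargeExtra.W2
open Cfsg.Agent.LargeExtra.W2.PlusHom (M mi mj ml rP4)
open Cfsg.Agent.OddHalf.D6.QThree.PlusOf
open Cfsg.Agent.OddHalf.D6.QThree.NIFacts
open Cfsg.Agent.OddHalf.D6.QThree.FrontLoc (Loc Bt T4)
open Cfsg.Agent.OddHalf.D6.QThree.EndSym (axb)

theorem dec_move : ∀ m : M, m ≠ 1 → m ≠ zz → (m⁻¹ * ea m ≠ 1 ∧ m⁻¹ * ea m ≠ zz) ∨
    (m⁻¹ * eb m ≠ 1 ∧ m⁻¹ * eb m ≠ zz) := by decide +kernel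
theorem dec_mem₁ : ∀ m : M, m⁻¹ * ea m ∈ A₁ := by decide +kernel
theorem dec_mem₂ : ∀ m : M, m⁻¹ * eb m ∈ A₂ := by decide +kernel
theorem dec_gen₁ : ∀ c : M, c ∈ A₁ → c ≠ 1 → c ≠ zz → mi = c ∨ mi = c⁻¹ ∨ mi = ea c ∨ mi = (ea c)⁻¹ ∨
    mi = ea (ea c) ∨ mi = (ea (ea c))⁻¹ := by decide +kernel
theorem dec_gen₂ : ∀ c : M, c ∈ A₂ → c ≠ 1 → c ≠ zz → PlusHom.mk = c ∨ PlusHom.mk = c⁻¹ ∨
    PlusHom.mk = eb c ∨ PlusHom.mk = (eb c)⁻¹ ∨ PlusHom.mk = eb (eb c) ∨ PlusHom.mk = (eb (eb c))⁻¹ := by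
  decide +kernel

variable {t z : G} {R F : Subgroup G} {i j k l a b : G}

theorem card_R (h : Loc t z R i j k l a b) : Nat.card ↥R = 32 := by
  rw [h.gR, ← hom_range h.fr.toQRel, ← Nat.card_congr (MonoidHom.ofInjective (hom_injective h.fr.toQRel)).toEquiv,
    card_XG]
  norm_num

theorem exists_hom (h : Loc t z R i j k l a b) {r : G} (hr : r ∈ R) : ∃ m : M, hom h.fr.toQRel m = r := by
  rw [h.gR, ← hom_range h.fr.toQRel] at hr
  exact hr

theorem a_t (h : Loc t z R i j k l a b) : a * t = t * a := h.Dt a (subset_closure (by simp))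
theorem b_t (h : Loc t z R i j k l a b) : b * t = t * b := h.Dt b (subset_closure (by simp))
theorem a_z (h : Loc t z R i j k l a b) : a * z = z * a := mul_inv_eq_iff_eq_mul.1 h.fr.act_a.z
theorem b_z (h : Loc t z R i j k l a b) : b * z = z * b := mul_inv_eq_iff_eq_mul.1 h.fr.act_b.z

theorem odd_of_cube {x : G} (h : x * x * x = 1) : Odd (orderOf x) := by
  have h1 : orderOf x ∣ 3 := orderOf_dvd_of_pow_eq_one (by rw [pow_succ, pow_two]; exact h)
  exact Odd.of_dvd_nat (by decide) h1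

/-- `X` is irreducible on `R / ⟨z⟩` -/
theorem irr (h : Loc t z R i j k l a b) {N : Subgroup G} (hNR : N ≤ R)
    (hN : ∀ g, g * t = t * g → g * z = z * g → ∀ n ∈ N, g * n * g⁻¹ ∈ N) {n : G} (hn : n ∈ N) (hn1 : n ≠ 1)
    (hnz : n ≠ z) : R ≤ N := by
  have f := h.fr
  obtain ⟨m, rfl⟩ := exists_hom h (hNR hn)
  have ha : ∀ x, hom h.fr.toQRel x ∈ N → hom h.fr.toQRel (ea x) ∈ N := by
    intro x hx
    rw [← h.fr.conj_a]
    exact hN a (a_t h) (a_z h) _ hx
  have hb : ∀ x, hom h.fr.toQRel x ∈ N → hom h.fr.toQRel (eb x) ∈ N := by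
    intro x hx
    rw [← h.fr.conj_b]
    exact hN b (b_t h) (b_z h) _ hx
  have hi : ∀ x, hom h.fr.toQRel x ∈ N → hom h.fr.toQRel x⁻¹ ∈ N := by
    intro x hx
    rw [map_inv]; exact N.inv_mem hx
  have hm1 : m ≠ 1 := by
    rintro rfl
    exact hn1 (map_one _)
  have hmz : m ≠ zz := by
    rintro rfl
    exact hnz (hom_zz _)
  obtain ⟨p, hpt, hpz, hp⟩ := h.sw
  have hik : i ∈ N ↔ k ∈ N := by
    constructor
    · intro h1
      rw [← hp]; exact hN p hpt hpz _ h1
    · intro h1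
      have e : i = p⁻¹ * k * p⁻¹⁻¹ := by rw [← hp]; group
      rw [e]
      exact hN p⁻¹ (show Commute p t from hpt).inv_left (show Commute p z from hpz).inv_left _ h1
  have hiN : i ∈ N := by
    rcases dec_move m hm1 hmz with ⟨h1, h2⟩ | ⟨h1, h2⟩
    · have h3 : hom h.fr.toQRel (m⁻¹ * ea m) ∈ N := by
        rw [map_mul]; exact N.mul_mem (hi m hn) (ha m hn)
      rw [← hom_i h.fr.toQRel]
      rcases dec_gen₁ _ (dec_mem₁ m) h1 h2 with e | e | e | e | e | e <;> rw [e]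
      exacts [h3, hi _ h3, ha _ h3, hi _ (ha _ h3), ha _ (ha _ h3), hi _ (ha _ (ha _ h3))]
    · have h3 : hom h.fr.toQRel (m⁻¹ * eb m) ∈ N := by
        rw [map_mul]; exact N.mul_mem (hi m hn) (hb m hn)
      rw [hik, ← hom_k h.fr.toQRel]
      rcases dec_gen₂ _ (dec_mem₂ m) h1 h2 with e | e | e | e | e | e <;> rw [e]
      exacts [h3, hi _ h3, hb _ h3, hi _ (hb _ h3), hb _ (hb _ h3), hi _ (hb _ (hb _ h3))]
  have hkN := hik.1 hiN
  have hjN : j ∈ N := by
    rw [← f.act_a.i]; exact hN a (a_t h) (a_z h) _ hiN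
  have hlN : l ∈ N := by
    rw [← f.act_b.k]; exact hN b (b_t h) (b_z h) _ hkN
  rw [h.gR, closure_le]
  intro x hx
  have hx' : x = i ∨ x = j ∨ x = k ∨ x = l := by simpa using hx
  rcases hx' with rfl | rfl | rfl | rfl
  exacts [hiN, hjN, hkN, hlN]

/-- `D` is normal in `X` -/
theorem nD (h : Loc t z R i j k l a b) {g : G} (hgt : g * t = t * g) (hgz : g * z = z * g) :
    ∀ d ∈ closure {i, j, k, l, a, b}, g * d * g⁻¹ ∈ closure {i, j, k, l, a, b} := by
  have hRD : R ≤ closure {i, j, k, l, a, b} := by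
    rw [h.gR]
    apply Subgroup.closure_mono
    intro x hx
    have hx' : x = i ∨ x = j ∨ x = k ∨ x = l := by simpa using hx
    rcases hx' with rfl | rfl | rfl | rfl <;> simp
  have hR : ∀ r ∈ R, g * r * g⁻¹ ∈ closure {i, j, k, l, a, b} := fun r hr => hRD (h.nR g hgt hgz r hr)
  have hgen : ∀ r, r ∈ ({i, j, k, l} : Set G) → r ∈ R := by
    intro r hr
    rw [h.gR]; exact subset_closure hr
  have ho : ∀ c, c * t = t * c → c * z = z * c → Odd (orderOf c) → g * c * g⁻¹ ∈ closure {i, j, k, l, a, b} := by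
    intro c hct hcz hc
    have ct : Commute g t := hgt
    have cz : Commute g z := hgz
    apply h.od
    · exact ((ct.mul_left hct).mul_left ct.inv_left).eq
    · exact ((cz.mul_left hcz).mul_left cz.inv_left).eq
    · have e : orderOf (g * c * g⁻¹) = orderOf c := by
        rw [← MulAut.conj_apply]
        exact orderOf_injective (MulAut.conj g).toMonoidHom (MulAut.conj g).injective c
      rw [e]; exact hc
  have hle : closure {i, j, k, l, a, b} ≤ (closure {i, j, k, l, a, b}).comap (MulAut.conj g).toMonoidHom := by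
    rw [closure_le]
    intro x hx
    show g * x * g⁻¹ ∈ closure {i, j, k, l, a, b}
    have hx' : x = i ∨ x = j ∨ x = k ∨ x = l ∨ x = a ∨ x = b := by simpa using hx
    rcases hx' with rfl | rfl | rfl | rfl | rfl | rfl
    · exact hR _ (hgen _ (by simp))
    · exact hR _ (hgen _ (by simp))
    · exact hR _ (hgen _ (by simp))
    · exact hR _ (hgen _ (by simp))
    · exact ho _ (a_t h) (a_z h) (odd_of_cube h.a3)
    · exact ho _ (b_t h) (b_z h) (odd_of_cube h.b3)
  exact fun d hd => hle hd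

theorem R_le_D (h : Loc t z R i j k l a b) : R ≤ closure {i, j, k, l, a, b} := by
  rw [h.gR]
  apply Subgroup.closure_mono
  intro x hx
  have hx' : x = i ∨ x = j ∨ x = k ∨ x = l := by simpa using hx
  rcases hx' with rfl | rfl | rfl | rfl <;> simp

/-- `R ≤ F` -/
theorem R_le [Finite G] (h : Loc t z R i j k l a b) (L : Large F z) : R ≤ F := by
  have hFX : ∀ g, g * t = t * g → g * z = z * g → ∀ n ∈ R ⊓ F, g * n * g⁻¹ ∈ R ⊓ F :=
    fun g hgt hgz n hn => ⟨h.nR g hgt hgz n hn.1, L.conj_mem g hgz n hn.2⟩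
  by_cases hcon : ∃ n ∈ R ⊓ F, n ≠ 1 ∧ n ≠ z
  · obtain ⟨n, hn, h1, h2⟩ := hcon
    exact (irr h inf_le_left hFX hn h1 h2).trans inf_le_right
  exfalso
  push Not at hcon
  have h1 : ∀ n ∈ R ⊓ F, n = 1 ∨ n = z := by
    intro n hn
    by_cases e : n = 1
    · exact Or.inl e
    · exact Or.inr (hcon n hn e)
  have hz := a_z h
  have ho := odd_of_cube h.a3
  have hFD : F ⊓ closure {i, j, k, l, a, b} ≤ R := h.max _ inf_le_right ((isPGroup L).to_le inf_le_left)
    (fun g hgt hgz n hn => ⟨L.conj_mem g hgz n hn.1, nD h hgt hgz n hn.2⟩)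
  have haD : a ∈ closure ({i, j, k, l, a, b} : Set G) := subset_closure (by simp)
  have h2 : ∀ x ∈ F, x * a = a * x := by
    refine axb (isPGroup L) ho (a_t h) h.tt (fun x hx => L.conj_mem a hz x hx)
      (fun x hx => L.conj_mem t h.comm x hx) ?_
    intro x hx hxt
    have hxz := L.comm_z x hx
    have h3 : x * a * x⁻¹ * a⁻¹ ∈ F ⊓ closure {i, j, k, l, a, b} := by
      refine ⟨?_, Subgroup.mul_mem _ (nD h hxt hxz a haD) (Subgroup.inv_mem _ haD)⟩
      have h4 := F.mul_mem hx (L.conj_mem a hz x⁻¹ (F.inv_mem hx))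
      have e : x * (a * x⁻¹ * a⁻¹) = x * a * x⁻¹ * a⁻¹ := by group
      rwa [e] at h4
    rcases h1 _ ⟨hFD h3, h3.1⟩ with h4 | h4
    · calc x * a = x * a * x⁻¹ * a⁻¹ * (a * x) := by group
        _ = a * x := by rw [h4, one_mul]
    · exfalso
      have h5 : x * a * x⁻¹ = z * a := by rw [← h4]; group
      have h6 : (z * a) ^ 3 = 1 := by
        rw [← h5, conj_pow, show a ^ 3 = 1 from by rw [pow_succ, pow_two]; exact h.a3]; group
      have hc : Commute z a := hz.symm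
      rw [hc.mul_pow, show a ^ 3 = 1 from by rw [pow_succ, pow_two]; exact h.a3, mul_one, pow_succ, pow_two,
        h.fr.zz, one_mul] at h6
      exact h.fr.z1 h6
  have h3 : a ∈ F := L.self a hz fun x hx => (h2 x hx).symm
  obtain ⟨n, hn⟩ := (isPGroup L) ⟨a, h3⟩
  have hn' : a ^ 2 ^ n = 1 := congrArg Subtype.val hn
  have hcop : Nat.Coprime (orderOf a) (2 ^ n) := (Nat.coprime_two_right.2 ho).pow_right n
  have ha1 : a = 1 :=
    orderOf_eq_one_iff.1 (Nat.eq_one_of_dvd_coprimes hcop dvd_rfl (orderOf_dvd_of_pow_eq_one hn'))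
  have hij : i = j := by
    have := h.fr.act_a.i
    rwa [ha1, one_mul, inv_one, mul_one] at this
  have h4 := h.fr.ji
  rw [← hij] at h4
  exact h.fr.z1 (mul_eq_left.1 h4.symm)

/-- `B` -/
theorem card_BB (b8 : Nat.card {x : G // Bt t R x} ≤ 8) :
    Nat.card ↥(centralizer ({t} : Set G) ⊓ centralizer (R : Set G) : Subgroup G) ≤ 8 := by
  refine le_trans (le_of_eq (Nat.card_congr (Equiv.subtypeEquivRight ?_))) b8
  intro x
  rw [mem_inf, mem_centralizer_singleton_iff, mem_centralizer_iff]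
  exact ⟨fun h => ⟨h.1, fun r hr => (h.2 r hr).symm⟩, fun h => ⟨h.1, fun r hr => (h.2 r hr).symm⟩⟩

/-- `|C_F(R)| ≤ 32` -/
theorem card_F1_le [Finite G] (h : Loc t z R i j k l a b) (b8 : Nat.card {x : G // Bt t R x} ≤ 8)
    (L : Large F z) : Nat.card ↥(F ⊓ centralizer (R : Set G) : Subgroup G) ≤ 32 := by
  classical
  set F₁ : Subgroup G := F ⊓ centralizer (R : Set G) with hF₁
  have htR : ∀ r ∈ R, r * t = t * r := fun r hr => h.Dt r (R_le_D h hr)
  have S : SF z t F₁ :=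
    { leC := fun a ha => L.comm_z a ha.1
      sq := fun a ha => L.sq a ha.1
      norm := by
        rintro a ⟨ha, haR⟩
        refine ⟨L.conj_mem t h.comm a ha, mem_centralizer_iff.2 fun r hr => ?_⟩
        have c1 : Commute r t := htR r hr
        have c2 : Commute r a := mem_centralizer_iff.1 haR r hr
        exact ((c1.mul_right c2).mul_right c1.inv_right).eq }
  have hB := card_BB b8
  have hle : SF.NN F₁ t ≤ centralizer ({t} : Set G) ⊓ centralizer (R : Set G) := by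
    rintro x ⟨⟨-, hxR⟩, hxt⟩
    exact ⟨hxt, hxR⟩
  have hle' := Subgroup.card_le_of_le hle
  by_cases htF : t ∈ F
  · have h1 : F₁ ≤ S.PP h.fr.zz := by
      intro f hf
      refine ⟨hf, ?_⟩
      rcases L.comm t htF f hf.1 with e | e
      · left; rw [e, mul_inv_cancel_right]
      · right
        have c1 : f * t * z = z * (f * t) :=
          ((show Commute f z from L.comm_z f hf.1).mul_left h.comm).eq
        rw [e, c1]; group
    have h2 := Subgroup.card_le_of_le h1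
    have h3 := S.card_PP_le h.fr.zz
    omega
  · have h1 : SF.NN F₁ t < centralizer ({t} : Set G) ⊓ centralizer (R : Set G) := by
      refine lt_of_le_of_ne hle fun e => ?_
      have h2 : t ∈ centralizer ({t} : Set G) ⊓ centralizer (R : Set G) :=
        ⟨mem_centralizer_singleton_iff.2 rfl, mem_centralizer_iff.2 fun r hr => htR r hr⟩
      rw [← e] at h2
      exact htF h2.1.1
    have h2 : 2 * Nat.card ↥(SF.NN F₁ t) ≤ 8 := by
      refine le_trans ?_ hB
      have h3 := Subgroup.card_dvd_of_le hle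
      obtain ⟨c, hc⟩ := h3
      have hpos : 0 < Nat.card ↥(SF.NN F₁ t) := Nat.card_pos
      have hc1 : c ≠ 1 := by
        rintro rfl
        rw [mul_one] at hc
        exact h1.ne (Subgroup.eq_of_le_of_card_ge hle hc.le)
      have hc0 : c ≠ 0 := by
        rintro rfl
        rw [mul_zero] at hc
        have : 0 < Nat.card ↥(centralizer ({t} : Set G) ⊓ centralizer (R : Set G) : Subgroup G) := Nat.card_pos
        omega
      rw [hc, mul_comm]
      exact Nat.mul_le_mul_left _ (by omega)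
    have h3 := S.card_le h.fr.zz h.tt
    have h4 : Nat.card ↥(SF.NN F₁ t) ≤ 4 := by omega
    calc Nat.card ↥F₁ ≤ 2 * Nat.card ↥(SF.NN F₁ t) * Nat.card ↥(SF.NN F₁ t) := h3
      _ ≤ 2 * 4 * 4 := Nat.mul_le_mul (Nat.mul_le_mul_left _ h4) h4
      _ = 32 := by norm_num

/-- `32 ≤ |F| ≤ 512` -/
theorem card_bounds [Finite G] (h : Loc t z R i j k l a b) (b8 : Nat.card {x : G // Bt t R x} ≤ 8)
    (L : Large F z) : 32 ≤ Nat.card ↥F ∧ Nat.card ↥F ≤ 512 := by
  have hRF := R_le h L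
  have hz : z ∈ R := by
    have hi : i ∈ R := by rw [h.gR]; exact subset_closure (by simp)
    rw [← h.fr.ii]; exact R.mul_mem hi hi
  have h1 := card_mul_le L hRF hz (fun r hr hc => h.cR r (R_le_D h hr) hc)
  have h2 := card_F1_le h b8 L
  have h3 := card_R h
  have h4 := Subgroup.card_le_of_le hRF
  rw [h3] at h1 h4
  refine ⟨h4, ?_⟩
  have h5 : 32 * Nat.card ↥(F ⊓ centralizer (R : Set G) : Subgroup G) ≤ 32 * 32 := Nat.mul_le_mul_left _ h2
  omega

/-- **`|F*(C(z))| ∈ {2⁵, 2⁷, 2⁹}`** -/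
theorem card_cases [Finite G] (h : Loc t z R i j k l a b) (b8 : Nat.card {x : G // Bt t R x} ≤ 8)
    (hE : IsExtraspecial 2 ↥(generalizedFittingSubgroup ↥(centralizer ({z} : Set G)))) :
    Nat.card ↥(generalizedFittingSubgroup ↥(centralizer ({z} : Set G))) = 2 ^ 5 ∨
    Nat.card ↥(generalizedFittingSubgroup ↥(centralizer ({z} : Set G))) = 2 ^ 7 ∨
    Nat.card ↥(generalizedFittingSubgroup ↥(centralizer ({z} : Set G))) = 2 ^ 9 := by
  have hz : orderOf z = 2 := orderOf_eq_prime (by rw [pow_two]; exact h.fr.zz) h.fr.z1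
  have L := large_of_genFitting z hz hE
  obtain ⟨h1, h2⟩ := card_bounds h b8 L
  obtain ⟨n, hn1, hn⟩ := Cfsg.Agent.Transfer.Extraspecial.exists_card_eq Nat.prime_two hE
  rw [Subgroup.card_map_of_injective (Subgroup.subtype_injective _), hn] at h1 h2
  rw [hn]
  have h3 : n < 5 := by
    by_contra hc
    have : 2 ^ 11 ≤ 2 ^ (2 * n + 1) := Nat.pow_le_pow_right (by norm_num) (by omega)
    omega
  have h4 : 2 ≤ n := by
    by_contra hc
    have : 2 ^ (2 * n + 1) ≤ 2 ^ 3 := Nat.pow_le_pow_right (by norm_num) (by omega)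
    omega
  interval_cases n <;> norm_num

end Cfsg.Agent.OddHalf.D6.QThree.L43.EndCard
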