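import Cfsg.Agent.OddHalf.D6.QThree.NIB.End

/-!
# ODD half, D6, `K = L₄(3)`, `T < S`, NI: a component of `C_G(z)` contains `Q₁` or `Q₂` (helper577; text: helper76
#17200 (beta), after helper801 #14694 (5), (6))

`B = C_X(t) ∩ C(Q₁ Q₂)` is elementary abelian (`hel`), two reflections differ by an element of `⟨t, z⟩` (`hB2`).

* `nF_of_comp`: the field `nF` of `HypB`;
* `normal`: a component containing `Q₁` and `Q₂` is normal;
* `Sw`, `RefTri'`: the cases for a reflection; `two`: `Q₁ ≤ M₁ ≠ M₂ ≥ Q₂`;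
* `false_of`: no component of `C_G(z)` contains `Q₁` or `Q₂`.
-/

set_option autoImplicit false

namespace Cfsg.Agent.OddHalf.D6.QThree.L43.Beta

open Subgroup Cfsg
open Cfsg.Agent.Cit (cj mem_cj conj_mem_cj)
open Cfsg.Agent.OddHalf.D6.QThree.NISide
open Cfsg.Agent.OddHalf.D6.QThree.NIB
open Cfsg.Agent.OddHalf.D6.QThree.NIB.Two
open Cfsg.Agent.OddHalf.D6.QThree.NI.Hyp (CA comm_layer)

section X

variable {X : Type*} [Group X] {z t a₁ a₂ : X} {Q₁ Q₂ : Subgroup X}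

/-- the field `nF`, when a component contains `Q₁` or `Q₂` -/
theorem nF_of_comp (s₁ : Side z t a₁ Q₁ Q₂) (s₂ : Side z t a₂ Q₂ Q₁) {M : Subgroup X} (hM : IsComponent M)
    (hQ : Q₁ ≤ M ∨ Q₂ ≤ M) :
    (∀ M : Subgroup X, IsComponent M → (∀ x ∈ Q₁, ∀ m ∈ M, x * m = m * x) ∧ ∀ x ∈ Q₂, ∀ m ∈ M, x * m = m * x) →
      ∀ F : Subgroup X, F.Normal → IsPGroup 2 F → ¬ (Q₁ ≤ F ∧ Q₂ ≤ F) := by
  intro h
  exfalso
  obtain ⟨h1, h2⟩ := h M hM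
  rcases hQ with hQ | hQ
  · exact s₁.not_comm fun x hx y hy => h1 x hx y (hQ hy)
  · exact s₂.not_comm fun x hx y hy => h2 x hx y (hQ hy)

/-! ### one component -/

/-- `M` is the only component -/
theorem eq_of_comp [Finite X] (h : HypB z t a₁ a₂ Q₁ Q₂) (hel : ∀ b, Bt t Q₁ Q₂ b → b * b = 1) {M : Subgroup X}
    (hM : IsComponent M) (h1 : Q₁ ≤ M) (h2 : Q₂ ≤ M) {L : Subgroup X} (hL : IsComponent L) : L = M := by
  by_contra hne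
  have hcomm : ∀ x ∈ L, ∀ y ∈ M, x * y = y * x := fun x hx y hy =>
    Cfsg.Agent.Cit.Comp.comm_of_ne hL hM hne hx hy
  refine h.not_central hL fun m hm hmt x hx => ?_
  have hB : Bt t Q₁ Q₂ m := ⟨hmt, fun q hq => hcomm m hm q (h1 hq), fun q hq => hcomm m hm q (h2 hq)⟩
  have hmz : m = 1 ∨ m = z := by
    by_cases hT : T4 z t m
    · exact Dir.two_of_four h hM (fun x hx => hcomm m hm x hx) hT
    · exact absurd (fun y hy => hcomm m hm y hy) (h.refl m ⟨hB, hel m hB, hT⟩ M hM (Or.inl h1))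
  rcases hmz with e | e
  · rw [e, one_mul, mul_one]
  · rw [e]; exact (h.zc x).symm

/-- `M` is normal -/
theorem normal [Finite X] (h : HypB z t a₁ a₂ Q₁ Q₂) (hel : ∀ b, Bt t Q₁ Q₂ b → b * b = 1) {M : Subgroup X}
    (hM : IsComponent M) (h1 : Q₁ ≤ M) (h2 : Q₂ ≤ M) : M.Normal := by
  refine ⟨fun m hm g => ?_⟩
  have h3 := eq_of_comp h hel hM h1 h2 (Cfsg.Agent.Cit.Comp.isComponent_cj hM g)
  have h4 := conj_mem_cj (g := g) hm
  rwa [h3] at h4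

/-! ### two components -/

/-- (4a), `L* = U₄(3)`, `L₄(3)`: some `p` swaps `Q₁` and `Q₂`, `b ∉ [p, C(b)]⟨z⟩` -/
def Sw (z t : X) (Q₁ Q₂ : Subgroup X) (b : X) : Prop :=
  ∃ p : X, p * b = b * p ∧ p * t = t * p ∧ (∀ x ∈ Q₁, p * x * p⁻¹ ∈ Q₂) ∧
    ∀ v : X, v * b = b * v → p * (v * p⁻¹ * v⁻¹) ≠ b ∧ p * (v * p⁻¹ * v⁻¹) ≠ b * z

/-- the three cases for every reflection -/
def RefTri' (z t : X) (Q₁ Q₂ : Subgroup X) : Prop :=
  ∀ b, Refl z t Q₁ Q₂ b → NoV z t Q₁ Q₂ b ∨ Sw z t Q₁ Q₂ b ∨ Diag z t Q₁ Q₂ b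

variable {M₁ M₂ : Subgroup X}

/-- **(6)** for `L₄(3)` -/
theorem two [Finite X] (p : Pr Q₁ Q₂ M₁ M₂) (h : HypB z t a₁ a₂ Q₁ Q₂) (hel : ∀ b, Bt t Q₁ Q₂ b → b * b = 1)
    (hB2 : ∀ b c, Refl z t Q₁ Q₂ b → Refl z t Q₁ Q₂ c → T4 z t (b * c)) (hR : RefTri' z t Q₁ Q₂) : CA z := by
  have hz₁ : z ∈ M₁ := p.zM h
  have hz₂ : z ∈ M₂ := p.symm.zM (symmB h)
  have hN₁ : ∀ b ∈ M₁, Bt t Q₁ Q₂ b → b * b ≠ z := fun b _ hb e => h.z1 (by rw [← e]; exact hel b hb)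
  have hN₂ : ∀ b ∈ M₂, Bt t Q₁ Q₂ b → b * b ≠ z := fun b _ hb e => h.z1 (by rw [← e]; exact hel b hb)
  rcases exists_v h p.c₁ p.q₁ (fun m hm y hy => p.comm m hm y (p.q₂ hy)) (fun b hb hB hbb => p.inv₁ h hb hB hbb)
    with ⟨v₁, h1, h1q, h1t⟩ | ⟨W, hWp, hQW, hWM, ⟨S, hS⟩, hWB⟩
  swap
  · refine ⟨M₁, p.c₁, hz₁, p.rank_one h hWp hQW hS hWM fun w hw hwq => ?_⟩
    rcases p.cases₁ h (hWM hw) (hWB w hw hwq) with e | e | e
    · exact Or.inl e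
    · exact Or.inr e
    · exact absurd e (hN₁ w (hWM hw) (hWB w hw hwq))
  rcases exists_v (symmB h) p.c₂ p.q₂ (fun m hm y hy => (p.comm y (p.q₁ hy) m hm).symm)
    (fun b hb hB hbb => p.symm.inv₁ (symmB h) hb hB hbb)
    with ⟨v₂, h2, h2q, h2t⟩ | ⟨W, hWp, hQW, hWM, ⟨S, hS⟩, hWB⟩
  swap
  · refine ⟨M₂, p.c₂, hz₂, p.symm.rank_one (symmB h) hWp hQW hS hWM fun w hw hwq => ?_⟩
    rcases p.symm.cases₁ (symmB h) (hWM hw) (hWB w hw hwq) with e | e | e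
    · exact Or.inl e
    · exact Or.inr e
    · exact absurd e (hN₂ w (hWM hw) (bt_symm (hWB w hw hwq)))
  exfalso
  have hN₂' : ∀ b ∈ M₂, Bt t Q₂ Q₁ b → b * b ≠ z := fun b hb hB => hN₂ b hb (bt_symm hB)
  have s1 := p.sq_cases h hN₁ h1 h1q h1t
  have s2 := p.symm.sq_cases (symmB h) hN₂' h2 h2q h2t
  have hyB := p.mul_bt h h1 h1q h1t h2 h2q h2t
  have c12 : Commute v₁ v₂ := p.comm v₁ h1 v₂ h2
  have hv12 : v₁ ∉ M₂ := fun hv => Pr.not_comm_t h h1t (p.mid_comm h h1 hv (by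
    rcases s1 with e | e
    · exact Or.inl e
    · exact Or.inr (Or.inl e)))
  have hT := p.mul_not_T4 h h1 h1t h2 hv12
  have hyy : v₁ * v₂ * (v₁ * v₂) = 1 := hel _ hyB
  have hn₁ := p.exists_not_comm' h h1 h1t h2 s1
  have hn₂ : ∃ m ∈ M₂, m * (v₁ * v₂) ≠ v₁ * v₂ * m := by
    have h3 := p.symm.exists_not_comm' (symmB h) h2 h2t h1 s2
    rwa [← c12.eq] at h3
  have hvb : v₁ * (v₁ * v₂) = v₁ * v₂ * v₁ := ((Commute.refl v₁).mul_right c12).eq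
  rcases hR _ ⟨hyB, hyy, hT⟩ with hA | ⟨s, hsb, hst, hs₁, hsv⟩ | ⟨z₁, hz1, hz1z, hz11, hd₁, hd₂⟩
  · exact hA v₁ hvb h1q (fun q hq => p.comm v₁ h1 q (p.q₂ hq)) h1t
  · -- `w = v₁^s v₁⁻¹`
    have hfin := h.s₁.finite
    have hfin2 := h.s₂.finite
    have hmap : Q₁.map (MulAut.conj s).toMonoidHom = Q₂ := by
      apply Subgroup.eq_of_le_of_card_ge
      · rintro _ ⟨x, hx, rfl⟩
        exact hs₁ x hx
      · rw [h.s₂.card, ← h.s₁.card]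
        exact (Nat.card_congr (Q₁.equivMapOfInjective _ (MulAut.conj s).injective).toEquiv).le
    have hcj : cj s M₁ = M₂ := by
      apply p.uniq₂ h (Cfsg.Agent.Cit.Comp.isComponent_cj p.c₁ s)
      rw [← hmap]
      rintro _ ⟨x, hx, rfl⟩
      exact conj_mem_cj (p.q₁ hx)
    set u := s * v₁ * s⁻¹ with hu
    have huM : u ∈ M₂ := by rw [← hcj]; exact conj_mem_cj h1
    have hut : t * u * t⁻¹ = u * z := by
      have c : Commute s t := hst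
      calc t * u * t⁻¹ = (t * s) * v₁ * (t * s)⁻¹ := by rw [hu]; group
        _ = (s * t) * v₁ * (s * t)⁻¹ := by rw [c.eq]
        _ = s * (t * v₁ * t⁻¹) * s⁻¹ := by group
        _ = s * v₁ * (z * s⁻¹) := by rw [h1t]; group
        _ = s * v₁ * (s⁻¹ * z) := by rw [h.zc s⁻¹]
        _ = u * z := by rw [hu]; group
    have huq : ∀ q ∈ Q₂, u * q = q * u := by
      intro q hq
      rw [← hmap] at hq
      obtain ⟨x, hx, rfl⟩ := hq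
      show s * v₁ * s⁻¹ * (s * x * s⁻¹) = s * x * s⁻¹ * (s * v₁ * s⁻¹)
      calc s * v₁ * s⁻¹ * (s * x * s⁻¹) = s * (v₁ * x) * s⁻¹ := by group
        _ = s * (x * v₁) * s⁻¹ := by rw [h1q x hx]
        _ = s * x * s⁻¹ * (s * v₁ * s⁻¹) := by group
    have hi1 : v₁⁻¹ ∈ M₁ := M₁.inv_mem h1
    have hiq : ∀ q ∈ Q₁, v₁⁻¹ * q = q * v₁⁻¹ := fun q hq => (show Commute v₁ q from h1q q hq).inv_left.eq
    have hit : t * v₁⁻¹ * t⁻¹ = v₁⁻¹ * z := by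
      calc t * v₁⁻¹ * t⁻¹ = (t * v₁ * t⁻¹)⁻¹ := by group
        _ = z⁻¹ * v₁⁻¹ := by rw [h1t, _root_.mul_inv_rev]
        _ = z * v₁⁻¹ := by rw [inv_eq_of_mul_eq_one_right h.zz]
        _ = v₁⁻¹ * z := (h.zc _).symm
    have hi12 : v₁⁻¹ ∉ M₂ := fun e => hv12 (by
      have := M₂.inv_mem e
      rwa [inv_inv] at this)
    have hwB := p.mul_bt h hi1 hiq hit huM huq hut
    have hwT := p.mul_not_T4 h hi1 hit huM hi12
    have hw : Refl z t Q₁ Q₂ (v₁⁻¹ * u) := ⟨hwB, hel _ hwB, hwT⟩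
    have cu : Commute v₁ u := p.comm v₁ h1 u huM
    -- `[s, v₁] = v₁⁻¹ u`
    have e1 : s * (v₁ * s⁻¹ * v₁⁻¹) = v₁⁻¹ * u := by
      calc s * (v₁ * s⁻¹ * v₁⁻¹) = u * v₁⁻¹ := by rw [hu]; group
        _ = v₁⁻¹ * u := cu.symm.inv_right.eq
    obtain ⟨g1, g2⟩ := hsv v₁ hvb
    rw [e1] at g1 g2
    have hty := hB2 _ _ ⟨hyB, hyy, hT⟩ hw
    -- `v₁` commutes with `b w`
    have cv : Commute v₁ (v₁ * v₂ * (v₁⁻¹ * u)) :=
      ((Commute.refl v₁).mul_right c12).mul_right ((Commute.refl v₁).inv_right.mul_right cu)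
    have hwb : ∀ e : X, v₁ * v₂ * (v₁⁻¹ * u) = e → v₁⁻¹ * u = v₁ * v₂ * e := by
      intro e he
      have h5 : v₁ * v₂ * (v₁ * v₂) * (v₁⁻¹ * u) = v₁ * v₂ * e := by rw [mul_assoc (v₁ * v₂), he]
      rwa [hyy, one_mul] at h5
    rcases hty with e | e | e | e
    · exact g1 (by rw [hwb _ e, mul_one])
    · exact g2 (hwb _ e)
    · rw [e] at cv
      exact Pr.not_comm_t h h1t cv.eq
    · apply Pr.not_comm_t h h1t
      have e2 : t = v₁ * v₂ * (v₁⁻¹ * u) * z := by rw [e, mul_assoc, h.zz, mul_one]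
      rw [e2]
      exact (cv.mul_right (h.zc v₁)).eq
  · have hm₁ := p.diag_mem h1 h2 hn₁ hn₂ hd₁
    have hm₂ : z₁ ∈ M₂ := by
      rw [c12.eq] at hn₁ hn₂ hd₂
      exact p.symm.diag_mem h2 h1 hn₂ hn₁ hd₂
    rcases A_inv h (Cfsg.Agent.SignalizersComponents.Components.component_le_layer p.c₁ hm₁) (comm_layer p.c₁ p.c₂ p.ne hm₁ hm₂) hz11 with e | e
    · exact hz1 e
    · exact hz1z e

end X

/-! ### in `G` -/

section G

open Cfsg.Agent.OddHalf Cfsg.Agent.OddHalf.Iface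

universe u

variable {G : Type u} [Group G]

/-- **the case `R ≤ M`** -/
theorem false_of_both (hGW : SylowSp4.Hyps.GW.{u}) (I : Intr2.{u}) (hS : CaseM.IntrSign.{u}) (C : Ctx G)
    (hcy : ∀ K : Subgroup G, Std0 G K → PRankLE 2 1 ↥(centralizer (K : Set G)) → Cyc K)
    {z : G} (hz : orderOf z = 2) {z' t' a₁ a₂ : ↥(centralizer ({z} : Set G))} (hz' : (z' : G) = z)
    {Q₁ Q₂ : Subgroup ↥(centralizer ({z} : Set G))} (h : HypB z' t' a₁ a₂ Q₁ Q₂)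
    (hel : ∀ b, Bt t' Q₁ Q₂ b → b * b = 1)
    {M : Subgroup ↥(centralizer ({z} : Set G))} (hM : IsComponent M) (h1 : Q₁ ≤ M) (h2 : Q₂ ≤ M) : False := by
  have hfin := C.fin
  have hMn : M.Normal := normal h hel hM h1 h2
  have hzM : z' ∈ M := h1 h.s₁.zQ
  have hzM' : (⟨z, mem_centralizer_singleton_iff.2 rfl⟩ : ↥(centralizer ({z} : Set G))) ∈ M := by
    have : (⟨z, mem_centralizer_singleton_iff.2 rfl⟩ : ↥(centralizer ({z} : Set G))) = z' := Subtype.ext hz'.symm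
    rwa [this]
  by_cases htM : t' ∈ M ⊔ centralizer (M : Set ↥(centralizer ({z} : Set G)))
  swap
  · exact CaseC.EndComp.false_of_out_sign C hGW hS hz hM hMn hzM' h.tt (Dir.no_lam h) htM
  rcases Dir.main h hM h1 h2 hMn htM with hca | ⟨c, -, hc⟩ | ⟨Q, hQn, hzQ, -, ⟨e⟩, hQM, hQC⟩ | ⟨m, c, x, d⟩
  · exact DirEnd.no_CA hGW C hz hz' hca
  · refine CaseC.EndComp.false_of_cent I C hz hM hzM' (y := c) fun f hf => ?_
    rw [mem_centralizer_iff] at hf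
    exact hc f fun y hy => (hf y hy).symm
  · exact DirEnd.no_Q8 hGW C hcy hz hz' hM hMn hzM hQn hzQ e hQM hQC
  · exact DirG.no_DE (Front.FE.index_ne_two C) hz' h hM h1 h2 hMn d

/-- **no component of `C_G(z)` contains `Q₁` or `Q₂`** -/
theorem false_of (hGW : SylowSp4.Hyps.GW.{u}) (I : Intr2.{u}) (hS : CaseM.IntrSign.{u}) (C : Ctx G)
    (hcy : ∀ K : Subgroup G, Std0 G K → PRankLE 2 1 ↥(centralizer (K : Set G)) → Cyc K)
    {z : G} (hz : orderOf z = 2) {z' t' a₁ a₂ : ↥(centralizer ({z} : Set G))} (hz' : (z' : G) = z)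
    {Q₁ Q₂ : Subgroup ↥(centralizer ({z} : Set G))} (h : HypB z' t' a₁ a₂ Q₁ Q₂)
    (hel : ∀ b, Bt t' Q₁ Q₂ b → b * b = 1)
    (hB2 : ∀ b c, Refl z' t' Q₁ Q₂ b → Refl z' t' Q₁ Q₂ c → T4 z' t' (b * c)) (hR : RefTri' z' t' Q₁ Q₂)
    {M : Subgroup ↥(centralizer ({z} : Set G))} (hM : IsComponent M) (hQ : Q₁ ≤ M ∨ Q₂ ≤ M) : False := by
  have hfin := C.fin
  obtain ⟨p, hpt, hp₁, hp₂⟩ := h.swap
  obtain ⟨M₁, M₂, hM₁, hM₂, h1, h2⟩ : ∃ M₁ M₂ : Subgroup ↥(centralizer ({z} : Set G)), IsComponent M₁ ∧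
      IsComponent M₂ ∧ Q₁ ≤ M₁ ∧ Q₂ ≤ M₂ := by
    rcases hQ with hQ | hQ
    · exact ⟨M, cj p M, hM, Cfsg.Agent.Cit.Comp.isComponent_cj hM p, hQ, End.le_cj h.s₁ h.s₂ hp₁ hQ⟩
    · exact ⟨cj p M, M, Cfsg.Agent.Cit.Comp.isComponent_cj hM p, hM, End.le_cj h.s₂ h.s₁ hp₂ hQ, hQ⟩
  by_cases hne : M₁ = M₂
  · subst hne
    exact false_of_both hGW I hS C hcy hz hz' h hel hM₁ h1 h2
  · exact End.false_of_CA hGW C hz hz' (two ⟨hM₁, hM₂, hne, h1, h2⟩ h hel hB2 hR)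

end G

end Cfsg.Agent.OddHalf.D6.QThree.L43.Beta
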