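import Cfsg.Agent.OddHalf.D5.SixAut.SymSpl
import Cfsg.Agent.SignalizersComponents.PConstrained
import Cfsg.Agent.SignalizersComponents.ComponentExists

/-!
# ODD half, D6, `q = 3`, row `L₄(3)`, `T < S`, the end: `F*(C_G(z))` is of symplectic type (helper751, text: helper76
#17200)
-/

set_option autoImplicit false

namespace Cfsg.Agent.OddHalf.D6.QThree.L43.EndSympl

open Subgroup Cfsg

/-- `F*(X)` is a 2-group if `O(X) = 1` and `E(X) = 1` -/
theorem isPGroup_genFitting {X : Type*} [Group X] [Finite X] (hO : pPrimeCore 2 X = ⊥)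
    (hM : ∀ M : Subgroup X, ¬ IsComponent M) : IsPGroup 2 ↥(generalizedFittingSubgroup X) := by
  have : Fact (Nat.Prime 2) := ⟨Nat.prime_two⟩
  have hl : layer X = ⊥ := Cfsg.Agent.SignalizersComponents.ComponentExists.layer_eq_bot_iff.2 hM
  have hfit : generalizedFittingSubgroup X = pCore 2 X := by
    rw [Cfsg.Agent.Lib.GenFitting.genFitting_def, hl, bot_sup_eq]
    exact Cfsg.Agent.SignalizersComponents.PConstrained.fittingSubgroup_eq_pCore_of_pPrimeCore_eq_bot 2 hO
  rw [hfit]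
  exact Cfsg.Agent.Lib.Cores.pCore_isPGroup 2

/-- **`F*(X)` is of symplectic type** if `O(X) = 1`, `E(X) = 1` and every elementary abelian normal subgroup lies in
`⟨z₀⟩` -/
theorem sympl {X : Type*} [Group X] [Finite X] (hO : pPrimeCore 2 X = ⊥)
    (hM : ∀ M : Subgroup X, ¬ IsComponent M) (z0 : X)
    (elem : ∀ W : Subgroup X, W.Normal → (∀ w ∈ W, w * w = 1) → ∀ w ∈ W, w = 1 ∨ w = z0) :
    IsOfSymplecticType ↥(generalizedFittingSubgroup X) :=
  Cfsg.Agent.OddHalf.D5.SixAut.SymSpl.sympl_of (isPGroup_genFitting hO hM) z0 elem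

end Cfsg.Agent.OddHalf.D6.QThree.L43.EndSympl
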