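import Cfsg.Agent.OddHalf.D6.QThree.FrontB

/-!
# ODD half, D6, `K = L₄(3)`, any outer part: the front end of the case `T < S` (helper76, bb #17200 (F))

`T` a Sylow 2-subgroup of `C(t)`, not a Sylow 2-subgroup of `G`. If `N(T)` fixes `z` and `ν : C(t) → {±1}` is `-1` on the
involutions of `Z(T)` outside `⟨t, z⟩`, then some element of `N(T)` maps `t` to `tz` (`exists_swap`).
-/

set_option autoImplicit false

namespace Cfsg.Agent.OddHalf.D6.QThree.L43.Front

open Subgroup MulAction Cfsg Cfsg.Agent.OddHalf.Front.FE Cfsg.Agent.OddHalf.Front Cfsg.Agent.OddHalf.D8.GlueE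
open Cfsg.Agent.OddHalf.Front.Cyclic (mem_M KQ conjK conjK' conjQ inv_comm mul_comm' M_unique)
open Cfsg.Agent.OddHalf.D6.QThree.FrontB
open Cfsg.Agent.OddHalf.D6.QThree.TransferMu (transfer_eq_prod_fixed)
open Cfsg.Agent.OddHalf.D6.QThree.TransferMu.Env (comm_iff)

universe u

variable {G : Type u} [Group G] {K : Subgroup G} {t q z : G} {T : Subgroup G}

/-- two maximal 2-subgroups of `C(t)` -/
theorem exists_norm [Finite G] (pT : IsPGroup 2 T)
    (tc : ∀ x ∈ T, x * t = t * x)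
    (max : ∀ P : Subgroup G, IsPGroup 2 P → T ≤ P → (∀ x ∈ P, x * t = t * x) → P ≤ T) {g : G}
    (hg : ∀ x ∈ T, g⁻¹ * x * g * t = t * (g⁻¹ * x * g)) :
    ∃ c, c * t = t * c ∧ g * c ∈ normalizer (T : Set G) := by
  have hf : Fact (Nat.Prime 2) := ⟨Nat.prime_two⟩
  set C : Subgroup G := centralizer ({t} : Set G) with hC
  have hTC : T ≤ C := fun x hx => mem_centralizer_singleton_iff.2 (tc x hx)
  have hTp : IsPGroup 2 ↥(T.subgroupOf C) := pT.comap_of_injective C.subtype C.subtype_injective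
  obtain ⟨P, hP⟩ := hTp.exists_le_sylow
  have hPT : (P : Subgroup C).map C.subtype ≤ T := by
    apply max _ (P.isPGroup'.map _)
    · intro x hx
      exact ⟨⟨x, hTC hx⟩, hP (mem_subgroupOf.2 hx), rfl⟩
    · rintro _ ⟨x, -, rfl⟩
      exact mem_centralizer_singleton_iff.1 x.2
  set U : Subgroup G := T.map (MulAut.conj g⁻¹).toMonoidHom with hU
  have hUC : U ≤ C := by
    rintro _ ⟨x, hx, rfl⟩
    have e : (MulAut.conj g⁻¹).toMonoidHom x = g⁻¹ * x * g := by
      show MulAut.conj g⁻¹ x = _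
      rw [MulAut.conj_apply, inv_inv]
    rw [e]
    exact mem_centralizer_singleton_iff.2 (hg x hx)
  have hUp : IsPGroup 2 ↥(U.subgroupOf C) :=
    (pT.map _).comap_of_injective C.subtype C.subtype_injective
  obtain ⟨P', hP'⟩ := hUp.exists_le_sylow
  obtain ⟨c, hc⟩ := exists_smul_eq C P' P
  -- `c g⁻¹ T g c⁻¹ ≤ T`
  have hle : ∀ x ∈ T, (c : G) * (g⁻¹ * x * g) * (c : G)⁻¹ ∈ T := by
    intro x hx
    have h1 : g⁻¹ * x * g ∈ U := ⟨x, hx, by
      show MulAut.conj g⁻¹ x = _
      rw [MulAut.conj_apply, inv_inv]⟩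
    have h2 : (⟨g⁻¹ * x * g, hUC h1⟩ : C) ∈ (P' : Subgroup C) := hP' (mem_subgroupOf.2 h1)
    have h3 : c * ⟨g⁻¹ * x * g, hUC h1⟩ * c⁻¹ ∈ (P : Subgroup C) := by
      rw [← hc]
      exact Subgroup.smul_mem_pointwise_smul _ (MulAut.conj c) _ h2
    exact hPT ⟨_, h3, rfl⟩
  refine ⟨(c : G)⁻¹, inv_comm (mem_centralizer_singleton_iff.1 c.2), ?_⟩
  -- `n = (g c⁻¹)⁻¹` maps `T` to `T`
  have hn : ((g * (c : G)⁻¹)⁻¹) ∈ normalizer (T : Set G) := by
    have h4 : T.map (MulAut.conj ((g * (c : G)⁻¹)⁻¹)).toMonoidHom = T := by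
      apply Subgroup.eq_of_le_of_card_ge
      · rintro _ ⟨x, hx, rfl⟩
        have := hle x hx
        have e : (MulAut.conj ((g * (c : G)⁻¹)⁻¹)).toMonoidHom x = (c : G) * (g⁻¹ * x * g) * (c : G)⁻¹ := by
          show MulAut.conj ((g * (c : G)⁻¹)⁻¹) x = _
          rw [MulAut.conj_apply]; group
        rw [e]; exact this
      · exact (Nat.card_congr (T.equivMapOfInjective (MulAut.conj ((g * (c : G)⁻¹)⁻¹)).toMonoidHom
          (MulAut.conj ((g * (c : G)⁻¹)⁻¹)).injective).toEquiv).le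
    rw [mem_normalizer_iff]
    intro x
    constructor
    · intro hx
      have h5 : MulAut.conj ((g * (c : G)⁻¹)⁻¹) x ∈ T.map (MulAut.conj ((g * (c : G)⁻¹)⁻¹)).toMonoidHom := ⟨x, hx, rfl⟩
      rw [h4, MulAut.conj_apply] at h5
      exact h5
    · intro hx
      have h5 : MulAut.conj ((g * (c : G)⁻¹)⁻¹) x ∈ T.map (MulAut.conj ((g * (c : G)⁻¹)⁻¹)).toMonoidHom := by
        rw [h4, MulAut.conj_apply]; exact hx
      obtain ⟨y, hy, hyx⟩ := h5
      have h6 : y = x := (MulAut.conj ((g * (c : G)⁻¹)⁻¹)).injective hyx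
      rw [← h6]; exact hy
  have := inv_mem hn
  rwa [inv_inv] at this

/-- the index of `C(t)` is even if `T` is not a Sylow 2-subgroup of `G` -/
theorem even_index [Finite G] (pT : IsPGroup 2 T) (tc : ∀ x ∈ T, x * t = t * x)
    (max : ∀ P : Subgroup G, IsPGroup 2 P → T ≤ P → (∀ x ∈ P, x * t = t * x) → P ≤ T)
    (hns : ∀ S : Sylow 2 G, (S : Subgroup G) ≠ T) : Even (centralizer ({t} : Set G)).index := by
  have hf : Fact (Nat.Prime 2) := ⟨Nat.prime_two⟩
  by_contra hodd
  rw [Nat.not_even_iff_odd] at hodd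
  set C : Subgroup G := centralizer ({t} : Set G) with hC
  have hTC : T ≤ C := fun x hx => mem_centralizer_singleton_iff.2 (tc x hx)
  have hTp : IsPGroup 2 ↥(T.subgroupOf C) := pT.comap_of_injective C.subtype C.subtype_injective
  obtain ⟨P, hP⟩ := hTp.exists_le_sylow
  have hPT : (P : Subgroup C) = T.subgroupOf C := by
    apply le_antisymm _ hP
    intro x hx
    rw [mem_subgroupOf]
    apply max ((P : Subgroup C).map C.subtype) (P.isPGroup'.map _)
    · intro y hy
      exact ⟨⟨y, hTC hy⟩, hP (mem_subgroupOf.2 hy), rfl⟩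
    · rintro _ ⟨y, -, rfl⟩
      exact mem_centralizer_singleton_iff.1 y.2
    · exact ⟨x, hx, rfl⟩
  have h1 : ¬ 2 ∣ (P : Subgroup C).index := P.not_dvd_index
  rw [hPT] at h1
  have h2 : ¬ 2 ∣ T.index := by
    rw [← relIndex_mul_index hTC]
    intro h
    rcases (Nat.prime_two.dvd_mul).1 h with h | h
    · exact h1 h
    · exact (Nat.not_even_iff_odd.2 hodd) (even_iff_two_dvd.2 h)
  exact hns (pT.toSylow h2) rfl

theorem prod_neg {α : Type*} [DecidableEq α] (s : Finset α) (f : α → ℤˣ) (a : α) (ha : a ∈ s) (h1 : f a = 1)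
    (h : ∀ x ∈ s, x ≠ a → f x = -1) (he : Even s.card) : ∏ x ∈ s, f x = -1 := by
  rw [← Finset.mul_prod_erase s f ha, h1, one_mul,
    Finset.prod_congr rfl (fun x hx => h x (Finset.mem_of_mem_erase hx) (Finset.ne_of_mem_erase hx)),
    Finset.prod_const, Finset.card_erase_of_mem ha]
  apply Odd.neg_one_pow
  have hpos : 0 < s.card := Finset.card_pos.2 ⟨a, ha⟩
  obtain ⟨k, hk⟩ := he
  exact ⟨k - 1, by omega⟩

/-- **(F2)**: some element of `N(T)` maps `t` to `tz` -/
theorem exists_swap [Finite G] (F : FB K t q z T) (hG : ∀ H : Subgroup G, H.index ≠ 2)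
    (zN : ∀ n ∈ normalizer (T : Set G), n * z * n⁻¹ = z) (ν : centralizer ({t} : Set G) →* ℤˣ)
    (hνt : ν ⟨t, mem_centralizer_singleton_iff.2 rfl⟩ = 1)
    (hν : ∀ y (hy : y * t = t * y), y ∈ T → y * y = 1 → (∀ x ∈ T, x * y = y * x) →
      ν ⟨y, mem_centralizer_singleton_iff.2 hy⟩ = 1 → y = 1 ∨ y = t ∨ y = z ∨ y = t * z)
    (hns : ∀ S : Sylow 2 G, (S : Subgroup G) ≠ T) : ∃ x ∈ normalizer (T : Set G), x * t * x⁻¹ = t * z := by
  classical
  by_contra hcon
  push Not at hcon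
  have hf : Fact (Nat.Prime 2) := ⟨Nat.prime_two⟩
  have : Fintype (G ⧸ centralizer ({t} : Set G)) := Fintype.ofFinite _
  have ho : orderOf t = 2 := orderOf_eq_prime (by rw [pow_two]; exact F.tt) F.t1
  obtain ⟨f, hf, s, hs, htr⟩ := transfer_eq_prod_fixed (centralizer ({t} : Set G)) ν t (by
    intro g k hk2 hkd h
    have hk : k = 2 := by
      rw [ho] at hkd
      exact le_antisymm (Nat.le_of_dvd two_pos hkd) hk2
    have e : (⟨g⁻¹ * t ^ k * g, h⟩ : centralizer ({t} : Set G)) = 1 := by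
      apply Subtype.ext
      show g⁻¹ * t ^ k * g = 1
      rw [hk, pow_two, F.tt]; group
    rw [e, map_one]) T F.pT F.tc
  have h1 : MonoidHom.transfer ν t = 1 := TR.Frame.hom_eq_one hG _ _
  rw [h1] at htr
  have hco : ∀ g : G, (g : G ⧸ centralizer ({t} : Set G)) = (1 : G) ↔ g * t * g⁻¹ = t := by
    intro g
    rw [QuotientGroup.eq, mem_centralizer_singleton_iff]
    constructor
    · intro h
      have h2 : g⁻¹ * t = t * g⁻¹ := by rwa [mul_one] at h
      calc g * t * g⁻¹ = g * (t * g⁻¹) := by group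
        _ = g * (g⁻¹ * t) := by rw [h2]
        _ = t := by group
    · intro h
      rw [mul_one]
      calc g⁻¹ * t = g⁻¹ * (g * t * g⁻¹) := by rw [h]
        _ = t * g⁻¹ := by group
  have hfix : ∀ x g : G, x • (g : G ⧸ centralizer ({t} : Set G)) = g ↔
      g⁻¹ * x * g * t = t * (g⁻¹ * x * g) := by
    intro x g
    rw [Cfsg.Agent.OddHalf.Front.OrbitTransfer.smul_mk_eq, mem_centralizer_singleton_iff]
  -- the cosets fixed by `T`
  have hmem : ∀ c : G ⧸ centralizer ({t} : Set G), c ∈ s ↔ ∀ d ∈ T, d • c = c := by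
    intro c
    rw [hs]
    exact ⟨fun h => h.2, fun h => ⟨h t F.tT, h⟩⟩
  have h1s : ((1 : G) : G ⧸ centralizer ({t} : Set G)) ∈ s := by
    rw [hmem]
    intro d hd
    rw [hfix]
    have := F.tc d hd
    rw [inv_one, one_mul, mul_one]
    exact this
  have hf1 : f ((1 : G) : G ⧸ centralizer ({t} : Set G)) = 1 := by
    have e : (1 : G)⁻¹ * t * 1 = t := by group
    have h2 : (1 : G)⁻¹ * t * 1 ∈ centralizer ({t} : Set G) := by
      rw [e]; exact mem_centralizer_singleton_iff.2 rfl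
    rw [hf 1 h2]
    have e2 : (⟨(1 : G)⁻¹ * t * 1, h2⟩ : centralizer ({t} : Set G)) = ⟨t, mem_centralizer_singleton_iff.2 rfl⟩ :=
      Subtype.ext e
    rw [e2, hνt]
  have hfm : ∀ c ∈ s, c ≠ ((1 : G) : G ⧸ centralizer ({t} : Set G)) → f c = -1 := by
    intro c hc hc1
    obtain ⟨g, rfl⟩ := QuotientGroup.mk_surjective c
    have hT : ∀ x ∈ T, g⁻¹ * x * g * t = t * (g⁻¹ * x * g) := fun x hx => (hfix x g).1 ((hmem _).1 hc x hx)
    obtain ⟨c, hct, hn⟩ := exists_norm F.pT F.tc F.max hT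
    set n := g * c with hnd
    have hgn : (g : G ⧸ centralizer ({t} : Set G)) = (n : G ⧸ centralizer ({t} : Set G)) := by
      rw [QuotientGroup.eq]
      have e : g⁻¹ * n = c := by rw [hnd]; group
      rw [e]; exact mem_centralizer_singleton_iff.2 hct
    have hc1' : (n : G ⧸ centralizer ({t} : Set G)) ≠ ((1 : G) : G ⧸ centralizer ({t} : Set G)) := by
      rw [← hgn]; exact hc1
    show f (g : G ⧸ centralizer ({t} : Set G)) = -1
    rw [hgn]
    have hni : n⁻¹ ∈ normalizer (T : Set G) := inv_mem hn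
    set y : G := n⁻¹ * t * n with hy
    have hyT : y ∈ T := by
      have := (mem_normalizer_iff.1 hni t).1 F.tT
      rwa [inv_inv] at this
    have hyt : y * t = t * y := F.tc y hyT
    have hyc : ∀ x ∈ T, x * y = y * x := by
      intro x hx
      have h2 := (mem_normalizer_iff.1 hn x).1 hx
      have h3 := F.tc _ h2
      calc x * y = n⁻¹ * (n * x * n⁻¹ * t) * n := by rw [hy]; group
        _ = n⁻¹ * (t * (n * x * n⁻¹)) * n := by rw [h3]
        _ = y * x := by rw [hy]; group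
    have hyy : y * y = 1 := by
      calc y * y = n⁻¹ * (t * t) * n := by rw [hy]; group
        _ = 1 := by rw [F.tt]; group
    have h2 : n⁻¹ * t * n ∈ centralizer ({t} : Set G) := mem_centralizer_singleton_iff.2 hyt
    rw [hf n h2]
    rcases Int.units_eq_one_or (ν ⟨n⁻¹ * t * n, h2⟩) with h3 | h3
    swap
    · exact h3
    exfalso
    rcases hν y hyt hyT hyy hyc h3 with h4 | h4 | h4 | h4
    · apply F.t1
      calc t = n * y * n⁻¹ := by rw [hy]; group
        _ = 1 := by rw [h4]; group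
    · apply hc1'
      rw [hco]
      calc n * t * n⁻¹ = n * y * n⁻¹ := by rw [h4]
        _ = t := by rw [hy]; group
    · apply F.z_ne_t
      have h5 := zN n hn
      calc z = n * z * n⁻¹ := h5.symm
        _ = n * y * n⁻¹ := by rw [h4]
        _ = t := by rw [hy]; group
    · apply hcon n⁻¹ hni
      rw [inv_inv]; exact h4
  have hes : Even s.card := by
    have h2 := F.pT.card_modEq_card_fixedPoints (G ⧸ centralizer ({t} : Set G))
    have h3 : Nat.card (fixedPoints T (G ⧸ centralizer ({t} : Set G))) = s.card := by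
      have e : (fixedPoints T (G ⧸ centralizer ({t} : Set G))) = (s : Set (G ⧸ centralizer ({t} : Set G))) := by
        ext c
        rw [mem_fixedPoints, Finset.mem_coe, hmem]
        exact ⟨fun h d hd => h ⟨d, hd⟩, fun h d => h d d.2⟩
      rw [e, Nat.card_coe_set_eq, Set.ncard_coe_finset]
    rw [h3] at h2
    have h4 := even_index F.pT F.tc F.max hns
    have h5 : Nat.card (G ⧸ centralizer ({t} : Set G)) = (centralizer ({t} : Set G)).index := rfl
    rw [h5] at h2
    exact (Nat.even_iff.2 (by rw [← h2]; exact Nat.even_iff.1 h4))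
  rw [prod_neg s f _ h1s hf1 hfm hes] at htr
  exact absurd htr (by decide)

end Cfsg.Agent.OddHalf.D6.QThree.L43.Front
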