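import Cfsg.Agent.OddHalf.D6.QThree.TS.KL43
import Cfsg.Agent.OddHalf.D6.QThree.L43.KFront
import Cfsg.Agent.OddHalf.D6.QThree.FrontK

/-!
# ODD half, D6, `K = L₄(3)`: `FrontK`, `FrontT` and `FK` for the same elements (helper890)

`FrontT.frontK`: `FrontK` from `FrontT`, if `z` is not central. `exists_all`.
-/

set_option autoImplicit false

namespace Cfsg.Agent.OddHalf.D6.QThree.L43.KAll

open Subgroup
open FrontB (BA Z2 FrontK)
open TS (FrontT)

section

variable {K : Type*} [Group K] {z : K} {R : Subgroup K} {i j k l a b : K}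

/-- `|B̄| ≤ 4` -/
theorem card_le (f : FrontT z R i j k l a b) : Nat.card {α : MulAut K // BA R α} ≤ 4 := by
  classical
  obtain ⟨β, hβ⟩ : ∃ β : MulAut K, ∀ α, BA R α → α = 1 ∨ α = MulAut.conj z ∨ α = β ∨ α = β * MulAut.conj z := by
    by_cases h : ∃ β, BA R β ∧ ¬ Z2 z β
    · obtain ⟨β, hβ, hn⟩ := h
      refine ⟨β, fun α hα => ?_⟩
      rcases f.cc β α hβ hα with h1 | (h1 | h1) | (h1 | h1)
      · exact absurd h1 hn
      · exact Or.inl h1
      · exact Or.inr (Or.inl h1)
      · exact Or.inr (Or.inr (Or.inl (inv_mul_eq_one.1 h1).symm))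
      · exact Or.inr (Or.inr (Or.inr (inv_mul_eq_iff_eq_mul.1 h1)))
    · push Not at h
      refine ⟨1, fun α hα => ?_⟩
      rcases h α hα with h1 | h1
      · exact Or.inl h1
      · exact Or.inr (Or.inl h1)
  have h1 : {α : MulAut K | BA R α} ⊆ (({1, MulAut.conj z, β, β * MulAut.conj z} : Finset (MulAut K)) : Set (MulAut K)) := by
    intro α hα
    simpa using hβ α hα
  have h2 : Nat.card {α : MulAut K | BA R α} ≤
      Nat.card ((({1, MulAut.conj z, β, β * MulAut.conj z} : Finset (MulAut K)) : Set (MulAut K))) :=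
    Nat.card_mono (Finset.finite_toSet _) h1
  rw [Nat.card_coe_set_eq (({1, MulAut.conj z, β, β * MulAut.conj z} : Finset (MulAut K)) : Set (MulAut K)),
    Set.ncard_coe_finset] at h2
  exact h2.trans Finset.card_le_four

/-- **`FrontK` from `FrontT`** -/
theorem _root_.Cfsg.Agent.OddHalf.D6.QThree.TS.FrontT.frontK (f : FrontT z R i j k l a b)
    (hz : (MulAut.conj z : MulAut K) ≠ 1) : FrontK z R i j k l a b where
  toBase := f.toBase
  fr := f.fr
  gR := f.gR
  od := f.od
  sw := f.sw
  out := f.out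
  card := (card_le f).trans (by norm_num)
  sq := fun α hα => Or.inl (f.sq α hα)
  uq := fun α β hα _ h1 _ => absurd (h1.symm.trans (f.sq α hα)) hz
  cc := fun α β hα hβ _ => f.cc α β hα hβ

end

/-- `z` is not central in a simple group -/
theorem conj_ne_of_center {K : Type*} [Group K] {z : K} (z1 : z ≠ 1) (h : center K = ⊥) :
    (MulAut.conj z : MulAut K) ≠ 1 := by
  intro e
  apply z1
  have h1 : z ∈ center K := by
    rw [mem_center_iff]
    intro g
    have h2 := DFunLike.congr_fun e g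
    have h3 : z * g * z⁻¹ = g := h2
    rw [mul_inv_eq_iff_eq_mul] at h3
    exact h3.symm
  rwa [h, mem_bot] at h1

/-- **`FrontK`, `FrontT`, `FK` for `L₄(3)`** -/
theorem exists_all {K : Type*} [Group K] {F : Type*} [Field F] [Fintype F] (hF : Fintype.card F = 3)
    (e : K ≃* Matrix.ProjectiveSpecialLinearGroup (Fin 4) F) :
    ∃ (z : K) (R : Subgroup K) (i j k l a b : K), FrontK z R i j k l a b ∧ FrontT z R i j k l a b ∧
      KFront.FK z R := by
  obtain ⟨e'⟩ := LargeExtra.W2.LFour.PslFacts.psl_congr F hF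
  have hT := TS.KL43.frontT.map (e'.trans e.symm)
  refine ⟨_, _, _, _, _, _, _, _, hT.frontK ?_, hT, KFront.fk_L.map (e'.trans e.symm)⟩
  intro h
  apply TS.KL43.z_not_central
  rw [← TS.congr_conj] at h
  exact (MulEquiv.map_eq_one_iff (MulAut.congr (e'.trans e.symm))).1 h

end Cfsg.Agent.OddHalf.D6.QThree.L43.KAll
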