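import Cfsg.Agent.OddHalf.D6.QThree.L43.Beta
import Cfsg.Agent.OddHalf.D6.QThree.RefTri
import Cfsg.Agent.OddHalf.D6.QThree.RefData
import Cfsg.Agent.OddHalf.D6.QThree.NIB.DiagOf
import Cfsg.Agent.OddHalf.D6.QThree.NIB.SpOf
import Cfsg.Agent.OddHalf.D6.QThree.TS.Rad

/-!
# ODD half, D6, `K = L₄(3)`: the cases for a reflection (helper577; text: helper76 #17200)

* `swap_of`: an element normalising `Q₁ Q₂` fixes or swaps `Q₁`, `Q₂`;
* `exists_sw`: some element of `L ∩ C(z)` swaps `Q₁` and `Q₂`;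
* `Data.tri'`: the component over `L` is `L`, has trivial centre, or is diagonal;
* `refTri`: `Beta.RefTri'` from `RefOf.Data`; `refTri_of`: from the facts on `K`.
-/

set_option autoImplicit false

namespace Cfsg.Agent.OddHalf.D6.QThree.L43.RefSw

open Subgroup Cfsg Cfsg.Agent.OddHalf.Iface Cfsg.Agent.OddHalf.D3
open Cfsg.Agent.OddHalf.D6.QThree.Pump (SpOrd)
open Cfsg.Agent.OddHalf.D6.QThree.Diag (DiagAt)
open Cfsg.Agent.OddHalf.D6.QThree.NISide
open Cfsg.Agent.OddHalf.D6.QThree.NIB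
open Cfsg.Agent.OddHalf.D6.QThree.RefOf (Data)
open Cfsg.Agent.OddHalf.D6.QThree.L43.Beta (Sw RefTri')
open Cfsg.Agent.OddHalf.D6.QThree.RefData (KH Rf DD)

universe u

section X

variable {X : Type*} [Group X] {z t a₁ a₂ : X} {Q₁ Q₂ : Subgroup X}

/-- the elements of `Q₁ Q₂` with square `z` -/
theorem mem_or (s₁ : Side z t a₁ Q₁ Q₂) (s₂ : Side z t a₂ Q₂ Q₁) (z1 : z ≠ 1)
    (comm : ∀ x ∈ Q₁, ∀ y ∈ Q₂, x * y = y * x) {x y : X} (hx : x ∈ Q₁) (hy : y ∈ Q₂) (h : x * y * (x * y) = z) :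
    x * y ∈ Q₁ ∨ x * y ∈ Q₂ := by
  have c : Commute x y := comm x hx y hy
  have h1 : (x * x) * (y * y) = z := by
    rw [← h]
    calc x * x * (y * y) = x * (x * y) * y := by group
      _ = x * (y * x) * y := by rw [c.eq]
      _ = x * y * (x * y) := by group
  by_cases hx1 : x = 1
  · right; rw [hx1, one_mul]; exact hy
  by_cases hxz : x = z
  · right; rw [hxz]; exact Q₂.mul_mem s₂.zQ hy
  left
  rw [s₁.sq x hx hx1 hxz] at h1
  have hyy : y * y = 1 := mul_eq_left.1 h1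
  have hy' : y = 1 ∨ y = z := by
    by_contra hne
    push Not at hne
    have := s₂.sq y hy hne.1 hne.2
    rw [hyy] at this
    exact z1 this.symm
  rcases hy' with e | e
  · rw [e, mul_one]; exact hx
  · rw [e]; exact Q₁.mul_mem hx s₁.zQ

/-- an element normalising `Q₁ Q₂` which does not normalise `Q₁` maps `Q₁` into `Q₂` -/
theorem swap_of (s₁ : Side z t a₁ Q₁ Q₂) (s₂ : Side z t a₂ Q₂ Q₁) (zc : ∀ x : X, x * z = z * x) (zz : z * z = 1)
    (z1 : z ≠ 1) (comm : ∀ x ∈ Q₁, ∀ y ∈ Q₂, x * y = y * x) {g : X}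
    (hg : ∀ x ∈ Q₁, ∃ x' ∈ Q₁, ∃ y' ∈ Q₂, g * x * g⁻¹ = x' * y') {x : X} (hx : x ∈ Q₁) (hgx : g * x * g⁻¹ ∉ Q₁) :
    ∀ y ∈ Q₁, g * y * g⁻¹ ∈ Q₂ := by
  have hgz : g * z * g⁻¹ = z := by rw [zc g, mul_inv_cancel_right]
  have key : ∀ y ∈ Q₁, g * y * g⁻¹ ∈ Q₁ ∨ g * y * g⁻¹ ∈ Q₂ := by
    intro y hy
    by_cases hy1 : y = 1
    · left; rw [hy1, mul_one, mul_inv_cancel]; exact Q₁.one_mem
    by_cases hyz : y = z
    · left; rw [hyz, hgz]; exact s₁.zQ
    obtain ⟨x', hx', y', hy', e⟩ := hg y hy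
    rw [e]
    apply mem_or s₁ s₂ z1 comm hx' hy'
    rw [← e]
    calc g * y * g⁻¹ * (g * y * g⁻¹) = g * (y * y) * g⁻¹ := by group
      _ = z := by rw [s₁.sq y hy hy1 hyz, hgz]
  have hx1 : x ≠ 1 := by
    rintro rfl
    apply hgx
    rw [mul_one, mul_inv_cancel]; exact Q₁.one_mem
  have hxz : x ≠ z := by
    rintro rfl
    apply hgx
    rw [hgz]; exact s₁.zQ
  have hgx2 : g * x * g⁻¹ ∈ Q₂ := (key x hx).resolve_left hgx
  intro y hy
  by_cases hy1 : y = 1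
  · rw [hy1, mul_one, mul_inv_cancel]; exact Q₂.one_mem
  by_cases hyz : y = z
  · rw [hyz, hgz]; exact s₂.zQ
  by_cases hxy : x * y = y * x
  · rcases TS.Rad.E_of_comm s₁ zc zz z1 hx hy hx1 hxz hy1 hyz hxy with e | e
    · rw [e]; exact hgx2
    · rw [e]
      have e1 : g * (x * z) * g⁻¹ = (g * x * g⁻¹) * (g * z * g⁻¹) := by group
      rw [e1, hgz]
      exact Q₂.mul_mem hgx2 s₂.zQ
  · rcases key y hy with h1 | h1
    · exfalso
      apply hxy
      have h2 := comm _ h1 _ hgx2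
      have h3 : g * (y * x) * g⁻¹ = g * (x * y) * g⁻¹ := by
        calc g * (y * x) * g⁻¹ = (g * y * g⁻¹) * (g * x * g⁻¹) := by group
          _ = (g * x * g⁻¹) * (g * y * g⁻¹) := h2
          _ = g * (x * y) * g⁻¹ := by group
      exact (mul_left_cancel (mul_right_cancel h3)).symm
    · exact h1

end X

variable {G : Type u} [Group G] {t z b : G} {D R L : Subgroup G} {F : Type} [Field F] [Fintype F]

/-- **the swap**: some element of `L ∩ C(z)` maps `Q₁` to `Q₂` -/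
theorem exists_sw [Finite G] (h : Data t z b D R L F) {z' t' a₁ a₂ : ↥(centralizer ({z} : Set G))}
    {Q₁ Q₂ : Subgroup ↥(centralizer ({z} : Set G))} (hz' : (z' : G) = z) (s₁ : Side z' t' a₁ Q₁ Q₂)
    (s₂ : Side z' t' a₂ Q₂ Q₁) (comm : ∀ x ∈ Q₁, ∀ y ∈ Q₂, x * y = y * x)
    (hR : ∀ r : G, r ∈ R ↔ ∃ x ∈ Q₁, ∃ y ∈ Q₂, r = (x : G) * y) :
    ∃ p : ↥(centralizer ({z} : Set G)), (p : G) ∈ L ∧ ∀ x ∈ Q₁, p * x * p⁻¹ ∈ Q₂ := by
  have zc : ∀ x : ↥(centralizer ({z} : Set G)), x * z' = z' * x := fun x => by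
    apply Subtype.ext
    show (x : G) * z' = z' * x
    rw [hz']; exact mem_centralizer_singleton_iff.1 x.2
  have zz : z' * z' = 1 := by
    apply Subtype.ext
    show (z' : G) * z' = 1
    rw [hz']; exact h.zz
  have z1 : z' ≠ 1 := fun e => h.z1 (by rw [← hz', e]; rfl)
  have hQR : ∀ x ∈ Q₁, (x : G) ∈ R := fun x hx => (hR _).2 ⟨x, hx, 1, Q₂.one_mem, (mul_one _).symm⟩
  have hQR2 : ∀ x ∈ Q₂, (x : G) ∈ R := fun x hx => (hR _).2 ⟨1, Q₁.one_mem, x, hx, (one_mul _).symm⟩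
  have hRL : R ≤ L := h.RD.trans h.DL
  by_contra hcon
  push Not at hcon
  have hnor : ∀ p : ↥(centralizer ({z} : Set G)), (p : G) ∈ L → ∀ x ∈ Q₁, p * x * p⁻¹ ∈ Q₁ := by
    intro p hp x hx
    by_contra hne
    obtain ⟨y, hy, hy'⟩ := hcon p hp
    refine hy' (swap_of s₁ s₂ zc zz z1 comm (fun w hw => ?_) hx hne y hy)
    have h1 := h.nR p hp (mem_centralizer_singleton_iff.1 p.2) w (hQR w hw)
    obtain ⟨x', hx', y', hy', e⟩ := (hR _).1 h1
    exact ⟨x', hx', y', hy', Subtype.ext e⟩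
  set N : Subgroup L := (Q₁.map (centralizer ({z} : Set G)).subtype).subgroupOf L with hN
  have hNm : ∀ n : L, n ∈ N ↔ ∃ x ∈ Q₁, (x : G) = n := fun n => by
    rw [hN, mem_subgroupOf]
    exact ⟨fun ⟨x, hx, e⟩ => ⟨x, hx, e⟩, fun ⟨x, hx, e⟩ => ⟨x, hx, e⟩⟩
  have hNR : N ≤ R.subgroupOf L := by
    intro n hn
    obtain ⟨x, hx, e⟩ := (hNm n).1 hn
    rw [mem_subgroupOf, ← e]
    exact hQR x hx
  rcases h.facts.1.irr N hNR (by
    intro g hg n hn
    obtain ⟨x, hx, e⟩ := (hNm n).1 hn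
    rw [hNm]
    have hgz : (g : G) * z = z * g := congrArg Subtype.val hg
    refine ⟨_, hnor ⟨g, mem_centralizer_singleton_iff.2 hgz⟩ g.2 x hx, ?_⟩
    show (g : G) * x * (g : G)⁻¹ = g * n * (g : G)⁻¹
    rw [e]) with h1 | h1
  · obtain ⟨i, hi, i1, iz⟩ := NIB.DiagOf.exists_ne s₁
    rcases h1 ⟨i, hRL (hQR i hi)⟩ ((hNm _).2 ⟨i, hi, rfl⟩) with e | e
    · apply i1
      apply Subtype.ext
      exact congrArg (Subtype.val : L → G) e
    · apply iz
      apply Subtype.ext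
      rw [hz']
      exact congrArg (Subtype.val : L → G) e
  · -- `Q₂ ≤ Q₁`
    have h2 : ∀ y ∈ Q₂, y ∈ Q₁ := by
      intro y hy
      have h3 : (⟨y, hRL (hQR2 y hy)⟩ : L) ∈ N := by
        rw [h1, mem_subgroupOf]
        exact hQR2 y hy
      obtain ⟨x, hx, e⟩ := (hNm _).1 h3
      have : x = y := Subtype.ext e
      rwa [← this]
    exact s₂.not_comm fun x hx y hy => comm x (h2 x hx) y hy

theorem center_of_card {M : Type*} [Group M] [Finite M] {X : Type*} [Group X] {n m : ℕ}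
    (e : M ⧸ center M ≃* X) (hX : Nat.card X = n) (hM : Nat.card M ≤ m) (hm : m < 2 * n) : center M = ⊥ := by
  have h1 := card_eq_card_quotient_mul_card_subgroup (center M)
  rw [Nat.card_congr e.toEquiv, hX] at h1
  have h2 : Nat.card (center M) = 1 := by
    have h3 : 0 < Nat.card (center M) := Nat.card_pos
    by_contra h4
    have h5 : 2 ≤ Nat.card (center M) := by omega
    have h6 : n * 2 ≤ n * Nat.card (center M) := Nat.mul_le_mul_left _ h5
    omega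
  exact (card_eq_one).1 h2

/-- **the component of `C(b)` over `L`** -/
theorem tri' (h : Data t z b D R L F) (C : Ctx G) (hS : SpOrd.{u}) {K : Subgroup G} (S : Std G K)
    (hK : Nat.card K < 6531840) (hN : ∀ K : Subgroup G, CompOf b K → ¬ NI3.HasY ↥K) :
    Comp b L ∨
    (∃ M : Subgroup G, Comp b M ∧ L ≤ M ∧ center M = ⊥) ∨
    ∃ M : Subgroup G, Comp b M ∧ cj t M ≠ M ∧ DiagAt t z b D M L := by
  have := C.fin
  have heven : 2 ∣ Nat.card L := by rw [h.card_L]; norm_num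
  obtain ⟨M, hM, h1 | ⟨h1, h2⟩ | ⟨h1, h2, h3⟩⟩ := D8.PumpX.pump (C.bal b h.b_ord) h.tt h.bt
    (fun l hl => mem_cs.2 (h.Lb l hl)) (fun l hl => mem_cs.2 (h.Lt l hl)) h.quasi_L heven h.sub
  · left
    rw [h1]
    exact hM
  · have hLM := h1.le
    have hc := h.card_le C S hM hLM h2
    rcases h.types C hS S hK.le hM hLM h2 with h3 | ⟨E, i1, i2, h3, ⟨e⟩⟩ | ⟨E, i1, i2, h3, ⟨e⟩⟩
    · left
      rw [le_antisymm hLM h3]
      exact hM
    · right; left
      have : Fact (Nat.Prime 3) := ⟨Nat.prime_three⟩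
      have : CharP E 3 := charP_of_card_eq_prime_pow (f := 2) (by rw [h3]; norm_num)
      exact ⟨M, hM, hLM, center_of_card e (U43Tw.card_K h3) hc (by omega)⟩
    · right; left
      refine ⟨M, hM, hLM, ?_⟩
      obtain ⟨e2⟩ := Cfsg.Agent.LargeExtra.W2.LFour.PslFacts.psl_congr E h3
      have h4 : Nat.card (Matrix.ProjectiveSpecialLinearGroup (Fin 4) E) = 6065280 := by
        rw [Nat.card_congr e2.symm.toEquiv, Cfsg.Agent.LargeExtra.W2.LFour.PslFacts.card_psl]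
      exact center_of_card e h4 hc (by omega)
  · right; right
    exact ⟨M, hM, h1, h.diagAt C hN hM h1 h2 h3⟩

/-- **`RefTri'`** from `RefOf.Data` for every reflection -/
theorem refTri (C : Ctx G) (hS : SpOrd.{u}) {K : Subgroup G} (S : Std G K) (hK : Nat.card K < 6531840)
    (hN : ∀ c : G, c * c = 1 → c ≠ 1 → ∀ K : Subgroup G, CompOf c K → ¬ NI3.HasY ↥K)
    {z' t' a₁ a₂ : ↥(centralizer ({z} : Set G))} {Q₁ Q₂ : Subgroup ↥(centralizer ({z} : Set G))}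
    (hz' : (z' : G) = z) (ht' : (t' : G) = t) (s₁ : Side z' t' a₁ Q₁ Q₂) (s₂ : Side z' t' a₂ Q₂ Q₁)
    (comm : ∀ x ∈ Q₁, ∀ y ∈ Q₂, x * y = y * x) (oa₁ : Odd (orderOf a₁)) (oa₂ : Odd (orderOf a₂))
    (h₁ : (a₁ : G) ∈ D) (h₂ : (a₂ : G) ∈ D) (hR : ∀ r : G, r ∈ R ↔ ∃ x ∈ Q₁, ∃ y ∈ Q₂, r = (x : G) * y)
    (hdata : ∀ c : ↥(centralizer ({z} : Set G)), Refl z' t' Q₁ Q₂ c →
      ∃ (L : Subgroup G) (F : Type) (_ : Field F) (_ : Fintype F), Data t z c D R L F) : RefTri' z' t' Q₁ Q₂ := by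
  intro c hc
  have := C.fin
  obtain ⟨L, F, _, _, h⟩ := hdata c hc
  have hQR : ∀ x ∈ Q₁, (x : G) ∈ R := fun x hx => (hR _).2 ⟨x, hx, 1, Q₂.one_mem, (mul_one _).symm⟩
  have hQR2 : ∀ x ∈ Q₂, (x : G) ∈ R := fun x hx => (hR _).2 ⟨1, Q₁.one_mem, x, hx, (one_mul _).symm⟩
  have czG : (c : G) * z = z * c := mem_centralizer_singleton_iff.1 c.2
  rcases tri' h C hS S hK (hN c h.bb h.b1) with hL | ⟨M, hM, hLM, hZ⟩ | ⟨M, hM, -, A⟩
  · left
    intro v hvc hv₁ hv₂ hvt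
    refine h.noV hL (v := v) (congrArg Subtype.val hvc) ?_ ?_
    · intro r hr
      obtain ⟨x, hx, y, hy, rfl⟩ := (hR r).1 hr
      have c1 : Commute (v : G) x := congrArg Subtype.val (hv₁ x hx)
      have c2 : Commute (v : G) y := congrArg Subtype.val (hv₂ y hy)
      exact (c1.mul_right c2).eq
    · have h1 : (t' : G) * v * (t' : G)⁻¹ = v * z' := congrArg Subtype.val hvt
      rwa [ht', hz'] at h1
  · right; left
    obtain ⟨p, hp, hps⟩ := exists_sw h hz' s₁ s₂ comm hR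
    have hcM : (c : G) ∉ M := by
      intro hcM
      have h1 : (⟨c, hcM⟩ : M) ∈ center M := by
        rw [mem_center_iff]
        intro g
        exact Subtype.ext (mem_cs.1 (hM.le g.2))
      rw [hZ, mem_bot] at h1
      exact h.b1 (congrArg Subtype.val h1)
    refine ⟨p, Subtype.ext (h.Lb p hp), Subtype.ext (by
      show (p : G) * t' = t' * p
      rw [ht']; exact h.Lt p hp), hps, fun v hv => ?_⟩
    have hvM : cj (v : G) M = M := h.cj_eq hM hLM (congrArg Subtype.val hv) (mem_centralizer_singleton_iff.1 v.2)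
    have hw : ((p * (v * p⁻¹ * v⁻¹) : ↥(centralizer ({z} : Set G))) : G) ∈ M := by
      refine M.mul_mem (hLM hp) ?_
      have h1 := conj_mem_cj (g := (v : G)) (M.inv_mem (hLM hp))
      rw [hvM] at h1
      exact h1
    refine ⟨fun e => ?_, fun e => ?_⟩
    · apply hcM
      rw [e] at hw
      exact hw
    · apply hcM
      rw [e] at hw
      have h2 : (c : G) * z' ∈ M := hw
      rw [hz'] at h2
      exact (mul_mem_cancel_right (hLM h.zL)).1 h2
  · right; right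
    exact NIB.DiagOf.diag A h.zz h.z1 hz' ht' rfl s₁ s₂ oa₁ oa₂ (fun q hq => h.RD (hQR q hq))
      (fun q hq => h.RD (hQR2 q hq)) h₁ h₂

/-- `R` in terms of `Q₁`, `Q₂` -/
theorem mem_R_iff {K : Subgroup G} {z : K} {R : Subgroup K} {i j k l a b : K} (h : KH z R i j k l a b)
    {Q₁ Q₂ : Subgroup ↥(centralizer ({(z : G)} : Set G))}
    (e₁ : ∀ y : ↥(centralizer ({(z : G)} : Set G)), y ∈ Q₁ ↔ (y : G) ∈ closure ({(i : G), (j : G)} : Set G))
    (e₂ : ∀ y : ↥(centralizer ({(z : G)} : Set G)), y ∈ Q₂ ↔ (y : G) ∈ closure ({(k : G), (l : G)} : Set G)) (r : G) :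
    r ∈ R.map K.subtype ↔ ∃ x ∈ Q₁, ∃ y ∈ Q₂, r = (x : G) * y := by
  have m₁ : (closure ({i, j} : Set K)).map K.subtype = closure ({(i : G), (j : G)} : Set G) := by
    rw [MonoidHom.map_closure]
    congr 1
    simp [Set.image_insert_eq]
  have m₂ : (closure ({k, l} : Set K)).map K.subtype = closure ({(k : G), (l : G)} : Set G) := by
    rw [MonoidHom.map_closure]
    congr 1
    simp [Set.image_insert_eq]
  have l₁ : closure ({i, j} : Set K) ≤ R := by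
    rw [closure_le]
    rintro x (rfl | rfl)
    exacts [h.iR, h.jR]
  have l₂ : closure ({k, l} : Set K) ≤ R := by
    rw [closure_le]
    rintro x (rfl | rfl)
    exacts [h.kR, h.lR]
  constructor
  · rintro ⟨r, hr, rfl⟩
    have hr' : r ∈ closure ({i, j, k, l} : Set K) := by rw [← h.gR]; exact hr
    obtain ⟨x, hx, y, hy, rfl⟩ := h.fr.exists_mul hr'
    rw [h.fr.Q₁_eq] at hx
    rw [h.fr.Q₂_eq] at hy
    refine ⟨⟨x, mem_centralizer_singleton_iff.2 (congrArg Subtype.val (h.RP x (l₁ hx)))⟩, ?_,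
      ⟨y, mem_centralizer_singleton_iff.2 (congrArg Subtype.val (h.RP y (l₂ hy)))⟩, ?_, rfl⟩
    · rw [e₁, ← m₁]
      exact ⟨x, hx, rfl⟩
    · rw [e₂, ← m₂]
      exact ⟨y, hy, rfl⟩
  · rintro ⟨x, hx, y, hy, rfl⟩
    rw [e₁, ← m₁] at hx
    rw [e₂, ← m₂] at hy
    obtain ⟨x', hx', ex⟩ := hx
    obtain ⟨y', hy', ey⟩ := hy
    rw [← ex, ← ey]
    exact ⟨x' * y', R.mul_mem (l₁ hx') (l₂ hy'), rfl⟩

/-- the position of every reflection -/
theorem data_of {K : Subgroup G} {t : G} (tt : t * t = 1) (t1 : t ≠ 1) (Kt : ∀ x ∈ K, x * t = t * x)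
    (nK : ∀ g, g * t = t * g → g ∈ normalizer (K : Set G))
    (cK : ∀ c, c * t = t * c → (∀ x ∈ K, x * c = c * x) → c = 1 ∨ c = t)
    {z : K} {R : Subgroup K} {i j k l a b : K} (h : KH z R i j k l a b) (hRf : Rf z R)
    {z' t' : ↥(centralizer ({(z : G)} : Set G))} {Q₁ Q₂ : Subgroup ↥(centralizer ({(z : G)} : Set G))}
    (hz' : (z' : G) = z) (ht' : (t' : G) = t)
    (e₁ : ∀ y : ↥(centralizer ({(z : G)} : Set G)), y ∈ Q₁ ↔ (y : G) ∈ closure ({(i : G), (j : G)} : Set G))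
    (e₂ : ∀ y : ↥(centralizer ({(z : G)} : Set G)), y ∈ Q₂ ↔ (y : G) ∈ closure ({(k : G), (l : G)} : Set G))
    (c : ↥(centralizer ({(z : G)} : Set G))) (hc : Refl z' t' Q₁ Q₂ c) :
    ∃ (L : Subgroup G) (F : Type) (_ : Field F) (_ : Fintype F),
      Data t (z : G) c ((DD i j k l a b).map K.subtype) (R.map K.subtype) L F := by
  obtain ⟨⟨hct, hc₁, hc₂⟩, hcc, hT⟩ := hc
  have ctG : (c : G) * t = t * c := by
    have := congrArg Subtype.val hct
    rw [← ht']; exact this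
  have hzz : (z : G) * z = 1 := congrArg Subtype.val h.zz
  have htz : t * z = z * t := (Kt z z.2).symm
  have tcoe : ∀ {w : G}, (c : G) = w → ∀ w' : ↥(centralizer ({(z : G)} : Set G)), (w' : G) = w → c = w' :=
    fun e w' e' => Subtype.ext (e.trans e'.symm)
  obtain ⟨L, F, i1, i2, hD, -⟩ := RefData.data tt t1 Kt nK h hRf (c := (c : G)) (congrArg Subtype.val hcc) ctG (by
    intro r hr
    obtain ⟨x, hx, y, hy, e⟩ := (mem_R_iff h e₁ e₂ (r : G)).1 ⟨r, hr, rfl⟩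
    rw [e]
    have c1 : Commute (c : G) x := congrArg Subtype.val (hc₁ x hx)
    have c2 : Commute (c : G) y := congrArg Subtype.val (hc₂ y hy)
    exact (c1.mul_right c2).eq) (by
    intro hcK
    rcases cK c ctG (fun x hx => (hcK x hx).symm) with e | e
    · exact hT (Or.inl (tcoe e 1 rfl))
    · exact hT (Or.inr (Or.inr (Or.inl (tcoe e t' ht'))))) (by
    intro hcK
    have h1 : ((c : G) * z) * t = t * ((c : G) * z) :=
      ((show Commute (c : G) t from ctG).mul_left (show Commute (z : G) t from htz.symm)).eq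
    have h2 : (c : G) = ((c : G) * z) * z := by rw [mul_assoc, hzz, mul_one]
    rcases cK _ h1 (fun x hx => (hcK x hx).symm) with e | e
    · rw [e, one_mul] at h2
      exact hT (Or.inr (Or.inl (tcoe h2 z' hz')))
    · rw [e] at h2
      exact hT (Or.inr (Or.inr (Or.inr (tcoe h2 (t' * z') (by
        show (t' : G) * z' = t * z
        rw [ht', hz'])))))) 
  exact ⟨L, F, i1, i2, hD⟩

/-- **`RefTri'`** from the facts on `K` -/
theorem refTri_of (C : Ctx G) (hS : SpOrd.{u}) {K : Subgroup G} (S : Std G K) (hK : Nat.card K < 6531840)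
    (hN : ∀ c : G, c * c = 1 → c ≠ 1 → ∀ K : Subgroup G, CompOf c K → ¬ NI3.HasY ↥K)
    {t : G} (tt : t * t = 1) (t1 : t ≠ 1) (Kt : ∀ x ∈ K, x * t = t * x)
    (nK : ∀ g, g * t = t * g → g ∈ normalizer (K : Set G))
    (cK : ∀ c, c * t = t * c → (∀ x ∈ K, x * c = c * x) → c = 1 ∨ c = t)
    {z : K} {R : Subgroup K} {i j k l a b : K} (h : KH z R i j k l a b) (hRf : Rf z R)
    {z' t' a₁ a₂ : ↥(centralizer ({(z : G)} : Set G))} {Q₁ Q₂ : Subgroup ↥(centralizer ({(z : G)} : Set G))}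
    (hz' : (z' : G) = z) (ht' : (t' : G) = t) (s₁ : Side z' t' a₁ Q₁ Q₂) (s₂ : Side z' t' a₂ Q₂ Q₁)
    (comm : ∀ x ∈ Q₁, ∀ y ∈ Q₂, x * y = y * x) (ha₁ : (a₁ : G) = a) (ha₂ : (a₂ : G) = b)
    (e₁ : ∀ y : ↥(centralizer ({(z : G)} : Set G)), y ∈ Q₁ ↔ (y : G) ∈ closure ({(i : G), (j : G)} : Set G))
    (e₂ : ∀ y : ↥(centralizer ({(z : G)} : Set G)), y ∈ Q₂ ↔ (y : G) ∈ closure ({(k : G), (l : G)} : Set G)) :
    RefTri' z' t' Q₁ Q₂ := by
  have ho : ∀ {w : ↥(centralizer ({(z : G)} : Set G))} {x : K}, (w : G) = x → Odd (orderOf x) → Odd (orderOf w) := by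
    intro w x e ho
    rw [← Subgroup.orderOf_coe w, e, Subgroup.orderOf_coe]
    exact ho
  exact refTri (D := (DD i j k l a b).map K.subtype) (R := R.map K.subtype) C hS S hK hN hz' ht' s₁ s₂ comm
    (ho ha₁ h.oa) (ho ha₂ h.ob) (by rw [ha₁]; exact ⟨a, subset_closure (by simp), rfl⟩)
    (by rw [ha₂]; exact ⟨b, subset_closure (by simp), rfl⟩) (mem_R_iff h e₁ e₂)
    (data_of tt t1 Kt nK cK h hRf hz' ht' e₁ e₂)

end Cfsg.Agent.OddHalf.D6.QThree.L43.RefSw
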