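import Cfsg.Agent.OddHalf.D6.QThree.L43.RefSw

/-!
# ODD half, D6, `K = L₄(3)`: a reflection does not centralise a component of `C_G(z)` (helper577; text: helper76
#17200 (R'))

`refl_all`: `RefOf.Data t z b D R L F`, `D` solvable; `M` a component of `C(z)`, `z ∈ M`: `b` does not centralise `M`.
`refl_X`: the same in `X = C_G(z)`, from the facts on `K`.
-/

set_option autoImplicit false

namespace Cfsg.Agent.OddHalf.D6.QThree.L43.ReflAll

open Subgroup Cfsg Cfsg.Agent.OddHalf.Iface Cfsg.Agent.OddHalf.D3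
open Cfsg.Agent.OddHalf.D6.QThree.Pump (SpOrd)
open Cfsg.Agent.OddHalf.D6.QThree.Diag (DiagAt)
open Cfsg.Agent.OddHalf.D6.QThree.NISide
open Cfsg.Agent.OddHalf.D6.QThree.NIB
open Cfsg.Agent.OddHalf.D6.QThree.RefOf (Data)
open Cfsg.Agent.OddHalf.D6.QThree.RefData (KH Rf DD)

universe u

/-- a perfect finite group is generated by its elements of odd order -/
theorem closure_odd {Y : Type*} [Group Y] [Finite Y] (hperf : commutator Y = ⊤) :
    closure {y : Y | Odd (orderOf y)} = ⊤ := by
  have hp : Fact (Nat.Prime 2) := ⟨Nat.prime_two⟩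
  set N : Subgroup Y := closure {y : Y | Odd (orderOf y)} with hN
  have hn : N.Normal := by
    refine ⟨fun a ha g => ?_⟩
    have h1 : N.map (MulAut.conj g).toMonoidHom ≤ N := by
      rw [hN, MonoidHom.map_closure, closure_le]
      rintro _ ⟨y, hy, rfl⟩
      apply Subgroup.subset_closure
      show Odd (orderOf ((MulAut.conj g).toMonoidHom y))
      rw [orderOf_injective _ (MulAut.conj g).injective]
      exact hy
    exact h1 ⟨a, ha, rfl⟩
  have h2 : IsPGroup 2 (Y ⧸ N) := by
    intro x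
    obtain ⟨y, rfl⟩ := QuotientGroup.mk_surjective x
    obtain ⟨n, m, hm, hnm⟩ := Nat.exists_eq_two_pow_mul_odd (n := orderOf y) (orderOf_pos y).ne'
    refine ⟨n, ?_⟩
    rw [← QuotientGroup.mk_pow, QuotientGroup.eq_one_iff]
    apply Subgroup.subset_closure
    show Odd (orderOf (y ^ 2 ^ n))
    refine hm.of_dvd_nat (orderOf_dvd_of_pow_eq_one ?_)
    rw [← pow_mul, ← hnm, pow_orderOf_eq_one]
  have h3 : commutator (Y ⧸ N) = ⊤ := by
    have h1 : (commutator Y).map (QuotientGroup.mk' N) = commutator (Y ⧸ N) := by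
      rw [_root_.commutator_def, _root_.commutator_def, Subgroup.map_commutator,
        ← MonoidHom.range_eq_map,
        MonoidHom.range_eq_top.mpr (QuotientGroup.mk'_surjective N)]
    rw [← h1, hperf, ← MonoidHom.range_eq_map,
      MonoidHom.range_eq_top.mpr (QuotientGroup.mk'_surjective N)]
  by_contra hne
  have hnt : Nontrivial (Y ⧸ N) := QuotientGroup.nontrivial_iff.2 hne
  have := h2.isNilpotent
  have h4 : commutator (Y ⧸ N) < ⊤ := by
    exact Group.IsSolvable.commutator_lt_top_of_nontrivial (Y ⧸ N)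
  exact h4.ne h3

variable {G : Type u} [Group G] {t z b : G} {D R L : Subgroup G} {F : Type} [Field F] [Fintype F]

/-- an element of a component normalises the components -/
theorem cj_of_mem [Finite G] {P N : Subgroup G} (hP : Comp b P) (hN : Comp b N) {x : G} (hx : x ∈ P) : cj x N = N := by
  by_cases e : N = P
  · rw [e]
    apply le_antisymm
    · rintro _ ⟨y, hy, rfl⟩
      exact P.mul_mem (P.mul_mem hx hy) (P.inv_mem hx)
    · intro y hy
      rw [mem_cj]
      exact P.mul_mem (P.mul_mem (P.inv_mem hx) hy) hx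
  · have hc : ∀ y ∈ N, y * x = x * y := fun y hy => comm_elt (hN.comm hP e) hy hx
    apply le_antisymm
    · rintro _ ⟨y, hy, rfl⟩
      show x * y * x⁻¹ ∈ N
      rw [← hc y hy, mul_inv_cancel_right]
      exact hy
    · intro y hy
      rw [mem_cj, mul_assoc, hc y hy, inv_mul_cancel_left]
      exact hy

/-- **(R')** -/
theorem refl_all (h : Data t z b D R L F) (C : Ctx G) (hS : SpOrd.{u}) {K : Subgroup G} (S : Std G K)
    (hK : Nat.card K < 6531840) (hNY : ∀ K : Subgroup G, CompOf b K → ¬ NI3.HasY ↥K) (hsol : Group.IsSolvable D)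
    {M : Subgroup G} (hMz : Comp z M) (hz : z ∈ M) : ¬ ∀ m ∈ M, b * m = m * b := by
  intro hMb
  have := C.fin
  have hzb : b * z = z * b := (h.Lb z h.zL).symm
  have hz2 : orderOf z = 2 := orderOf_eq_prime (by rw [pow_two]; exact h.zz) h.z1
  have hMb' : M ≤ centralizer ({b} : Set G) := fun m hm => mem_cs.2 (hMb m hm).symm
  have heven : 2 ∣ Nat.card M := by
    have h1 : orderOf (⟨z, hz⟩ : M) ∣ Nat.card M := orderOf_dvd_natCard _
    rwa [Subgroup.orderOf_mk, hz2] at h1
  have hsub : (M.subgroupOf (centralizer ({b} : Set G) ⊓ centralizer ({z} : Set G))).IsSubnormal :=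
    Diag.sn_mono inf_le_right hMz.comp.1
  -- the position of `z` in `E(C(b))`
  have hpos : (∃ P : Subgroup G, Comp b P ∧ L ≤ P) ∨
      ∃ P : Subgroup G, Comp b P ∧ cj t P ≠ P ∧ DiagAt t z b D P L := by
    rcases RefSw.tri' h C hS S hK hNY with h1 | ⟨P, h1, h2, -⟩ | h1
    · exact Or.inl ⟨L, h1, le_rfl⟩
    · exact Or.inl ⟨P, h1, h2⟩
    · exact Or.inr h1
  -- `z` normalises the components of `C(b)`
  have hnorm : ∀ N : Subgroup G, Comp b N → cj z N = N := by
    intro N hN
    rcases hpos with ⟨P, hP, hLP⟩ | ⟨P, hP, hne, A⟩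
    · exact cj_of_mem hP hN (hLP h.zL)
    · obtain ⟨z₁, hz₁, e⟩ := A.LM z h.zL
      have hP' : Comp b (cj t P) := hP.conj_of_comm h.bt.symm
      rw [← e, ← cj_cj, cj_of_mem hP' hN (conj_mem_cj hz₁), cj_of_mem hP hN hz₁]
  -- a component of `C(b)` containing `M`
  obtain ⟨N, hN, hMN⟩ : ∃ N : Subgroup G, Comp b N ∧ M ≤ N := by
    obtain ⟨N, hN, h1 | ⟨h1, -⟩ | ⟨h1, -, -⟩⟩ := D8.PumpX.pump (C.bal b h.b_ord) h.zz hzb hMb' hMz.le hMz.quasi
      heven hsub
    · exact ⟨N, hN, h1.le⟩
    · exact ⟨N, hN, h1.le⟩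
    · exact absurd (hnorm N hN) h1
  have hzN : z ∈ N := hMN hz
  rcases hpos with ⟨P, hP, hLP⟩ | ⟨P, hP, hne, A⟩
  · -- vertical
    have e : N = P := by
      by_contra hne
      apply h.z1
      apply h.eq_one_L h.zL
      intro l hl
      exact comm_elt (hN.comm hP hne) hzN (hLP hl)
    have hMP : M ≤ P := e ▸ hMN
    have ht : cj t P = P := h.cj_eq hP hLP h.bt.symm (h.Lt z h.zL).symm
    have hMD : M ≤ D := by
      have h1 := closure_odd hMz.quasi.1.commutator_eq_top
      intro m hm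
      have h2 : (⟨m, hm⟩ : M) ∈ closure {y : M | Odd (orderOf y)} := by rw [h1]; exact mem_top _
      have h3 : closure {y : M | Odd (orderOf y)} ≤ D.comap M.subtype := by
        rw [closure_le]
        intro y hy
        show (y : G) ∈ D
        refine h.odd_mem C hS S hK.le hP hLP ht (hMP y.2) (mem_cs.1 (hMz.le y.2)) ?_
        rw [Subgroup.orderOf_coe]
        exact hy
      exact h3 h2
    apply Cfsg.Agent.SignalizersComponents.Components.quasisimple_not_isSolvable hMz.quasi
    exact Group.isSolvable_of_isSolvable_injective (f := inclusion hMD) (inclusion_injective hMD)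
  · -- diagonal
    obtain ⟨z₁, hz₁, e⟩ := A.LM z h.zL
    have htz : t * z = z * t := (h.Lt z h.zL).symm
    have hzP : z ∉ P := by
      intro hzP
      have h1 : t * z₁ * t⁻¹ ∈ P := by
        have h2 : t * z₁ * t⁻¹ = z₁⁻¹ * z := by rw [← e]; group
        rw [h2]; exact P.mul_mem (P.inv_mem hz₁) hzP
      have h2 := A.dis z₁ hz₁ h1
      apply h.z1
      rw [← e, h2]; group
    have h1 : N ≠ P := fun e => hzP (e ▸ hzN)
    have h2 : N ≠ cj t P := by
      intro e1
      apply hzP
      rw [e1, mem_cj, mul_assoc, ← htz, ← mul_assoc, inv_mul_cancel, one_mul] at hzN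
      exact hzN
    have hP' : Comp b (cj t P) := hP.conj_of_comm h.bt.symm
    apply h.z1
    apply h.eq_one_L h.zL
    intro l hl
    obtain ⟨m, hm, rfl⟩ := A.LM l hl
    have c1 : Commute z m := comm_elt (hN.comm hP h1) hzN hm
    have c2 : Commute z (t * m * t⁻¹) := comm_elt (hN.comm hP' h2) hzN (conj_mem_cj hm)
    exact (c1.mul_right c2).eq

/-- **(R')** in `X = C_G(z)` -/
theorem refl_X (C : Ctx G) (hS : SpOrd.{u}) {K : Subgroup G} (S : Std G K) (hK : Nat.card K < 6531840)
    (hN : ∀ c : G, c * c = 1 → c ≠ 1 → ∀ K : Subgroup G, CompOf c K → ¬ NI3.HasY ↥K)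
    {t : G} (tt : t * t = 1) (t1 : t ≠ 1) (Kt : ∀ x ∈ K, x * t = t * x)
    (nK : ∀ g, g * t = t * g → g ∈ normalizer (K : Set G))
    (cK : ∀ c, c * t = t * c → (∀ x ∈ K, x * c = c * x) → c = 1 ∨ c = t)
    {z : K} {R : Subgroup K} {i j k l a b : K} (h : KH z R i j k l a b) (hRf : Rf z R)
    {z' t' : ↥(centralizer ({(z : G)} : Set G))} {Q₁ Q₂ : Subgroup ↥(centralizer ({(z : G)} : Set G))}
    (hz' : (z' : G) = z) (ht' : (t' : G) = t)
    (sol : Group.IsSolvable (centralizer ({t'} : Set ↥(centralizer ({(z : G)} : Set G)))))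
    (e₁ : ∀ y : ↥(centralizer ({(z : G)} : Set G)), y ∈ Q₁ ↔ (y : G) ∈ closure ({(i : G), (j : G)} : Set G))
    (e₂ : ∀ y : ↥(centralizer ({(z : G)} : Set G)), y ∈ Q₂ ↔ (y : G) ∈ closure ({(k : G), (l : G)} : Set G)) :
    ∀ c, Refl z' t' Q₁ Q₂ c → ∀ M : Subgroup ↥(centralizer ({(z : G)} : Set G)), IsComponent M → z' ∈ M →
      ¬ ∀ m ∈ M, c * m = m * c := by
  intro c hc M hM hzM hcM
  obtain ⟨L, F, _, _, hD⟩ := RefSw.data_of tt t1 Kt nK cK h hRf hz' ht' e₁ e₂ c hc
  have hcomp := CaseM.compOf_map hM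
  have hsol : Group.IsSolvable ((DD i j k l a b).map K.subtype : Subgroup G) := by
    have hDz : ∀ d ∈ (DD i j k l a b).map K.subtype, d * z = z * d := by
      rintro _ ⟨d, hd, rfl⟩
      exact congrArg Subtype.val (h.Dz d hd)
    have hDt : ∀ d ∈ (DD i j k l a b).map K.subtype, d * t = t * d := by
      rintro _ ⟨d, -, rfl⟩
      exact Kt d d.2
    let f : ((DD i j k l a b).map K.subtype : Subgroup G) →*
        centralizer ({t'} : Set ↥(centralizer ({(z : G)} : Set G))) :=
      { toFun := fun d => ⟨⟨d, mem_centralizer_singleton_iff.2 (hDz d d.2)⟩,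
          mem_centralizer_singleton_iff.2 (Subtype.ext (by
            show (d : G) * t' = t' * d
            rw [ht']; exact hDt d d.2))⟩
        map_one' := rfl
        map_mul' := fun _ _ => rfl }
    have hf : Function.Injective f := by
      intro x y e
      exact Subtype.ext (congrArg (fun w : centralizer ({t'} : Set ↥(centralizer ({(z : G)} : Set G))) =>
        ((w : ↥(centralizer ({(z : G)} : Set G))) : G)) e)
    exact Group.isSolvable_of_isSolvable_injective (f := f) hf
  refine refl_all hD C hS S hK (hN c hD.bb hD.b1) hsol (M := M.map (centralizer ({(z : G)} : Set G)).subtype)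
    ⟨hcomp.1, hcomp.2⟩ ⟨z', hzM, hz'⟩ ?_
  rintro _ ⟨m, hm, rfl⟩
  exact congrArg Subtype.val (hcM m hm)

end Cfsg.Agent.OddHalf.D6.QThree.L43.ReflAll
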