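import Cfsg.Agent.OddHalf.D6.QThree.L43.RfL

/-!
# ODD half, D6, `K = L₄(3)`: `Rf z R` (helper577): see helper890's `L43/RfL.lean`
-/
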