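import Cfsg.Agent.OddHalf.D6.QThree.L43.KAll
import Cfsg.Agent.OddHalf.D6.QThree.RefData

/-!
# ODD half, D6, `K = L₄(3)`: the involutions of `C_{Aut K}(R)` outside `⟨z⟩` centralise `PSp₄(3)` (helper890)

`Rf.map`; `rf_L`; `exists_all'`: with `FrontK`, `FrontT`, `FK` for the same elements.
-/

set_option autoImplicit false

namespace Cfsg.Agent.OddHalf.D6.QThree.L43.RfL

open Subgroup
open Cfsg.Agent.KFacts.LFourThree
open Cfsg.Agent.OddHalf.D6.QThree.L43Aut
open FrontB (BA Z2 FrontK)
open TS (FrontT)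
open RefData (fixO Rf)

/-- a simple group with a nontrivial element of odd order is generated by its elements of odd order -/
theorem closure_odd {G : Type*} [Group G] [IsSimpleGroup G] {g : G} (g1 : g ≠ 1) (hg : Odd (orderOf g)) :
    Subgroup.closure {x : G | Odd (orderOf x)} = ⊤ := by
  have hn : (Subgroup.closure {x : G | Odd (orderOf x)}).Normal := by
    refine ⟨fun x hx c => ?_⟩
    have h1 : Subgroup.closure {x : G | Odd (orderOf x)} ≤ (Subgroup.closure {x : G | Odd (orderOf x)}).comap (MulAut.conj c).toMonoidHom := by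
      rw [closure_le]
      intro y hy
      apply Subgroup.subset_closure
      show Odd (orderOf (c * y * c⁻¹))
      rw [show orderOf (c * y * c⁻¹) = orderOf y from
        orderOf_injective (MulAut.conj c).toMonoidHom (MulAut.conj c).injective y]
      exact hy
    exact h1 hx
  rcases hn.eq_bot_or_eq_top with h | h
  · exfalso
    apply g1
    have h2 : g ∈ Subgroup.closure {x : G | Odd (orderOf x)} := Subgroup.subset_closure hg
    rwa [h, mem_bot] at h2
  · exact h

theorem x₁_mem_E : x₁ ∈ E := OD_le_E x₁_mem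

theorem fixO_r : fixO r = E := by
  apply le_antisymm
  · refine (closure_le _).2 ?_
    rintro x ⟨hx, ho⟩
    by_contra hE
    have hE' : x ∉ E := hE
    have h1 : y * x ∈ E := (CR_cases hx).resolve_left hE'
    have h2 : x * x ∈ E := by
      have hxx : r (x * x) = x * x := by rw [map_mul, hx]
      rcases CR_cases hxx with h | h
      · exact h
      · exfalso
        apply hE'
        have e : x = (y * x)⁻¹ * (y * (x * x)) := by group
        rw [e]
        exact E.mul_mem (E.inv_mem h1) h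
    apply hE'
    obtain ⟨k, hk⟩ := ho
    have h4 : x = (x * x) ^ (k + 1) := by
      rw [← pow_two, ← pow_mul]
      have e3 : 2 * (k + 1) = orderOf x + 1 := by omega
      rw [e3, pow_succ, pow_orderOf_eq_one, one_mul]
    rw [h4]
    exact E.pow_mem h2 _
  · obtain ⟨e⟩ := exists_equiv
    have hs : IsSimpleGroup (Cfsg.PSp 2 F3) := Cfsg.Agent.S0270.result (F := F3) 2 le_rfl
      (fun _ => by rw [show Fintype.card F3 = 3 from rfl])
    have hsE : IsSimpleGroup E := e.isSimpleGroup_congr.2 hs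
    have x1 : (⟨x₁, x₁_mem_E⟩ : E) ≠ 1 := by
      intro h
      have h1 : x₁ = 1 := congrArg Subtype.val h
      have h2 := TS.KL43.frame.act_a.i
      rw [h1, one_mul, inv_one, mul_one] at h2
      have h3 := TS.KL43.frame.ji
      rw [h2] at h3
      exact TS.KL43.frame.z1 (mul_eq_left.1 h3.symm)
    have ho : Odd (orderOf (⟨x₁, x₁_mem_E⟩ : E)) := by
      rw [Subgroup.orderOf_mk]
      exact TS.KL43.frontT.oa
    have h1 := closure_odd x1 ho
    intro g hg
    have h2 : (⟨g, hg⟩ : E) ∈ Subgroup.closure {x : E | Odd (orderOf x)} := by rw [h1]; exact mem_top _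
    have h3 : Subgroup.closure {x : E | Odd (orderOf x)} ≤ (fixO r).comap E.subtype := by
      rw [closure_le]
      intro u hu
      refine Subgroup.subset_closure ⟨E_le u.2, ?_⟩
      have hu' : Odd (orderOf u) := hu
      rwa [← Subgroup.orderOf_coe] at hu'
    exact h3 h2

/-- conjugate automorphisms -/
theorem fixO_conj {K : Type*} [Group K] (α δ : MulAut K) :
    fixO (δ * α * δ⁻¹) = (fixO α).map (δ : K ≃* K).toMonoidHom := by
  have key : ∀ (α δ : MulAut K), (fixO α).map (δ : K ≃* K).toMonoidHom ≤ fixO (δ * α * δ⁻¹) := by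
    intro α δ
    rw [fixO, MonoidHom.map_closure, closure_le]
    rintro _ ⟨x, ⟨hx, ho⟩, rfl⟩
    refine Subgroup.subset_closure ⟨?_, ?_⟩
    · show δ (α (δ⁻¹ (δ x))) = δ x
      rw [MulAut.inv_apply_self, hx]
    · show Odd (orderOf (δ x))
      rwa [show orderOf (δ x) = orderOf x from
        orderOf_injective (δ : K ≃* K).toMonoidHom (δ : K ≃* K).injective x]
  apply le_antisymm _ (key α δ)
  intro x hx
  have h1 := key (δ * α * δ⁻¹) δ⁻¹
  have e : δ⁻¹ * (δ * α * δ⁻¹) * δ⁻¹⁻¹ = α := by group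
  rw [e] at h1
  refine ⟨δ⁻¹ x, h1 ⟨x, hx, rfl⟩, ?_⟩
  show δ (δ⁻¹ x) = x
  exact MulAut.apply_inv_self K δ x

/-- **`Rf` for `L₄(3)`** -/
theorem rf_L : Rf z Q := by
  have h1 : Nonempty (↥(fixO r) ≃* Cfsg.PSp 2 F3) := by
    rw [fixO_r]; exact exists_equiv
  intro α hα _ hz
  refine ⟨F3, inferInstance, inferInstance, rfl, ?_⟩
  rcases TS.KL43.ba_gen hα with h | h | h | h
  · exact absurd (Or.inl h) hz
  · exact absurd (Or.inr h) hz
  · rw [h]; exact h1
  · have e : α = dl * r * dl⁻¹ := by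
      rw [h, dl_r, mul_inv_cancel_right]
    rw [e, fixO_conj]
    obtain ⟨f⟩ := h1
    exact ⟨((fixO r).equivMapOfInjective _ (dl : MulAut L).injective).symm.trans f⟩

/-- transport -/
theorem _root_.Cfsg.Agent.OddHalf.D6.QThree.RefData.Rf.map {K L : Type*} [Group K] [Group L] (e : K ≃* L) {z : K}
    {R : Subgroup K} (h : Rf z R) : Rf (e z) (R.map e.toMonoidHom) := by
  intro β hβ hββ hz
  obtain ⟨α, rfl⟩ := (MulAut.congr e).surjective β
  obtain ⟨F, i1, i2, h1, ⟨f⟩⟩ := h α ((TS.ba_congr e).1 hβ)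
    ((MulAut.congr e).injective (by rw [map_mul, hββ, map_one])) (fun h2 => hz ((TS.z2_congr e).2 h2))
  refine ⟨F, i1, i2, h1, ?_⟩
  have h3 : fixO (MulAut.congr e α) = (fixO α).map e.toMonoidHom := by
    rw [fixO, fixO, MonoidHom.map_closure]
    congr 1
    ext y
    obtain ⟨x, rfl⟩ := e.surjective y
    constructor
    · rintro ⟨hx, ho⟩
      rw [TS.congr_apply] at hx
      rw [Facts.tr_order] at ho
      exact ⟨x, ⟨e.injective hx, ho⟩, rfl⟩
    · rintro ⟨x', ⟨hx, ho⟩, hxx⟩
      have : x' = x := e.injective hxx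
      subst this
      refine ⟨?_, ?_⟩
      · rw [TS.congr_apply, hx]
      · rw [Facts.tr_order]; exact ho
  rw [h3]
  exact ⟨((fixO α).equivMapOfInjective e.toMonoidHom e.injective).symm.trans f⟩

/-- **`FrontK`, `FrontT`, `FK`, `Rf` for `L₄(3)`** -/
theorem exists_all {K : Type*} [Group K] {F : Type*} [Field F] [Fintype F] (hF : Fintype.card F = 3)
    (e : K ≃* Matrix.ProjectiveSpecialLinearGroup (Fin 4) F) :
    ∃ (z : K) (R : Subgroup K) (i j k l a b : K), FrontK z R i j k l a b ∧ FrontT z R i j k l a b ∧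
      KFront.FK z R ∧ Rf z R := by
  obtain ⟨e'⟩ := LargeExtra.W2.LFour.PslFacts.psl_congr F hF
  have hT := TS.KL43.frontT.map (e'.trans e.symm)
  refine ⟨_, _, _, _, _, _, _, _, hT.frontK ?_, hT, KFront.fk_L.map (e'.trans e.symm), rf_L.map (e'.trans e.symm)⟩
  intro h
  apply TS.KL43.z_not_central
  rw [← TS.congr_conj] at h
  exact (MulEquiv.map_eq_one_iff (MulAut.congr (e'.trans e.symm))).1 h

end Cfsg.Agent.OddHalf.D6.QThree.L43.RfL
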