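import Cfsg.Agent.OddHalf.D6.QThree.FrontInstB
import Cfsg.Agent.OddHalf.D6.QThree.FrontLocOf
import Cfsg.Agent.OddHalf.D6.QThree.L43.Beta
import Cfsg.Agent.OddHalf.D6.QThree.L43.AlphaM
import Cfsg.Agent.OddHalf.D6.QThree.L43.ReflAll
import Cfsg.Agent.OddHalf.D6.QThree.L43.RefSw
import Cfsg.Agent.OddHalf.D6.QThree.L43.EndCard
import Cfsg.Agent.OddHalf.D6.QThree.L43.EndSympl
import Cfsg.Agent.OddHalf.D6.QThree.L43.RfL
import Cfsg.Agent.OddHalf.D6.QThree.L43End.End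

/-!
# ODD half, D6, `K = L₄(3)`, `T < S`: the assembly from `Out` (helper890, text of helper76, bb #17200)

`KF`: the facts on `K`; `two`, `el`: `B / ⟨t, z⟩` has order at most two, `B` is elementary abelian; `card_B`: `|B| ≤ 8`;
`refD`, `hypB`, `beta`, `noComp`: `C(z)` has no component, if the output `AlphaM.Out` of (A), (B) is impossible;
`false_of`: the contradiction.
-/

set_option autoImplicit false

namespace Cfsg.Agent.OddHalf.D6.QThree.L43.RowTS

open Subgroup Cfsg Cfsg.Agent.OddHalf Cfsg.Agent.OddHalf.Iface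
open Cfsg.Agent.OddHalf.D6.QThree.FrontB (BA Z2 FrontK Out)
open Cfsg.Agent.OddHalf.D6.QThree.FrontLoc
open Cfsg.Agent.OddHalf.D6.QThree.RefData (KH DD)

universe u

/-- the facts on `K = L₄(3)` -/
structure KF {K : Type*} [Group K] (z : K) (R : Subgroup K) (i j k l a b : K) : Prop where
  f : FrontK z R i j k l a b
  rf : RefData.Rf z R
  /-- `B̄` is elementary abelian of order at most four -/
  sq : ∀ α : MulAut K, BA R α → α * α = 1
  cc : ∀ α β : MulAut K, BA R α → BA R β → Z2 z α ∨ Z2 z β ∨ Z2 z (α⁻¹ * β)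

variable {G : Type u} [Group G] {K : Subgroup G} {t : G} {z : K} {R : Subgroup K} {i j k l a b : K}

theorem odd_of_cube {H : Type*} [Group H] {x : H} (h : x * x * x = 1) : Odd (orderOf x) := by
  have h1 : orderOf x ∣ 3 := orderOf_dvd_of_pow_eq_one (by rw [pow_succ, pow_two]; exact h)
  rcases (Nat.dvd_prime Nat.prime_three).1 h1 with h2 | h2 <;> rw [h2] <;> decide

theorem kh (f : FrontK z R i j k l a b) (L : Loc t (z : G) (R.map K.subtype) (i : G) j k l a b) :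
    KH z R i j k l a b :=
  KH.of_K f (odd_of_cube (Subtype.ext L.a3)) (odd_of_cube (Subtype.ext L.b3))

/-- `|B : ⟨t, z⟩| ≤ 2` -/
theorem two (O : OutC K t (z : G)) (κ : KF z R i j k l a b) {x y : G} (hx : Bt t (R.map K.subtype) x)
    (hy : Bt t (R.map K.subtype) y) : T4 t (z : G) x ∨ T4 t (z : G) y ∨ T4 t (z : G) (x⁻¹ * y) := by
  have hxy : x⁻¹ * y * t = t * (x⁻¹ * y) :=
    ((show Commute x t from hx.1).inv_left.mul_left (show Commute y t from hy.1)).eq
  rcases κ.cc _ _ (al_BA O hx) (al_BA O hy) with h | h | h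
  · exact Or.inl (Z2_T4 O hx.1 h)
  · exact Or.inr (Or.inl (Z2_T4 O hy.1 h))
  · right; right
    apply Z2_T4 O hxy
    rw [al_div O hx.1 hy.1 hxy]
    exact h

/-- the squares of the elements of `B` are `1`, `t` -/
theorem sq_cases (O : OutC K t (z : G)) (κ : KF z R i j k l a b) {x : G} (hx : Bt t (R.map K.subtype) x) :
    x * x = 1 ∨ x * x = t := by
  have hxx : x * x * t = t * (x * x) := ((show Commute x t from hx.1).mul_left hx.1).eq
  have h1 := κ.sq _ (al_BA O hx)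
  rw [← al_mul O hx.1 hx.1 hxx] at h1
  apply O.cK _ hxx
  intro y hy
  have h2 := al_apply O hxx ⟨y, hy⟩
  rw [h1, MulAut.one_apply] at h2
  have h3 : y = x * x * y * (x * x)⁻¹ := h2
  exact eq_mul_inv_iff_mul_eq.1 h3

/-- `B` is elementary abelian -/
theorem el (O : OutC K t (z : G)) (κ : KF z R i j k l a b)
    (L : Loc0 t (z : G) (R.map K.subtype) (i : G) j k l a b) [Finite G] {x : G} (hx : Bt t (R.map K.subtype) x) :
    x * x = 1 := by
  rcases sq_cases O κ hx with h | h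
  · exact h
  exfalso
  obtain ⟨s, hs, hsz⟩ := L.s
  have h1 := sq_cases O κ (L.sB hs hsz hx)
  have h2 : s * x * s⁻¹ * (s * x * s⁻¹) = t * z := by
    calc s * x * s⁻¹ * (s * x * s⁻¹) = s * (x * x) * s⁻¹ := by group
      _ = t * z := by rw [h, hs]
  rw [h2] at h1
  rcases h1 with h1 | h1
  · apply L.tz
    have h3 : (t * z) * z = 1 * z := by rw [h1]
    rw [mul_assoc, L.fr.zz, mul_one, one_mul] at h3
    exact h3
  · exact L.fr.z1 (mul_eq_left.1 h1)

/-- `|B| ≤ 8` -/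
theorem card_B (O : OutC K t (z : G)) (κ : KF z R i j k l a b) :
    Nat.card {x : G // Bt t (R.map K.subtype) x} ≤ 8 := by
  classical
  obtain ⟨c, hc⟩ : ∃ c : G, ∀ x, Bt t (R.map K.subtype) x → T4 t (z : G) x ∨ T4 t (z : G) (c⁻¹ * x) := by
    by_cases h : ∃ c, Bt t (R.map K.subtype) c ∧ ¬ T4 t (z : G) c
    · obtain ⟨c, hc, hn⟩ := h
      exact ⟨c, fun x hx => (two O κ hc hx).resolve_left hn⟩
    · push Not at h
      exact ⟨1, fun x hx => Or.inl (h x hx)⟩
  let s : Finset G := {1, (z : G), t, t * z, c, c * z, c * t, c * (t * z)}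
  have h1 : {x : G | Bt t (R.map K.subtype) x} ⊆ (s : Set G) := by
    intro x hx
    have hx' := hc x hx
    simp only [s, Finset.coe_insert, Finset.coe_singleton, Set.mem_insert_iff, Set.mem_singleton_iff]
    rcases hx' with (h | h | h | h) | (h | h | h | h)
    · exact Or.inl h
    · exact Or.inr (Or.inl h)
    · exact Or.inr (Or.inr (Or.inl h))
    · exact Or.inr (Or.inr (Or.inr (Or.inl h)))
    · exact Or.inr (Or.inr (Or.inr (Or.inr (Or.inl (inv_mul_eq_one.1 h).symm))))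
    · exact Or.inr (Or.inr (Or.inr (Or.inr (Or.inr (Or.inl (inv_mul_eq_iff_eq_mul.1 h))))))
    · exact Or.inr (Or.inr (Or.inr (Or.inr (Or.inr (Or.inr (Or.inl (inv_mul_eq_iff_eq_mul.1 h)))))))
    · exact Or.inr (Or.inr (Or.inr (Or.inr (Or.inr (Or.inr (Or.inr (inv_mul_eq_iff_eq_mul.1 h)))))))
  have h2 : Nat.card {x : G | Bt t (R.map K.subtype) x} ≤ Nat.card (s : Set G) :=
    Nat.card_mono (Finset.finite_toSet s) h1
  rw [Nat.card_coe_set_eq (s : Set G), Set.ncard_coe_finset] at h2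
  refine h2.trans ((Finset.card_insert_le _ _).trans ?_)
  have h3 := Finset.card_insert_le (z : G) {t, t * z, c, c * z, c * t, c * (t * z)}
  have h4 : Finset.card {t, t * (z : G), c, c * z, c * t, c * (t * z)} ≤ 6 := Finset.card_le_six
  omega

section

variable (L : Loc t (z : G) (R.map K.subtype) (i : G) j k l a b)

/-- `z` in `X = C(z)` -/
abbrev zX : ↥(centralizer ({(z : G)} : Set G)) := up (z : G) z rfl

/-- `t` in `X` -/
abbrev tX : ↥(centralizer ({(z : G)} : Set G)) := up (z : G) t L.comm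

theorem mem_Q₁ (y : ↥(centralizer ({(z : G)} : Set G))) :
    y ∈ L.frX.Q₁ ↔ (y : G) ∈ closure ({(i : G), (j : G)} : Set G) := by
  rw [L.mem₁, L.fr.Q₁_eq]

theorem mem_Q₂ (y : ↥(centralizer ({(z : G)} : Set G))) :
    y ∈ L.frX.Q₂ ↔ (y : G) ∈ closure ({(k : G), (l : G)} : Set G) := by
  rw [L.mem₂, L.fr.Q₂_eq]

include L

/-- the position of the reflections -/
theorem data (O : Out K t (z : G)) (κ : KF z R i j k l a b) {c : G}
    (hc : Loc.Rf t (z : G) (R.map K.subtype) c) : ∃ (L : Subgroup G) (F : Type) (_ : Field F) (_ : Fintype F),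
      RefOf.Data t (z : G) c (closure {(i : G), (j : G), (k : G), (l : G), (a : G), (b : G)}) (R.map K.subtype) L F := by
  have hcz : c * z = z * c := hc.1.2 z L.zR
  obtain ⟨E, F, i1, i2, h⟩ := RefSw.data_of O.tt O.t1 O.Kt O.nK O.cK (kh κ.f L) κ.rf (z' := zX) (t' := tX L)
    rfl rfl (mem_Q₁ L) (mem_Q₂ L) (up (z : G) c hcz)
    ⟨(L.Bt_iff _).2 hc.1, Subtype.ext hc.2.1, fun h => hc.2.2 ((L.T4_iff _).1 h)⟩
  refine ⟨E, F, i1, i2, ?_⟩
  rw [closure_map]
  exact h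

theorem refD (C : Ctx G) (hSp : Pump.SpOrd.{u}) (S : Std G K) (hK : Nat.card K ≤ 6531840)
    (hN : ∀ c : G, c * c = 1 → c ≠ 1 → ∀ K : Subgroup G, CompOf c K → ¬ NI3.HasY ↥K)
    (O : Out K t (z : G)) (κ : KF z R i j k l a b) {c : G} (hc : Loc.Rf t (z : G) (R.map K.subtype) c) :
    NIB.RefD t (z : G) c (closure {(i : G), (j : G), (k : G), (l : G), (a : G), (b : G)}) := by
  obtain ⟨E, F, _, _, h⟩ := data L O κ hc
  rcases h.main C hSp S hK (hN c hc.2.1 fun h => hc.2.2 (Or.inl h)) with h1 | ⟨M, L', -, -, h1⟩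
  · left
    apply Diag.sn_of_conj
    rintro g ⟨hg1, hg2⟩ d hd
    exact h1 g (mem_centralizer_singleton_iff.1 hg1) (mem_centralizer_singleton_iff.1 hg2) d hd
  · exact Or.inr ⟨M, L', h1⟩

/-- `HypB`, if not all components are centralised by `Q₁` and `Q₂` -/
theorem hypB (C : Ctx G) (hSp : Pump.SpOrd.{u}) (S : Std G K) (hK : Nat.card K ≤ 6531840)
    (hN : ∀ c : G, c * c = 1 → c ≠ 1 → ∀ K : Subgroup G, CompOf c K → ¬ NI3.HasY ↥K)
    (O : Out K t (z : G)) (κ : KF z R i j k l a b) (hall : ¬ AlphaM.All L.frX.Q₁ L.frX.Q₂) :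
    NIB.HypB zX (tX L) (up (z : G) a (az L.fr)) (up (z : G) b (bz L.fr)) L.frX.Q₁ L.frX.Q₂ :=
  L.hypB C (fun _ hc => refD L C hSp S hK hN O κ hc) fun _ _ _ h => absurd h hall

/-- **(beta)**: no component of `C(z)` contains `Q₁` or `Q₂` -/
theorem beta (hGW : SylowSp4.Hyps.GW.{u}) (I : Intr2.{u}) (hS : CaseM.IntrSign.{u}) (C : Ctx G)
    (hcy : ∀ K : Subgroup G, Std0 G K → PRankLE 2 1 ↥(centralizer (K : Set G)) → Cyc K) (hSp : Pump.SpOrd.{u})
    (S : Std G K) (hK : Nat.card K < 6531840)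
    (hN : ∀ c : G, c * c = 1 → c ≠ 1 → ∀ K : Subgroup G, CompOf c K → ¬ NI3.HasY ↥K)
    (O : Out K t (z : G)) (κ : KF z R i j k l a b)
    (h : NIB.HypB zX (tX L) (up (z : G) a (az L.fr)) (up (z : G) b (bz L.fr)) L.frX.Q₁ L.frX.Q₂) : False := by
  have hfin := C.fin
  have hz : orderOf (z : G) = 2 := orderOf_eq_prime (by rw [pow_two]; exact L.fr.zz) L.fr.z1
  obtain ⟨M, hM, hQ⟩ := h.exists_comp
  refine Beta.false_of hGW I hS C hcy hz rfl h (fun c hc => Subtype.ext (el (OutC.of_out O) κ L.toLoc0 ((L.Bt_iff c).1 hc))) ?_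
    (RefSw.refTri_of C hSp S hK hN O.tt O.t1 O.Kt O.nK O.cK (kh κ.f L) κ.rf rfl rfl h.s₁ h.s₂ h.comm rfl rfl
      (mem_Q₁ L) (mem_Q₂ L)) hM hQ
  intro c d hc hd
  rw [L.T4_iff]
  rcases two (OutC.of_out O) κ ((L.Bt_iff c).1 hc.1) ((L.Bt_iff d).1 hd.1) with h1 | h1 | h1
  · exact absurd ((L.T4_iff c).2 h1) hc.2.2
  · exact absurd ((L.T4_iff d).2 h1) hd.2.2
  · have hci : (c : G)⁻¹ = c := inv_eq_of_mul_eq_one_right (congrArg Subtype.val hc.2.1)
    rw [hci] at h1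
    exact h1

/-- (C), (D) of (alpha): the output of (A), (B) is impossible -/
def Alpha : Prop := ∀ M : Subgroup ↥(centralizer ({(z : G)} : Set G)),
  ¬ AlphaM.Out zX (tX L) L.frX.Q₁ L.frX.Q₂ M

/-- **(NI)**: `C(z)` has no component -/
theorem noComp (hGW : SylowSp4.Hyps.GW.{u}) (I : Intr2.{u}) (hS : CaseM.IntrSign.{u}) (C : Ctx G)
    (hcy : ∀ K : Subgroup G, Std0 G K → PRankLE 2 1 ↥(centralizer (K : Set G)) → Cyc K) (hSp : Pump.SpOrd.{u})
    (S : Std G K) (hK : Nat.card K < 6531840)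
    (hN : ∀ c : G, c * c = 1 → c ≠ 1 → ∀ K : Subgroup G, CompOf c K → ¬ NI3.HasY ↥K)
    (O : Out K t (z : G)) (κ : KF z R i j k l a b) (hα : Alpha L) :
    ∀ M : Subgroup ↥(centralizer ({(z : G)} : Set G)), ¬ IsComponent M := by
  intro M hM
  have hfin := C.fin
  have hz : orderOf (z : G) = 2 := orderOf_eq_prime (by rw [pow_two]; exact L.fr.zz) L.fr.z1
  have hO : pPrimeCore 2 ↥(centralizer ({(z : G)} : Set G)) = ⊥ := Soft.core_eq_bot (C.bal _ hz)
  have P := L.pre hO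
  have H : DiagEnd.Hyp t (z : G) (closure {(i : G), (j : G), (k : G), (l : G), (a : G), (b : G)}) (R.map K.subtype)
      (closure {(i : G), (j : G), (a : G)}) :=
    L.hyp C fun c hc => NIB.RefD.ref (refD L C hSp S hK.le hN O κ hc) Loc.JD (Diag.sn_of_conj L.nJ)
  by_cases hall : AlphaM.All L.frX.Q₁ L.frX.Q₂
  · exact hα M (AlphaM.out hGW hS C hz rfl P (L.elemX H) L.tH hall
      (fun c hc => Subtype.ext (el (OutC.of_out O) κ L.toLoc0 ((L.Bt_iff c).1 hc)))
      (ReflAll.refl_X C hSp S hK hN O.tt O.t1 O.Kt O.nK O.cK (kh κ.f L) κ.rf rfl rfl P.sol (mem_Q₁ L) (mem_Q₂ L)) hM)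
  · exact beta L hGW I hS C hcy hSp S hK hN O κ (hypB L C hSp S hK.le hN O κ hall)

/-- **the contradiction** -/
theorem false_of (hGW : SylowSp4.Hyps.GW.{u}) (I : Intr2.{u}) (hS : CaseM.IntrSign.{u}) (C : Ctx G)
    (hcy : ∀ K : Subgroup G, Std0 G K → PRankLE 2 1 ↥(centralizer (K : Set G)) → Cyc K) (hSp : Pump.SpOrd.{u})
    (S : Std G K) (hK : Nat.card K < 6531840) (h13 : 13 ∣ Nat.card K)
    (hN : ∀ c : G, c * c = 1 → c ≠ 1 → ∀ K : Subgroup G, CompOf c K → ¬ NI3.HasY ↥K)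
    (O : Out K t (z : G)) (κ : KF z R i j k l a b) (hα : Alpha L) : False := by
  have hfin := C.fin
  have hz : orderOf (z : G) = 2 := orderOf_eq_prime (by rw [pow_two]; exact L.fr.zz) L.fr.z1
  have hO : pPrimeCore 2 ↥(centralizer ({(z : G)} : Set G)) = ⊥ := Soft.core_eq_bot (C.bal _ hz)
  have H : DiagEnd.Hyp t (z : G) (closure {(i : G), (j : G), (k : G), (l : G), (a : G), (b : G)}) (R.map K.subtype)
      (closure {(i : G), (j : G), (a : G)}) :=
    L.hyp C fun c hc => NIB.RefD.ref (refD L C hSp S hK.le hN O κ hc) Loc.JD (Diag.sn_of_conj L.nJ)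
  exact L43End.end_false C hz (EndSympl.sympl hO (noComp L hGW I hS C hcy hSp S hK hN O κ hα) zX (L.elemX H))
    (h13.trans (card_subgroup_dvd_card K)) O.tt O.t1 O.nc (EndCard.card_cases L (card_B (OutC.of_out O) κ))

end

end Cfsg.Agent.OddHalf.D6.QThree.L43.RowTS
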